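import Groth.Agent.FlatCx.Tensor
import Mathlib.LinearAlgebra.Contraction
import Mathlib.LinearAlgebra.Dual.Lemmas
import Mathlib.RingTheory.Finiteness.Projective
import Mathlib.CategoryTheory.Linear.Yoneda

/-!
Left exact `H_j(P ⊗ -)` is corepresentable, for complexes of any shape.
-/

set_option autoImplicit false
set_option linter.style.haveILetI false

universe u

open CategoryTheory CategoryTheory.Limits Opposite Groth.Agent.FlatCx
open scoped TensorProduct

namespace Groth.Agent.W7Cech

namespace Corep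

variable {A : Type u} [CommRing A]

section Eval
variable (C : Type u) [AddCommGroup C] [Module A C]

/-- `C ⊗ M → Hom(C^∨, M)`. -/
noncomputable def eps (M : Type u) [AddCommGroup M] [Module A M] :
    C ⊗[A] M →ₗ[A] Module.Dual A C →ₗ[A] M :=
  dualTensorHom A (Module.Dual A C) M ∘ₗ (Module.Dual.eval A C).rTensor M

theorem eps_tmul {M : Type u} [AddCommGroup M] [Module A M] (x : C) (y : M) (φ : Module.Dual A C) :
    eps C M (x ⊗ₜ[A] y) φ = φ x • y := rfl

theorem eps_bijective [Module.Finite A C] [Module.Projective A C] (M : Type u) [AddCommGroup M] [Module A M] :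
    Function.Bijective (eps (A := A) C M) := by
  have h1 : Function.Bijective (dualTensorHom A (Module.Dual A C) M) :=
    (dualTensorHomEquiv A (Module.Dual A C) M).bijective
  exact h1.comp ((Module.evalEquiv A C).rTensor M).bijective

theorem eps_natural {M N : Type u} [AddCommGroup M] [Module A M] [AddCommGroup N] [Module A N] (g : M →ₗ[A] N)
    (x : C ⊗[A] M) : eps C N (g.lTensor C x) = g ∘ₗ eps C M x := by
  induction x with
  | zero => simp
  | tmul a b => ext φ; simp [eps_tmul]
  | add a b ha hb => rw [map_add, map_add, ha, hb, map_add, LinearMap.comp_add]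

theorem eps_rTensor (W : Type u) [AddCommGroup W] [Module A W] (δ : C →ₗ[A] W) {M : Type u} [AddCommGroup M]
    [Module A M] (x : C ⊗[A] M) : eps W M (δ.rTensor M x) = eps C M x ∘ₗ δ.dualMap := by
  induction x with
  | zero => simp
  | tmul a b => ext φ; simp [eps_tmul]
  | add a b ha hb => rw [map_add, map_add, ha, hb, map_add, LinearMap.add_comp]

end Eval

variable {ι : Type} {c : ComplexShape ι} (P : HomologicalComplex (ModuleCat.{u} A) c) (j : ι)

/-- The opcycles at `j`. -/
abbrev C₀ : Type u := Opc P (c.prev j) j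

/-- The differential on opcycles. -/
noncomputable def delta : C₀ P j →ₗ[A] P.X (c.next j) :=
  Submodule.liftQ _ (P.d j (c.next j)).hom (by
    rintro _ ⟨x, rfl⟩
    rw [LinearMap.mem_ker, ← LinearMap.comp_apply, ← ModuleCat.hom_comp, P.d_comp_d]
    rfl)

theorem delta_rTensor (M : Type u) [AddCommGroup M] [Module A M] (z : P.X j ⊗[A] M) :
    (delta P j).rTensor M ((opq P _ j).rTensor M z) = dT P M j (c.next j) z := by
  rw [← LinearMap.comp_apply, ← LinearMap.rTensor_comp]
  rfl

/-- The representing module. -/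
abbrev Q₀ : Type u := Module.Dual A (C₀ P j) ⧸ LinearMap.range (delta P j).dualMap

/-- The map on cycles. -/
noncomputable def Psi (M : ModuleCat.{u} A) :
    LinearMap.ker (dT P M j (c.next j)) →ₗ[A] (ModuleCat.of A (Q₀ P j) ⟶ M) where
  toFun z := ModuleCat.ofHom ((LinearMap.range (delta P j).dualMap).liftQ (eps (C₀ P j) M ((opq P _ j).rTensor M z.1)) (by
    rintro _ ⟨ψ, rfl⟩
    rw [LinearMap.mem_ker, ← LinearMap.comp_apply, ← eps_rTensor, delta_rTensor, z.2, map_zero]
    rfl))
  map_add' a b := ModuleCat.hom_ext (Submodule.linearMap_qext _ (by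
    ext φ
    simp))
  map_smul' r a := ModuleCat.hom_ext (Submodule.linearMap_qext _ (by
    ext φ
    simp))

theorem Psi_apply (M : ModuleCat.{u} A) (z : LinearMap.ker (dT P M j (c.next j)))
    (φ : Module.Dual A (C₀ P j)) :
    (Psi P j M z).hom (Submodule.Quotient.mk φ) = eps (C₀ P j) M ((opq P _ j).rTensor M z.1) φ := rfl

theorem ker_cls_le (M : ModuleCat.{u} A) : LinearMap.ker (cls P j M) ≤ LinearMap.ker (Psi P j M) := by
  intro z hz
  have h := (exact_dT_opq (P := P) M _).2 ((cls_eq_zero_iff P j M z).1 hz)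
  refine ModuleCat.hom_ext (Submodule.linearMap_qext _ (LinearMap.ext fun φ => ?_))
  show eps (C₀ P j) M ((opq P _ j).rTensor M z.1) φ = 0
  rw [h, map_zero, LinearMap.zero_apply]

/-- The map `T_j(M) → Hom(Q₀, M)`. -/
noncomputable def Phi (M : ModuleCat.{u} A) : CohIII.T P j M →ₗ[A] (ModuleCat.of A (Q₀ P j) ⟶ M) :=
  (LinearMap.ker (cls P j M)).liftQ (Psi P j M) (ker_cls_le P j M) ∘ₗ
    ((cls P j M).quotKerEquivOfSurjective (cls_surjective P j M)).symm.toLinearMap

theorem Phi_cls (M : ModuleCat.{u} A) (z : LinearMap.ker (dT P M j (c.next j))) :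
    Phi P j M (cls P j M z) = Psi P j M z := by
  have h : ((cls P j M).quotKerEquivOfSurjective (cls_surjective P j M)).symm (cls P j M z) =
      Submodule.Quotient.mk z := by
    rw [LinearEquiv.symm_apply_eq]
    rfl
  show (LinearMap.ker (cls P j M)).liftQ (Psi P j M) (ker_cls_le P j M) _ = _
  exact (congrArg _ h).trans rfl

variable [Module.Finite A (C₀ P j)] [Module.Projective A (C₀ P j)]
  [Module.Finite A (P.X (c.next j))] [Module.Projective A (P.X (c.next j))]

theorem Phi_bijective (M : ModuleCat.{u} A) : Function.Bijective (Phi P j M) := by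
  refine ⟨(injective_iff_map_eq_zero _).2 fun t ht => ?_, fun h => ?_⟩
  · obtain ⟨z, rfl⟩ := cls_surjective P j M t
    rw [Phi_cls] at ht
    rw [cls_eq_zero_iff]
    refine (exact_dT_opq (P := P) M _).1 ((eps_bijective (C₀ P j) M).1 ?_)
    rw [map_zero]
    ext φ
    rw [← Psi_apply, ht]
    rfl
  · obtain ⟨e, he⟩ := (eps_bijective (C₀ P j) M).2 (h.hom ∘ₗ (LinearMap.range (delta P j).dualMap).mkQ)
    obtain ⟨z, rfl⟩ := LinearMap.rTensor_surjective M (g := opq P _ j) (Submodule.mkQ_surjective _) e
    have hz : dT P M j (c.next j) z = 0 := by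
      refine (eps_bijective (P.X (c.next j)) M).1 ?_
      rw [← delta_rTensor, eps_rTensor, he, map_zero]
      ext ψ
      show h.hom (Submodule.Quotient.mk ((delta P j).dualMap ψ)) = 0
      rw [(Submodule.Quotient.mk_eq_zero _).2 (LinearMap.mem_range_self _ ψ), map_zero]
    refine ⟨cls P j M ⟨z, hz⟩, ?_⟩
    rw [Phi_cls]
    refine ModuleCat.hom_ext (Submodule.linearMap_qext _ (LinearMap.ext fun φ => ?_))
    exact LinearMap.congr_fun he φ

theorem nonempty_iso : Nonempty (CohIII.TFun P j ≅
    (linearCoyoneda A (ModuleCat.{u} A)).obj (op (ModuleCat.of A (Q₀ P j)))) := by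
  refine ⟨NatIso.ofComponents (fun M => (LinearEquiv.ofBijective (Phi P j M) (Phi_bijective P j M)).toModuleIso)
    (fun {M N} g => ?_)⟩
  refine ModuleCat.hom_ext (LinearMap.ext fun (t : CohIII.T P j M) => ?_)
  obtain ⟨z, rfl⟩ := cls_surjective P j M t
  show Phi P j N ((CohIII.TFun P j).map g (cls P j M z)) = Phi P j M (cls P j M z) ≫ g
  rw [Phi_cls]
  refine (congrArg (Phi P j N) (TFun_map_cls P j g z)).trans ?_
  rw [Phi_cls]
  refine ModuleCat.hom_ext (Submodule.linearMap_qext _ (LinearMap.ext fun φ => ?_))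
  show eps (C₀ P j) N ((opq P _ j).rTensor N (g.hom.lTensor (P.X j) z.1)) φ =
    g.hom (eps (C₀ P j) M ((opq P _ j).rTensor M z.1) φ)
  rw [opc_comm, eps_natural]
  rfl


end Corep

open Corep in
theorem preservesMono_iff_corep {A : Type u} [CommRing A] [IsNoetherianRing A] {ι : Type} {c : ComplexShape ι}
    (P : HomologicalComplex (ModuleCat.{u} A) c)
    (hP : ∀ i, Module.Finite A (P.X i) ∧ Module.Flat A (P.X i)) (p : ι) :
    (CohIII.TFun P p).PreservesMonomorphisms ↔
      ∃ Q : ModuleCat.{u} A, Module.Finite A Q ∧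
        Nonempty (CohIII.TFun P p ≅ (linearCoyoneda A (ModuleCat.{u} A)).obj (op Q)) := by
  refine ⟨fun h => ?_, ?_⟩
  · haveI := (preservesMono_iff_flat_opc (fun i => (hP i).2) rfl rfl).1 h
    haveI := (hP (c.next p)).1
    haveI := (hP (c.next p)).2
    haveI := (hP p).1
    haveI : Module.FinitePresentation A (P.X (c.next p)) := Module.finitePresentation_of_finite A _
    haveI : Module.Projective A (P.X (c.next p)) := Module.Flat.projective_of_finitePresentation
    haveI : Module.FinitePresentation A (C₀ P p) := Module.finitePresentation_of_finite A _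
    haveI : Module.Projective A (C₀ P p) := Module.Flat.projective_of_finitePresentation
    exact ⟨ModuleCat.of A (Q₀ P p), inferInstanceAs (Module.Finite A (Q₀ P p)), nonempty_iso P p⟩
  · rintro ⟨Q, -, ⟨e⟩⟩
    refine (Functor.PreservesMonomorphisms.iso_iff e).2 ⟨fun {X Y} g hg => ?_⟩
    refine (ModuleCat.mono_iff_injective _).2 fun a b hab => ?_
    exact (cancel_mono g).1 hab

end Groth.Agent.W7Cech
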