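import Groth.Agent.W7Cech.Approx
import Groth.Agent.W7Cech.Corep

/-!
`Γ(X, -)` is `H^0(X, -)` linearly, and `M ↦ Γ(X, F ⊗_A M)` is corepresentable.
-/

set_option autoImplicit false
set_option backward.isDefEq.respectTransparency false
set_option backward.isDefEq.respectTransparency.types false
set_option linter.style.haveILetI false

universe u

open CategoryTheory CategoryTheory.Limits AlgebraicGeometry TopologicalSpace Opposite

noncomputable section

namespace Groth.Agent.W7Cech

variable (A : Type u) [CommRing A] {X : Scheme.{u}} [X.Over (Spec (CommRingCat.of A))]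

/-- Global sections are `H^0`. -/
def gsH0 (M : X.Modules) : ((CohIII.globalSectionsA A).obj M : Type u) ≃+ Coh.HH X M 0 :=
  ((Sheaf.H.equiv₀ (Coh.toAb M) (Limits.isTerminalTop (α := X.Opens))).symm :
    Γ(M, ⊤) ≃+ Coh.HH X M 0)

lemma gsH0_natural {M N : X.Modules} (φ : M ⟶ N) (x : ((CohIII.globalSectionsA A).obj M : Type u)) :
    gsH0 A N (((CohIII.globalSectionsA A).map φ).hom x) =
      Sheaf.H.map ((SheafOfModules.toSheaf _).map φ) 0 (gsH0 A M x) :=
  (Sheaf.H.equiv₀_symm_naturality (Limits.isTerminalTop (α := X.Opens))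
    ((SheafOfModules.toSheaf X.ringCatSheaf).map φ) _).symm

lemma gsH0_smul (M : X.Modules) (a : A) (x : ((CohIII.globalSectionsA A).obj M : Type u)) :
    gsH0 A M (a • x) = a • gsH0 A M x := by
  refine Eq.trans (congrArg (gsH0 A M) ?_) (Sheaf.H.equiv₀_symm_naturality (Limits.isTerminalTop (α := X.Opens))
    (Coh.smulAb M (Coh.toGlobal (X ↘ Spec (CommRingCat.of A)) a)) x).symm
  rw [Coh.smulAb_app]
  refine congrArg (fun c : Γ(X, ⊤) => c • (show Γ(M, ⊤) from x)) ?_
  exact (Groth.Agent.QC.resO_self le_rfl _).symm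

/-- `Γ(X, -) ≅ H^0(X, -)`, linearly. -/
def gsH0L (M : X.Modules) : ((CohIII.globalSectionsA A).obj M : Type u) ≃ₗ[A] Coh.HH X M 0 :=
  { gsH0 A M with map_smul' := gsH0_smul A M }

variable [IsNoetherianRing A] [IsProper (X ↘ Spec (CommRingCat.of A))]

/-- `M ↦ Γ(X, F ⊗_A M)` through a complex of finite free modules, and its left exactness. -/
theorem exists_globalSections_model (F : X.Modules) (hF : Coh.IsCoh F)
    (hfl : FlatMod.IsFlatOver (X ↘ Spec (CommRingCat.of A)) F) :
    ∃ L : CochainComplex (ModuleCat.{u} A) ℤ, (∀ i, Module.Finite A (L.X i) ∧ Module.Free A (L.X i)) ∧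
      Nonempty (CohIII.tensorAFunctor A F ⋙ CohIII.globalSectionsA A ≅ CohIII.TFun L 0) ∧
      (CohIII.TFun L 0).PreservesMonomorphisms := by
  obtain ⟨L, b, hL, -, hneg, he⟩ := exists_approx A F hF hfl
  have hf : ∀ i, Module.Flat A (L.X i) := fun i => haveI := (hL i).2; inferInstance
  obtain ⟨e, hn⟩ := he 0
  refine ⟨L, hL, ⟨NatIso.ofComponents
    (fun M => ((gsH0L A ((CohIII.tensorAFunctor A F).obj M)).trans (e M).symm).toModuleIso) fun {M N} g => ?_⟩, ?_⟩
  · refine ModuleCat.hom_ext (LinearMap.ext fun x => (e N).injective ?_)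
    refine ((e N).apply_symm_apply _).trans (Eq.trans ?_ (hn M N g _).symm)
    refine (gsH0_natural A ((CohIII.tensorAFunctor A F).map g) x).trans ?_
    exact congrArg (Sheaf.H.map ((SheafOfModules.toSheaf _).map ((CohIII.tensorAFunctor A F).map g)) 0)
      ((e M).apply_symm_apply _).symm
  · have hz : ∀ M, IsZero (CohIII.T L (-1) M) := fun M => hneg (-1) (by omega) M
    have h0 : (CohIII.TFun L (-1)).PreservesEpimorphisms :=
      ⟨fun {M N} _ _ => ⟨fun a b _ => (hz N).eq_of_src a b⟩⟩
    exact (FlatCx.preservesEpi_iff_preservesMono_next hf rfl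
      (show (ComplexShape.up ℤ).next (-1) = 0 by simp)
      (show (ComplexShape.up ℤ).prev (0 : ℤ) = -1 by simp) rfl).1 h0

end Groth.Agent.W7Cech
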