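import Groth.Agent.W7Cech.GrauertSheaf
import Groth.Agent.PinchQC.Basic

/-!
Applications: vanishing near a point, constancy of fibre ranks.
-/

set_option autoImplicit false
set_option backward.isDefEq.respectTransparency false
set_option backward.isDefEq.respectTransparency.types false
set_option linter.style.haveILetI false

universe u

open CategoryTheory CategoryTheory.Limits AlgebraicGeometry TopologicalSpace MonoidalCategory Opposite
open Groth.Agent.FlatCx

noncomputable section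

namespace Groth.Agent.W7Cech

lemma isLocallyConstant_of_fromSpec {S : Scheme.{u}} {Y : Type*} (g : S → Y)
    (h : ∀ (V : S.Opens) (hV : IsAffineOpen V), IsLocallyConstant fun x => g (hV.fromSpec x)) :
    IsLocallyConstant g := by
  refine IsLocallyConstant.iff_exists_open _ |>.2 fun y => ?_
  obtain ⟨V, hV, hy, -⟩ := exists_isAffineOpen_mem_and_subset (X := S) (x := y) (U := ⊤) trivial
  obtain ⟨W, hW, hxW, hc⟩ := (IsLocallyConstant.iff_exists_open _).1 (h V hV) (hV.primeIdealOf ⟨y, hy⟩)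
  refine ⟨hV.fromSpec '' W, hV.fromSpec.isOpenEmbedding.isOpenMap W hW,
    ⟨_, hxW, hV.fromSpec_primeIdealOf ⟨y, hy⟩⟩, ?_⟩
  rintro _ ⟨x, hx, rfl⟩
  refine (hc x hx).trans ?_
  exact congrArg g (hV.fromSpec_primeIdealOf ⟨y, hy⟩)

variable {X S : Scheme.{u}} (f : X ⟶ S) [IsProper f] [IsLocallyNoetherian S]
  [HasInjectiveResolutions X.Modules] {F : X.Modules} (hF : Coh.IsCoh F) (hfl : FlatMod.IsFlatOver f F)

include hF hfl in
/-- Where the fibre cohomology vanishes, so does the higher direct image. -/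
theorem isZero_restrict_of_vanish (p : ℕ) (U : S.Opens) (h : ∀ y ∈ U, Subsingleton (CohIII.fiberH f F y p)) :
    IsZero (((Coh.Rpush f p).obj F).restrict U.ι) := by
  let R := (Coh.Rpush f p).obj F
  have hR : Coh.IsCoh R := CohFinite.isCoh_rpush f F hF p
  refine CohFinite.isZero_of_affine_cover (R.restrict U.ι) (Groth.Agent.QC.isQCoh_restrict _ hR.1)
    (fun V : U.toScheme.affineOpens => V.1) (fun V => V.2)
    (fun x => by
      obtain ⟨V, hV, hx, -⟩ := exists_isAffineOpen_mem_and_subset (X := U.toScheme) (x := x) (U := ⊤) trivial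
      exact ⟨⟨V, hV⟩, hx⟩) fun V s => ?_
  have hW : IsAffineOpen (U.ι ''ᵁ V.1) := V.2.image_of_isOpenImmersion U.ι
  obtain ⟨m⟩ := nonempty_Model f hF hfl hW
  haveI := m.noeth
  obtain ⟨e⟩ := m.hR p
  have hle : U.ι ''ᵁ V.1 ≤ U := by
    rintro _ ⟨x, -, rfl⟩
    exact x.2
  haveI : Subsingleton (CohIII.T m.L (p : ℤ) (ModuleCat.of Γ(S, U.ι ''ᵁ V.1) Γ(S, U.ι ''ᵁ V.1))) :=
    ModuleCat.subsingleton_of_isZero (m.isZero_T f p (fun y hy => h y (hle hy)) _)
  haveI : Subsingleton (Hm m.L (p : ℤ)) :=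
    (HmEquivT m.L (flatX m.L m.hL) (p : ℤ)).injective.subsingleton
  haveI : Subsingleton Γ(R, U.ι ''ᵁ V.1) := e.injective.subsingleton
  exact (R.restrictAppIso U.ι V.1).addCommGroupIsoToAddEquiv.injective (Subsingleton.elim _ _)

include hF hfl in
/-- Vanishing of the cohomology of a fibre spreads to a neighbourhood. -/
theorem exists_nhd_vanish (p : ℕ) (y : S) (hy : Subsingleton (CohIII.fiberH f F y p)) :
    ∃ U : S.Opens, y ∈ U ∧ ∀ z ∈ U, Subsingleton (CohIII.fiberH f F z p) := by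
  obtain ⟨V, hV, hyV, -⟩ := exists_isAffineOpen_mem_and_subset (X := S) (x := y) (U := ⊤) trivial
  obtain ⟨m⟩ := nonempty_Model f hF hfl hV
  haveI := m.noeth
  let W : Set (PrimeSpectrum Γ(S, V)) := {x | CohIII.dRank m.L (p : ℤ) x < 1}
  have hW : IsOpen W := upperSemicontinuous_iff_isOpen_preimage.1
    (upperSemicontinuous_dRank m.L (finiteFlatX m.L m.hL) (finitePresentationX m.L m.hL) p) 1
  refine ⟨⟨hV.fromSpec '' W, hV.fromSpec.isOpenEmbedding.isOpenMap W hW⟩,
    ⟨hV.primeIdealOf ⟨y, hyV⟩, ?_, hV.fromSpec_primeIdealOf ⟨y, hyV⟩⟩, ?_⟩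
  · have h0 : CohIII.dRank m.L (p : ℤ) (hV.primeIdealOf ⟨y, hyV⟩) = 0 :=
      (m.hsub p _).1 (by
        rw [show hV.fromSpec (hV.primeIdealOf ⟨y, hyV⟩) = y from hV.fromSpec_primeIdealOf ⟨y, hyV⟩]
        exact hy)
    exact h0.le.trans_lt Nat.zero_lt_one
  · rintro _ ⟨x, hx, rfl⟩
    exact (m.hsub p x).2 (Nat.lt_one_iff.1 hx)

include hF hfl in
/-- Locally free direct images in all degrees: locally constant fibre ranks. -/
theorem isLocallyConstant_fiberRank_of_flat (p : ℕ)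
    (h : ∀ i : ℕ, FlatMod.IsFinLocFree ((Coh.Rpush f i).obj F)) :
    IsLocallyConstant (CohIII.fiberRank f F p) := by
  refine isLocallyConstant_of_fromSpec _ fun V hV => ?_
  obtain ⟨m⟩ := nonempty_Model f hF hfl hV
  haveI := m.noeth
  have hflat : ∀ n : ℕ, Module.Flat Γ(S, V) Γ((Coh.Rpush f n).obj F, V) := fun n =>
    LocFree.flat_sections hV (CohFinite.isCoh_rpush f F hF n).1 (DerPerf.isFlat_of_isFinLocFree (h n))
  have he := m.epi_of_flat f 0 (fun n _ => hflat n) p (Nat.zero_le p)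
  have hW := (preservesEpi_iff_flat_opc m.L (p : ℤ) (flatX m.L m.hL) (up_prev_next _)).1 he
  obtain ⟨e⟩ := m.hR p
  haveI := hflat p
  haveI : Module.Flat Γ(S, V) (Hm m.L (p : ℤ)) := Module.Flat.of_linearEquiv e.symm
  haveI := finite_HmL m.L m.hL (p : ℤ)
  haveI : Module.FinitePresentation Γ(S, V) (Hm m.L (p : ℤ)) := Module.finitePresentation_of_finite _ _
  rw [show (fun x => CohIII.fiberRank f F p (hV.fromSpec x)) = Module.rankAtStalk (Hm m.L (p : ℤ)) from
    funext fun x => ((m.hrk p x).trans (dRank_eq_fdim m.L (flatX m.L m.hL) _ hW x)).trans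
      (fdim_eq_rankAtStalk _ x)]
  exact Module.isLocallyConstant_rankAtStalk

include hF hfl in
/-- No higher direct images: no higher cohomology of fibres, and a locally free direct image. -/
theorem of_higher_vanish (h : ∀ i : ℕ, 0 < i → IsZero ((Coh.Rpush f i).obj F)) :
    (∀ y : S, ∀ i : ℕ, 0 < i → Subsingleton (CohIII.fiberH f F y i)) ∧
      FlatMod.IsFinLocFree ((Coh.Rpush f 0).obj F) ∧
      ∀ y : S, ∃ U : S.Opens, y ∈ U ∧ Nonempty (((Coh.Rpush f 0).obj F).restrict U.ι ≅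
        FlatMod.freeMod (↑U) (CohIII.fiberRank f F 0 y)) := by
  have hz : ∀ (V : S.Opens) (i : ℕ), 0 < i → Subsingleton Γ((Coh.Rpush f i).obj F, V) := fun V i hi =>
    PinchQC.subsingleton_sections_of_isZero (h i hi) V
  have hepi : ∀ {V : S.Opens} {hV : IsAffineOpen V} (m : Model f F hV) (p : ℕ),
      (CohIII.TFun m.L (p : ℤ)).PreservesEpimorphisms := fun {V} {hV} m p =>
    m.epi_of_flat f 0 (fun n hn => by haveI := hz V n hn; infer_instance) p (Nat.zero_le p)
  refine ⟨fun y i hi => ?_, locFree_of_good f hF hfl 0 fun y => ⟨⊤, trivial, fun V hV _ m => ?_⟩⟩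
  · obtain ⟨V, hV, hyV, -⟩ := exists_isAffineOpen_mem_and_subset (X := S) (x := y) (U := ⊤) trivial
    obtain ⟨m⟩ := nonempty_Model f hF hfl hV
    obtain ⟨e⟩ := m.hR i
    haveI := hz V i hi
    haveI : Subsingleton (Hm m.L (i : ℤ)) := e.symm.injective.subsingleton
    rw [← show hV.fromSpec (hV.primeIdealOf ⟨y, hyV⟩) = y from hV.fromSpec_primeIdealOf ⟨y, hyV⟩, m.hsub i,
      dRank_eq_fdim m.L (flatX m.L m.hL) _
        ((preservesEpi_iff_flat_opc m.L (i : ℤ) (flatX m.L m.hL) (up_prev_next _)).1 (hepi m i)), fdim]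
    exact Module.finrank_zero_of_subsingleton
  · haveI := m.noeth
    haveI := finite_HmL m.L m.hL (((0 : ℕ) : ℤ))
    have hm : (CohIII.TFun m.L ((0 : ℕ) : ℤ)).PreservesMonomorphisms := by
      have h1 := (T_epi_iff_mono_succ m.L (flatX m.L m.hL) (-1)).1
        (isZero_T_of_isZero_homology_all m.L (m.hneg (-1) (by omega))).2
      exact h1
    obtain ⟨hf, hr⟩ := flat_Hm_of_exact m.L (flatX m.L m.hL) _ (up_prev_next _) ⟨hm, hepi m 0⟩
    exact ⟨hf, fun x => (hr x).trans (fdim_eq_rankAtStalk _ x)⟩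

end Groth.Agent.W7Cech
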