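import Groth.Agent.FlatCx.Artinian
import Groth.Agent.FlatCx.Tensor
import Groth.Agent.DRingKP.Coherent
import Groth.Agent.DerPlus.Acyclic
import Mathlib.Algebra.Category.ModuleCat.Biproducts

/-!
A flat complex with finite cohomology whose tensors with all modules are exact in high degrees is
universally quasi-isomorphic to a bounded above complex of finite free modules.
-/

set_option autoImplicit false
set_option backward.isDefEq.respectTransparency false
set_option backward.isDefEq.respectTransparency.types false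
set_option linter.style.haveILetI false

universe u

open CategoryTheory CategoryTheory.Limits MonoidalCategory
open scoped TensorProduct

attribute [local instance] HasDerivedCategory.standard

noncomputable section

namespace Groth.Agent.W7Cech

variable {A : Type u} [CommRing A]

/-- `- ⊗ M` on cochain complexes. -/
abbrev tF (M : ModuleCat.{u} A) :
    CochainComplex (ModuleCat.{u} A) ℤ ⥤ CochainComplex (ModuleCat.{u} A) ℤ :=
  (tensorRight M).mapHomologicalComplex (ComplexShape.up ℤ)

lemma isZero_T_iff (K : CochainComplex (ModuleCat.{u} A) ℤ) (M : ModuleCat.{u} A) (n : ℤ) :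
    IsZero (CohIII.T K (n + 1) M) ↔
      ∀ z : K.X (n + 1) ⊗[A] M, FlatCx.dT K M (n + 1) (n + 1 + 1) z = 0 →
        z ∈ LinearMap.range (FlatCx.dT K M n (n + 1)) :=
  FlatCx.isZero_homology_iff (K := CohIII.tensorObj K M) (j := n + 1) (by simp) (by simp)

/-- An acyclic complex of flat modules, whose tensors are exact in high degrees, stays acyclic after
tensoring. -/
theorem isZero_T_of_acyclic (K : CochainComplex (ModuleCat.{u} A) ℤ) (hK : ∀ m, Module.Flat A (K.X m))
    (hac : K.Acyclic) (t : ℤ) (hh : ∀ n, t ≤ n → ∀ M : ModuleCat.{u} A, IsZero (CohIII.T K n M))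
    (n : ℤ) (M : ModuleCat.{u} A) : IsZero (CohIII.T K n M) := by
  haveI := hK
  let W : ℤ → Type u := fun m => FlatCx.Opc K m (m + 1)
  let δ : ∀ m, W m →ₗ[A] K.X (m + 1 + 1) := fun m =>
    Submodule.liftQ _ (K.d (m + 1) (m + 1 + 1)).hom (by
      rintro _ ⟨y, rfl⟩
      exact LinearMap.congr_fun (congrArg ModuleCat.Hom.hom (K.d_comp_d m (m + 1) (m + 1 + 1))) y)
  have hδd : ∀ m, (δ m) ∘ₗ FlatCx.opq K m (m + 1) = (K.d (m + 1) (m + 1 + 1)).hom := fun m =>
    Submodule.liftQ_mkQ _ _ _
  have hker : ∀ m (z : K.X (m + 1)), K.d (m + 1) (m + 1 + 1) z = 0 →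
      z ∈ LinearMap.range (K.d m (m + 1)).hom := fun m =>
    (FlatCx.isZero_homology_iff (K := K) (j := m + 1) (by simp) (by simp)).1
      ((K.exactAt_iff_isZero_homology _).1 (hac (m + 1)))
  have hinj : ∀ m, Function.Injective (δ m) := fun m => by
    rw [injective_iff_map_eq_zero]
    intro w hw
    obtain ⟨z, rfl⟩ := Submodule.mkQ_surjective _ w
    exact (Submodule.Quotient.mk_eq_zero _).2 (hker m z hw)
  have hex : ∀ m, Function.Exact (δ m) (FlatCx.opq K (m + 1) (m + 1 + 1)) := fun m => by
    rw [LinearMap.exact_iff, Submodule.ker_mkQ, ← hδd m, LinearMap.range_comp, Submodule.range_mkQ,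
      Submodule.map_top]
  have hδM : ∀ m (N : Type u) [AddCommGroup N] [Module A N],
      (δ m).rTensor N ∘ₗ (FlatCx.opq K m (m + 1)).rTensor N = FlatCx.dT K N (m + 1) (m + 1 + 1) :=
    fun m N _ _ => by rw [← LinearMap.rTensor_comp, hδd m]
  have hflat : ∀ m, Module.Flat A (W m) := by
    suffices h : ∀ m, t ≤ m → Module.Flat A (W m) by
      intro m
      rcases le_or_gt t m with hm | hm
      · exact h m hm
      refine Int.le_induction_down (m := t) (motive := fun k _ => Module.Flat A (W k)) (h t le_rfl)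
        (fun k _ hk => ?_) m hm.le
      obtain ⟨l, rfl⟩ : ∃ l, k = l + 1 := ⟨k - 1, by omega⟩
      rw [show l + 1 - 1 = l by omega]
      haveI := hk
      exact FlatCx.flat_of_flat_quotient (hinj l) (hex l) (Submodule.mkQ_surjective _)
    intro m hm
    obtain ⟨l, rfl⟩ : ∃ l, m = l + 1 := ⟨m - 1, by omega⟩
    refine FlatCx.flat_quotient_of_rTensor_injective (hex l) (Submodule.mkQ_surjective _) fun N _ _ => ?_
    rw [injective_iff_map_eq_zero]
    intro w hw
    obtain ⟨y, rfl⟩ := LinearMap.rTensor_surjective N (Submodule.mkQ_surjective _) w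
    have hy : FlatCx.dT K N (l + 1) (l + 1 + 1) y = 0 := by
      rw [← hδM l N]; exact hw
    obtain ⟨x, rfl⟩ := (isZero_T_iff K (ModuleCat.of A N) l).1 (hh (l + 1) hm (ModuleCat.of A N)) y hy
    exact (FlatCx.exact_dT_opq (P := K) (i := l) (j := l + 1) N _).2 ⟨x, rfl⟩
  obtain ⟨l, rfl⟩ : ∃ l, n = l + 1 := ⟨n - 1, by omega⟩
  refine (isZero_T_iff K M l).2 fun z hz => ?_
  haveI := hflat (l + 1)
  have hi := FlatCx.rTensor_injective_of_flat_quotient (hinj l) (hex l) (Submodule.mkQ_surjective _) M
  have h0 : (FlatCx.opq K l (l + 1)).rTensor M z = 0 := hi (by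
    rw [map_zero, ← LinearMap.comp_apply, hδM l M]; exact hz)
  exact (FlatCx.exact_dT_opq (P := K) (i := l) (j := l + 1) M z).1 h0

lemma isZero_T_of_isZero (K : CochainComplex (ModuleCat.{u} A) ℤ) (n : ℤ) (h : IsZero (K.X n))
    (M : ModuleCat.{u} A) : IsZero (CohIII.T K n M) :=
  ShortComplex.isZero_homology_of_isZero_X₂ _ ((tensorRight M).map_isZero h)

lemma isZero_homology_cone {K L : CochainComplex (ModuleCat.{u} A) ℤ} (φ : K ⟶ L) (n : ℤ)
    (hL : IsZero (L.homology n)) (hK : IsZero (K.homology (n + 1))) :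
    IsZero ((CochainComplex.mappingCone φ).homology n) := by
  let T := DerivedCategory.Q.mapTriangle.obj (CochainComplex.mappingCone.triangle φ)
  have hT : T ∈ distTriang _ := DerivedCategory.mappingCone_triangle_distinguished φ
  have h2 : IsZero ((DerivedCategory.homologyFunctor (ModuleCat.{u} A) n).obj T.obj₂) :=
    hL.of_iso ((DerivedCategory.homologyFunctorFactors _ n).app L)
  have h1 : IsZero ((DerivedCategory.homologyFunctor (ModuleCat.{u} A) (n + 1)).obj T.obj₁) :=
    hK.of_iso ((DerivedCategory.homologyFunctorFactors _ (n + 1)).app K)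
  have h3 := (DerivedCategory.HomologySequence.exact₃ T hT n (n + 1) rfl).isZero_of_both_zeros
    (h2.eq_of_src _ _) (h1.eq_of_tgt _ _)
  exact h3.of_iso ((DerivedCategory.homologyFunctorFactors _ n).app (CochainComplex.mappingCone φ)).symm

lemma flat_prod (P Q : Type u) [AddCommGroup P] [Module A P] [AddCommGroup Q] [Module A Q]
    [Module.Flat A P] [Module.Flat A Q] : Module.Flat A (P × Q) := by
  rw [Module.Flat.iff_rTensor_injective']
  intro J
  rw [injective_iff_map_eq_zero]
  intro z hz
  have h1 : (LinearMap.fst A P Q).lTensor J z = 0 := by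
    apply Module.Flat.rTensor_preserves_injective_linearMap (M := P) (Submodule.subtype J) Subtype.val_injective
    rw [map_zero, ← LinearMap.comp_apply, LinearMap.rTensor_comp_lTensor, ← LinearMap.lTensor_comp_rTensor,
      LinearMap.comp_apply, hz, map_zero]
  have h2 : (LinearMap.snd A P Q).lTensor J z = 0 := by
    apply Module.Flat.rTensor_preserves_injective_linearMap (M := Q) (Submodule.subtype J) Subtype.val_injective
    rw [map_zero, ← LinearMap.comp_apply, LinearMap.rTensor_comp_lTensor, ← LinearMap.lTensor_comp_rTensor,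
      LinearMap.comp_apply, hz, map_zero]
  have hid : LinearMap.inl A P Q ∘ₗ LinearMap.fst A P Q + LinearMap.inr A P Q ∘ₗ LinearMap.snd A P Q =
      LinearMap.id := by ext <;> simp
  have := congrArg (fun f => LinearMap.lTensor (↥J) f z) hid
  simpa [LinearMap.lTensor_add, LinearMap.lTensor_comp, h1, h2] using this.symm

lemma flat_cone {K L : CochainComplex (ModuleCat.{u} A) ℤ} (φ : K ⟶ L)
    (hK : ∀ m, Module.Flat A (K.X m)) (hL : ∀ m, Module.Flat A (L.X m)) (m : ℤ) :
    Module.Flat A ((CochainComplex.mappingCone φ).X m) := by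
  haveI := hK (m + 1)
  haveI := hL m
  haveI := flat_prod (A := A) (K.X (m + 1) : Type u) (L.X m : Type u)
  exact Module.Flat.of_linearEquiv
    (HomologicalComplex.homotopyCofiber.XIsoBiprod φ m (m + 1) rfl ≪≫
      ModuleCat.biprodIsoProd _ _).toLinearEquiv

/-- The universally quasi-isomorphic complex of finite free modules. -/
theorem exists_finite_free [IsNoetherianRing A] (C : CochainComplex (ModuleCat.{u} A) ℤ)
    (hC : ∀ m, Module.Flat A (C.X m)) (hfin : ∀ n, Module.Finite A (C.homology n)) (t : ℤ)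
    (hb : ∀ n, t ≤ n → IsZero (C.homology n))
    (hh : ∀ n, t ≤ n → ∀ M : ModuleCat.{u} A, IsZero (CohIII.T C n M)) :
    ∃ (E : CochainComplex (ModuleCat.{u} A) ℤ) (b : ℤ) (g : E ⟶ C),
      (∀ i, Module.Finite A (E.X i) ∧ Module.Free A (E.X i)) ∧ (∀ i, b < i → IsZero (E.X i)) ∧
      QuasiIso g ∧ ∀ (M : ModuleCat.{u} A), QuasiIso ((tF M).map g) := by
  have hab : ∃ n, DRingKP.IsAbove n (DRing.toD C) :=
    ⟨t, fun i hi => (hb i hi).of_iso ((DerivedCategory.homologyFunctorFactors _ i).app C)⟩
  have hpc : DRing.IsPseudoCoherent' A (DRing.toD C) :=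
    (DRingKP.pc'_iff_coherent DRingKP.isCoh_of_noetherian hab).2 fun i => by
      haveI : Module.Finite A ((HomologicalComplex.homologyFunctor (ModuleCat.{u} A) (ComplexShape.up ℤ) i).obj C) :=
        hfin i
      haveI : Module.Finite A (Dual.HD A (DRing.toD C) i) :=
        Module.Finite.equiv ((DerivedCategory.homologyFunctorFactors _ i).app C).toLinearEquiv.symm
      exact Module.finitePresentation_of_finite A _
  obtain ⟨E, b, hbE, hEf, ⟨e⟩⟩ := hpc
  haveI : E.IsKProjective :=
    DRingKP.isKProjective_of_finiteProjective b hbE (DRingKP.termwiseFiniteProjective_of_free hEf)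
  obtain ⟨g, hg⟩ := PerfLocal.exists_lift e.hom
  have hq : QuasiIso g := (DerivedCategory.isIso_Q_map_iff_quasiIso (ModuleCat.{u} A) g).1 (by rw [hg]; infer_instance)
  refine ⟨E, b, g, hEf, hbE, hq, fun M => ?_⟩
  have hEflat : ∀ m, Module.Flat A (E.X m) := fun m => haveI := (hEf m).2; inferInstance
  have hconeT : ∀ (N : ModuleCat.{u} A) (n : ℤ),
      (CohIII.T (CochainComplex.mappingCone g) n N) ≅ (CochainComplex.mappingCone ((tF N).map g)).homology n :=
    fun N n => HomologicalComplex.homologyMapIso
      (CochainComplex.mappingCone.mapHomologicalComplexIso g (tensorRight N)) n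
  rw [DerPlus.quasiIso_iff_acyclic_mappingCone]
  intro n
  rw [HomologicalComplex.exactAt_iff_isZero_homology]
  refine (isZero_T_of_acyclic (CochainComplex.mappingCone g) (flat_cone g hEflat hC)
    ((DerPlus.quasiIso_iff_acyclic_mappingCone g).1 hq) (max t (b + 1)) (fun m hm N => ?_) n M).of_iso
      (hconeT M n).symm
  refine (isZero_homology_cone ((tF N).map g) m (hh m (le_trans (le_max_left _ _) hm) N) ?_).of_iso (hconeT N m)
  exact isZero_T_of_isZero E (m + 1) (hbE (m + 1) (by omega)) N

/-- The comparison of `H(E ⊗ M)` and `H(C ⊗ M)`, natural in `M`. -/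
def TNatIso {E C : CochainComplex (ModuleCat.{u} A) ℤ} (g : E ⟶ C)
    (h : ∀ M : ModuleCat.{u} A, QuasiIso ((tF M).map g)) (p : ℤ) :
    CohIII.TFun E p ≅ CohIII.TFun C p :=
  NatIso.ofComponents
    (fun M => haveI := (h M).quasiIsoAt p; isoOfQuasiIsoAt ((tF M).map g) p)
    fun {M N} f => by
      change HomologicalComplex.homologyMap (CohIII.tensorMap E f) p ≫
          HomologicalComplex.homologyMap ((tF N).map g) p =
        HomologicalComplex.homologyMap ((tF M).map g) p ≫
          HomologicalComplex.homologyMap (CohIII.tensorMap C f) p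
      rw [← HomologicalComplex.homologyMap_comp, ← HomologicalComplex.homologyMap_comp]
      congr 1
      exact ((NatTrans.mapHomologicalComplex ((tensoringRight (ModuleCat.{u} A)).map f)
        (ComplexShape.up ℤ)).naturality g).symm

end Groth.Agent.W7Cech
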