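import Groth.Agent.W7Cech.Complex
import Groth.Agent.W7Cech.Perfect
import Groth.Agent.FlatModB.Basic
import Groth.Agent.CohFinite.Proper

/-!
`M ↦ H^p(X, F ⊗_A M)` as `M ↦ H^p(L ⊗_A M)` for a bounded above complex `L` of finite free modules.
-/

set_option autoImplicit false
set_option backward.isDefEq.respectTransparency false
set_option backward.isDefEq.respectTransparency.types false
set_option linter.style.haveILetI false

universe u

open CategoryTheory CategoryTheory.Limits AlgebraicGeometry TopologicalSpace Opposite MonoidalCategory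
open Groth.Agent.SiteCoh
open scoped TensorProduct

noncomputable section

namespace Groth.Agent.W7Cech

lemma isAffineOpen_iInf_fin {X : Scheme.{u}} [X.IsSeparated] :
    ∀ (n : ℕ) (V : Fin (n + 1) → X.Opens), (∀ i, IsAffineOpen (V i)) → IsAffineOpen (⨅ i, V i)
  | 0, V, h => by
    rw [show (⨅ i, V i) = V 0 from le_antisymm (iInf_le V 0) (le_iInf fun i => by rw [show i = 0 from Fin.ext (by omega)])]
    exact h 0
  | n + 1, V, h => by
    rw [show (⨅ i, V i) = V 0 ⊓ ⨅ i : Fin (n + 1), V i.succ from
      le_antisymm (le_inf (iInf_le V 0) (le_iInf fun i => iInf_le V i.succ))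
        (le_iInf fun i => Fin.cases inf_le_left (fun j => inf_le_right.trans (iInf_le _ j)) i)]
    exact (h 0).inf (isAffineOpen_iInf_fin n _ fun i => h i.succ)

lemma exists_cover (X : Scheme.{u}) [CompactSpace X] [X.IsSeparated] :
    ∃ (ι : Type u) (_ : Finite ι) (U : ι → X.Opens),
      (∀ (n : ℕ) (a : Fin (n + 1) → ι), IsAffineOpen (tupleProd U a)) ∧ iSup U = ⊤ := by
  obtain ⟨s, hs, e⟩ := (isCompact_iff_finite_and_eq_biUnion_affineOpens (X := X) (U := ⊤)).mp
    (by simpa using isCompact_univ)
  refine ⟨s, hs.to_subtype, fun i => i.1.1, fun n a => ?_, ?_⟩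
  · rw [tupleProd_eq_iInf]
    exact isAffineOpen_iInf_fin n _ fun k => (a k).1.2
  · refine top_unique fun x _ => ?_
    have hx : x ∈ (⊤ : X.Opens) := trivial
    rw [e] at hx
    obtain ⟨W, hW, hxW⟩ : ∃ W : X.affineOpens, ∃ _ : W ∈ s, x ∈ W.1 := by
      simpa [Opens.mem_iSup] using hx
    exact Opens.mem_iSup.mpr ⟨⟨W, hW⟩, hxW⟩

variable (A : Type u) [CommRing A] {X : Scheme.{u}} [X.Over (Spec (CommRingCat.of A))]

lemma flat_pi {κ : Type u} [Finite κ] (P : κ → Type u) [∀ k, AddCommGroup (P k)] [∀ k, Module A (P k)]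
    [∀ k, Module.Flat A (P k)] : Module.Flat A (∀ k, P k) :=
  haveI := Fintype.ofFinite κ
  Module.Flat.of_linearEquiv (DirectSum.linearEquivFunOnFintype A κ P).symm

lemma flat_secA {F : X.Modules} (hF : Coh.IsQCoh F)
    (hfl : FlatMod.IsFlatOver (X ↘ Spec (CommRingCat.of A)) F) {V : X.Opens} (hV : IsAffineOpen V) :
    Module.Flat A ((secA A V).obj F : Type u) := by
  let π := X ↘ Spec (CommRingCat.of A)
  have hle : V ≤ π ⁻¹ᵁ ⊤ := le_top
  have h := (FlatModB.isFlatOver_iff π F hF).1 hfl V ⊤ hle hV (isAffineOpen_top _)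
  let S : Type u := Γ(Spec (CommRingCat.of A), (⊤ : (Spec (CommRingCat.of A)).Opens))
  let φ : A →+* S := (Scheme.ΓSpecIso (CommRingCat.of A)).inv.hom
  letI : Algebra A S := φ.toAlgebra
  letI : Module S ((secA A V).obj F : Type u) := FlatModB.secModule π F V ⊤ hle
  haveI : Module.Flat S ((secA A V).obj F : Type u) := h
  haveI : IsScalarTower A S ((secA A V).obj F : Type u) := IsScalarTower.of_algebraMap_smul fun a m => rfl
  haveI : Module.Flat A S := by
    have hb : Function.Bijective (Algebra.linearMap A S) :=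
      ConcreteCategory.bijective_of_isIso (Scheme.ΓSpecIso (CommRingCat.of A)).inv
    exact Module.Flat.of_linearEquiv (LinearEquiv.ofBijective (Algebra.linearMap A S) hb).symm
  exact Module.Flat.trans A S _

variable {ι : Type u} (U : ι → X.Opens)

lemma flat_CC [Finite ι] (hU : ∀ (n : ℕ) (a : Fin (n + 1) → ι), IsAffineOpen (tupleProd U a))
    {F : X.Modules} (hF : Coh.IsQCoh F) (hfl : FlatMod.IsFlatOver (X ↘ Spec (CommRingCat.of A)) F) (n : ℕ) :
    Module.Flat A (((CC A U).obj F).X n) := by
  haveI : ∀ a : Fin (n + 1) → ι, Module.Flat A ((secA A (tupleProd U a)).obj F : Type u) :=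
    fun a => flat_secA A hF hfl (hU n a)
  exact flat_pi A fun a : Fin (n + 1) → ι => ((secA A (tupleProd U a)).obj F : Type u)

section Extend

variable {A}

/-- Tensoring commutes with extension by zero. -/
def tExtIso (K : CochainComplex (ModuleCat.{u} A) ℕ) (M : ModuleCat.{u} A) :
    CohIII.tensorObj (K.extend ComplexShape.embeddingUpNat) M ≅
      (CohIII.tensorObj K M).extend ComplexShape.embeddingUpNat :=
  HomologicalComplex.Hom.isoOfComponents (fun i' =>
    if h : 0 ≤ i' then
      (tensorRight M).mapIso (HomologicalComplex.extendXIso K ComplexShape.embeddingUpNat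
          (i := i'.toNat) (Int.toNat_of_nonneg h)) ≪≫
        (HomologicalComplex.extendXIso (CohIII.tensorObj K M) ComplexShape.embeddingUpNat
          (i := i'.toNat) (Int.toNat_of_nonneg h)).symm
    else
      ((tensorRight M).map_isZero (HomologicalComplex.isZero_extend_X K _ i' fun i hi => h (by
        change ((i : ℕ) : ℤ) = i' at hi; omega))).iso
        (HomologicalComplex.isZero_extend_X _ _ i' fun i hi => h (by
          change ((i : ℕ) : ℤ) = i' at hi; omega)))
    fun i' j' hij => by
      have hij' : i' + 1 = j' := hij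
      by_cases hi : 0 ≤ i'
      · have hj : 0 ≤ j' := by omega
        rw [dif_pos hi, dif_pos hj, HomologicalComplex.extend_d_eq _ _ (Int.toNat_of_nonneg hi)
          (Int.toNat_of_nonneg hj)]
        change _ = (tensorRight M).map ((K.extend ComplexShape.embeddingUpNat).d i' j') ≫ _
        rw [HomologicalComplex.extend_d_eq _ _ (Int.toNat_of_nonneg hi) (Int.toNat_of_nonneg hj)]
        simp [Functor.map_comp]
      · exact ((tensorRight M).map_isZero (HomologicalComplex.isZero_extend_X K _ i' fun i h => hi (by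
          change ((i : ℕ) : ℤ) = i' at h; omega))).eq_of_src _ _

lemma tExtIso_natural (K : CochainComplex (ModuleCat.{u} A) ℕ) {M N : ModuleCat.{u} A} (f : M ⟶ N) :
    CohIII.tensorMap (K.extend ComplexShape.embeddingUpNat) f ≫ (tExtIso K N).hom =
      (tExtIso K M).hom ≫ HomologicalComplex.extendMap (CohIII.tensorMap K f) ComplexShape.embeddingUpNat := by
  refine HomologicalComplex.hom_ext _ _ fun i' => ?_
  by_cases hi : 0 ≤ i'
  · simp only [HomologicalComplex.comp_f, tExtIso, HomologicalComplex.Hom.isoOfComponents_hom_f, dif_pos hi]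
    rw [HomologicalComplex.extendMap_f _ _ (Int.toNat_of_nonneg hi)]
    simp only [Iso.trans_hom, Functor.mapIso_hom, Iso.symm_hom, Category.assoc, Iso.inv_hom_id_assoc]
    rw [← Category.assoc, ← Category.assoc]
    refine congrArg (· ≫ _) ?_
    exact (((tensoringRight (ModuleCat.{u} A)).map f).naturality _).symm
  · exact ((tensorRight M).map_isZero (HomologicalComplex.isZero_extend_X K _ i' fun i h => hi (by
      change ((i : ℕ) : ℤ) = i' at h; omega))).eq_of_src _ _

/-- The homology after extension. -/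
def tExtNatIso (K : CochainComplex (ModuleCat.{u} A) ℕ) (p : ℕ) :
    CohIII.TFun (K.extend ComplexShape.embeddingUpNat) (p : ℤ) ≅ CohIII.TFun K p :=
  NatIso.ofComponents
    (fun M => HomologicalComplex.homologyMapIso (tExtIso K M) (p : ℤ) ≪≫
      (CohIII.tensorObj K M).extendHomologyIso ComplexShape.embeddingUpNat (j := p) rfl)
    fun {M N} f => by
      change HomologicalComplex.homologyMap (CohIII.tensorMap _ f) _ ≫
          HomologicalComplex.homologyMap (tExtIso K N).hom _ ≫ _ =
        (HomologicalComplex.homologyMap (tExtIso K M).hom _ ≫ _) ≫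
          HomologicalComplex.homologyMap (CohIII.tensorMap K f) p
      rw [← HomologicalComplex.homologyMap_comp_assoc, tExtIso_natural, HomologicalComplex.homologyMap_comp,
        Category.assoc, Category.assoc, HomologicalComplex.extendHomologyIso_hom_naturality]

lemma isZero_T_neg (K : CochainComplex (ModuleCat.{u} A) ℕ) (n : ℤ) (hn : n < 0) (M : ModuleCat.{u} A) :
    IsZero (CohIII.T (K.extend ComplexShape.embeddingUpNat) n M) :=
  isZero_T_of_isZero _ n (HomologicalComplex.isZero_extend_X K _ n fun i hi => by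
    change ((i : ℕ) : ℤ) = n at hi; omega) M

end Extend

/-- The cohomology of `F ⊗_A M` from a complex of finite free modules. -/
theorem exists_approx [IsNoetherianRing A] [IsProper (X ↘ Spec (CommRingCat.of A))]
    (F : X.Modules) (hF : Coh.IsCoh F) (hfl : FlatMod.IsFlatOver (X ↘ Spec (CommRingCat.of A)) F) :
    ∃ (L : CochainComplex (ModuleCat.{u} A) ℤ) (b : ℤ),
      (∀ i, Module.Finite A (L.X i) ∧ Module.Free A (L.X i)) ∧ (∀ i, b < i → IsZero (L.X i)) ∧
      (∀ (n : ℤ), n < 0 → ∀ M : ModuleCat.{u} A, IsZero (CohIII.T L n M)) ∧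
      ∀ p : ℕ, ∃ e : ∀ M : ModuleCat.{u} A, ((CohIII.T L (p : ℤ) M : Type u) ≃ₗ[A]
          Coh.HH X ((CohIII.tensorAFunctor A F).obj M) p),
        ∀ (M N : ModuleCat.{u} A) (g : M ⟶ N) (x : (CohIII.T L (p : ℤ) M : Type u)),
          e N (((CohIII.TFun L (p : ℤ)).map g).hom x) =
            Sheaf.H.map ((SheafOfModules.toSheaf _).map ((CohIII.tensorAFunctor A F).map g)) p (e M x) := by
  haveI hq : F.IsQuasicoherent := hF.1
  haveI : CompactSpace X := QuasiCompact.compactSpace_of_compactSpace (X ↘ Spec (CommRingCat.of A))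
  haveI : X.IsSeparated := by
    constructor
    rw [← terminal.comp_from (X ↘ Spec (CommRingCat.of A))]
    infer_instance
  obtain ⟨ι, hι, U, hU, hcov⟩ := exists_cover X
  haveI := hι
  let K := (CC A U).obj F
  let C := K.extend ComplexShape.embeddingUpNat
  choose e he using exists_TEquiv A U hU hcov F hF.1
  choose eH heH using exists_hhEquiv A U hU hcov
  let t := Nat.card ι
  have hvan : ∀ (M : X.Modules), Coh.IsQCoh M → ∀ n, t ≤ n → Subsingleton (Coh.HH X M n) := by
    intro M hM n hn
    haveI : M.IsQuasicoherent := hM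
    let σ := Finite.equivFin ι
    have hs : (⨆ i, U (σ.symm i)) = (⊤ : X.Opens) := by rw [← hcov]; exact σ.symm.iSup_comp (g := U)
    have := CohQC.hu_affine_cover_vanish M t (fun i => U (σ.symm i))
      (fun i => by
        have := hU 0 fun _ => σ.symm i
        rwa [tupleProd_eq_iInf, iInf_const] at this)
      (fun V W hV hW => hV.inf hW) n hn
    exact (huTerminalEquiv (Opens.grothendieckTopology X) (hs.symm ▸ isTerminalTop) (Coh.toAb M) n).injective.subsingleton
  have hflatC : ∀ m : ℤ, Module.Flat A (C.X m) := fun m => by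
    by_cases hm : 0 ≤ m
    · haveI := flat_CC A U hU hF.1 hfl m.toNat
      exact Module.Flat.of_linearEquiv (HomologicalComplex.extendXIso K ComplexShape.embeddingUpNat
        (i := m.toNat) (Int.toNat_of_nonneg hm)).toLinearEquiv
    · haveI : Subsingleton (C.X m) := ModuleCat.subsingleton_of_isZero
        (HomologicalComplex.isZero_extend_X K _ m fun i hi => hm (by
          change ((i : ℕ) : ℤ) = m at hi; omega))
      infer_instance
  have hzero : ∀ n : ℤ, (t : ℤ) ≤ n → IsZero (C.homology n) ∧ ∀ M, IsZero (CohIII.T C n M) := fun n hn => by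
    obtain ⟨p, rfl⟩ : ∃ p : ℕ, n = p := ⟨n.toNat, by omega⟩
    refine ⟨?_, fun M => ?_⟩
    · haveI := hvan F hF.1 p (by omega)
      haveI : Subsingleton (K.homology p) := (eH p F hF.1).injective.subsingleton
      exact (ModuleCat.isZero_of_subsingleton _).of_iso
        (K.extendHomologyIso ComplexShape.embeddingUpNat (j := p) rfl)
    · haveI := hvan ((CohIII.tensorAFunctor A F).obj M) (isQCoh_tensorAFunctor A F hF.1 M) p (by omega)
      haveI : Subsingleton ((CohIII.TFun K p).obj M) := (e p M).injective.subsingleton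
      exact (ModuleCat.isZero_of_subsingleton _).of_iso ((tExtNatIso K p).app M)
  have hfin : ∀ n : ℤ, Module.Finite A (C.homology n) := fun n => by
    by_cases hn : 0 ≤ n
    · obtain ⟨p, rfl⟩ : ∃ p : ℕ, n = p := ⟨n.toNat, by omega⟩
      haveI := CohFinite.finite_proper A X F hF p
      haveI : Module.Finite A (K.homology p) := Module.Finite.equiv (eH p F hF.1).symm
      exact Module.Finite.equiv
        (K.extendHomologyIso ComplexShape.embeddingUpNat (j := p) rfl).toLinearEquiv.symm
    · haveI : Subsingleton (C.homology n) := ModuleCat.subsingleton_of_isZero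
        (ShortComplex.isZero_homology_of_isZero_X₂ _ (HomologicalComplex.isZero_extend_X K _ n fun i hi =>
          hn (by change ((i : ℕ) : ℤ) = n at hi; omega)))
      infer_instance
  obtain ⟨L, b, g, hLf, hLb, -, hg⟩ := exists_finite_free C hflatC hfin t
    (fun n hn => (hzero n hn).1) fun n hn => (hzero n hn).2
  refine ⟨L, b, hLf, hLb, fun n hn M => (isZero_T_neg K n hn M).of_iso ((TNatIso g hg n).app M),
    fun p => ⟨fun M => ((TNatIso g hg (p : ℤ) ≪≫ tExtNatIso K p).app M).toLinearEquiv.trans (e p M),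
      fun M N f x => ?_⟩⟩
  refine Eq.trans ?_ (he p M N f (((TNatIso g hg (p : ℤ) ≪≫ tExtNatIso K p).app M).toLinearEquiv x))
  exact congrArg (e p N)
    (LinearMap.congr_fun (congrArg ModuleCat.Hom.hom ((TNatIso g hg (p : ℤ) ≪≫ tExtNatIso K p).hom.naturality f)) x)

end Groth.Agent.W7Cech
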