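import Groth.Agent.FlatCx.FlatBC
import Mathlib.AlgebraicGeometry.Fiber
import Mathlib.LinearAlgebra.Dimension.Finrank

/-!
Residue fields of affine opens, and vector spaces over fields of fractions of quotient rings.
-/

set_option autoImplicit false
set_option backward.isDefEq.respectTransparency false
set_option backward.isDefEq.respectTransparency.types false
set_option linter.style.haveILetI false

universe u

open CategoryTheory CategoryTheory.Limits AlgebraicGeometry TopologicalSpace MonoidalCategory
open scoped TensorProduct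

noncomputable section

namespace Groth.Agent.W7Cech

variable {A : Type u} [CommRing A] (k k' : Type u) [Field k] [Field k'] [Algebra A k] [Algebra A k']

/-- An `A`-linear bijection between vector spaces over fields of fractions of `A / x` preserves dimension. -/
theorem finrank_eq_of_linear (hk : ∀ b : k, ∃ a s : A, algebraMap A k s ≠ 0 ∧
      algebraMap A k s * b = algebraMap A k a)
    (σ : k ≃+* k') (hσ : ∀ a, σ (algebraMap A k a) = algebraMap A k' a)
    (V W : Type u) [AddCommGroup V] [Module k V] [AddCommGroup W] [Module k' W] (e : V ≃+ W)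
    (he : ∀ (a : A) (v : V), e (algebraMap A k a • v) = algebraMap A k' a • e v) :
    Module.finrank k V = Module.finrank k' W := by
  have hc : ∀ (b : k) (v : V), e (b • v) = σ b • e v := fun b v => by
    obtain ⟨a, s, hs, hb⟩ := hk b
    have hs' : algebraMap A k' s ≠ 0 := fun h0 => hs (σ.injective (by rw [hσ, h0, map_zero]))
    refine smul_right_injective W hs' ?_
    change algebraMap A k' s • e (b • v) = algebraMap A k' s • σ b • e v
    rw [← he, smul_smul, hb, he, smul_smul, ← hσ s, ← map_mul, hb, hσ]
  exact congrArg Cardinal.toNat (rank_eq_of_equiv_equiv σ e σ.bijective hc)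

variable {k}

/-- A field of fractions of a quotient of `A` is the residue field at the kernel. -/
theorem exists_residueField_equiv (hk : ∀ b : k, ∃ a s : A, algebraMap A k s ≠ 0 ∧
      algebraMap A k s * b = algebraMap A k a) (x : PrimeSpectrum A)
    (hx : RingHom.ker (algebraMap A k) = x.asIdeal) :
    ∃ σ : k ≃+* x.asIdeal.ResidueField, ∀ a, σ (algebraMap A k a) = algebraMap A x.asIdeal.ResidueField a := by
  let ψ : x.asIdeal.ResidueField →+* k := Ideal.ResidueField.lift x.asIdeal (algebraMap A k) hx.ge
    fun s hs => isUnit_iff_ne_zero.2 fun h0 => hs (hx.le h0)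
  have hψ : ∀ a, ψ (algebraMap A x.asIdeal.ResidueField a) = algebraMap A k a :=
    fun a => Ideal.ResidueField.lift_algebraMap _ _ _ _ a
  have hs : Function.Surjective ψ := fun b => by
    obtain ⟨a, s, hs, hb⟩ := hk b
    refine ⟨algebraMap A _ a / algebraMap A _ s, ?_⟩
    rw [map_div₀, hψ, hψ, ← hb, mul_div_cancel_left₀ b hs]
  refine ⟨(RingEquiv.ofBijective ψ ⟨ψ.injective, hs⟩).symm, fun a => ?_⟩
  rw [RingEquiv.symm_apply_eq]
  exact (hψ a).symm

section Complex

variable (A) {B : Type u} [CommRing B] [Algebra A B] {κ : Type} {c : ComplexShape κ}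
  (P : HomologicalComplex (ModuleCat.{u} A) c)

/-- `H(P ⊗ B)` is the underlying module of the homology of the extension of scalars. -/
theorem nonempty_bcCx_T (n : κ) :
    Nonempty ((ModuleCat.restrictScalars (algebraMap A B)).obj ((CohIII.bcCx (algebraMap A B) P).homology n) ≅
      CohIII.T P n (ModuleCat.of A B)) := by
  obtain ⟨φ, rfl⟩ : ∃ φ : A →+* B, ‹Algebra A B› = φ.toAlgebra :=
    ⟨algebraMap A B, Algebra.algebra_ext _ _ fun _ => rfl⟩
  letI := φ.toAlgebra
  let Φ := (ModuleCat.restrictScalars φ).mapHomologicalComplex c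
  let N : ∀ i, ModuleCat.{u} A := fun i => (Φ.obj (CohIII.bcCx φ P)).X i
  let f : ∀ i, (P.X i : Type u) ⊗[A] B →ₗ[A] (N i : Type u) := fun i =>
    { toFun := fun z => (TensorProduct.comm A (P.X i : Type u) B z : B ⊗[A] (P.X i : Type u))
      map_add' := map_add (TensorProduct.comm A (P.X i : Type u) B)
      map_smul' := fun a z => by
        refine (map_smul (TensorProduct.comm A (P.X i : Type u) B) a z).trans ?_
        exact (IsScalarTower.algebraMap_smul B a _).symm }
  let ψ : CohIII.tensorObj P (ModuleCat.of A B) ⟶ Φ.obj (CohIII.bcCx φ P) :=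
    { f := fun i => ModuleCat.ofHom (X := (P.X i : Type u) ⊗[A] B) (Y := (N i : Type u)) (f i)
      comm' := fun i j _ => by
        refine ModuleCat.hom_ext (TensorProduct.ext' fun x b => ?_)
        rfl }
  haveI : ∀ i, IsIso (ψ.f i) := fun i =>
    (ConcreteCategory.isIso_iff_bijective _).2 (TensorProduct.comm A (P.X i : Type u) B).bijective
  haveI : IsIso ψ := HomologicalComplex.Hom.isIso_of_components _
  exact ⟨(((CohIII.bcCx φ P).sc n).mapHomologyIso (ModuleCat.restrictScalars φ)).symm ≪≫
    (HomologicalComplex.homologyMapIso (asIso ψ) n).symm⟩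

end Complex

section Scheme

variable {S : Scheme.{u}} {V : S.Opens} (hV : IsAffineOpen V) (y : S) (hy : y ∈ V)

include hV in
lemma SpecMap_evaluation_fromSpec :
    Spec.map (S.evaluation V y hy) ≫ hV.fromSpec = S.fromSpecResidueField y := by
  rw [← Scheme.germ_residue, Spec.map_comp, Category.assoc]
  exact congrArg (Spec.map (S.residue y) ≫ ·) (hV.fromSpecStalk_eq_fromSpecStalk hy)

include hV in
lemma evaluation_frac (b : S.residueField y) :
    ∃ a s : Γ(S, V), S.evaluation V y hy s ≠ 0 ∧ S.evaluation V y hy s * b = S.evaluation V y hy a := by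
  letI := TopCat.Presheaf.algebra_section_stalk S.presheaf (⟨y, hy⟩ : V)
  haveI := hV.isLocalization_stalk ⟨y, hy⟩
  obtain ⟨t, rfl⟩ := Scheme.residue_surjective S y b
  obtain ⟨⟨a, s⟩, h⟩ := IsLocalization.surj (hV.primeIdealOf ⟨y, hy⟩).asIdeal.primeCompl t
  refine ⟨a, s.1, fun h0 => ?_, ?_⟩
  · have hu := (IsLocalization.map_units (S.presheaf.stalk y) s).map (S.residue y).hom
    exact hu.ne_zero h0
  · refine ((map_mul (S.residue y).hom _ t).symm.trans ?_)
    rw [mul_comm]
    exact congrArg (S.residue y).hom h

/-- The point of `Spec Γ(S, V)` under `y`. -/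
def specPt : PrimeSpectrum Γ(S, V) :=
  ⟨RingHom.ker (S.evaluation V y hy).hom, RingHom.ker_isPrime _⟩

end Scheme

end Groth.Agent.W7Cech
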