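import Groth.Agent.CohFinite.RPushCoh
import Groth.Agent.CohFinite.Cls

/-!
Sections of higher direct images over an affine open are the cohomology of the preimage, linearly.
-/

set_option autoImplicit false
set_option backward.isDefEq.respectTransparency false
set_option linter.style.haveILetI false

universe u

open CategoryTheory Category Limits Opposite TopologicalSpace AlgebraicGeometry Abelian
open Groth.Agent.SiteCoh Groth.Agent.CohQC Groth.Agent.ProjCech
open Groth.Agent.QC (res resO res_res res_self res_smul app_res)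

noncomputable section

namespace Groth.Agent.W7Cech

/-- Closed sections. -/
abbrev closedG {Y : Scheme.{u}} (I : CochainComplex Y.Modules ℕ) (n : ℕ) (U : Y.Opens) :
    AddSubgroup Γ(I.X n, U) :=
  ((I.d n (n + 1)).app U).hom.ker

/-- Closed global sections of a flasque resolution compute cohomology, linearly. -/
theorem exists_cls (A : Type u) [CommRing A] {Y : Scheme.{u}} [Y.Over (Spec (CommRingCat.of A))]
    (I : CochainComplex Y.Modules ℕ) (hex : ∀ m, I.ExactAt (m + 1))
    (hI : ∀ m, RPushQC.IsFlasque (I.X m)) (n : ℕ) :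
    ∃ ψ : closedG I n ⊤ →+ Coh.HH Y (I.cycles 0) n, Function.Surjective ψ ∧
      (∀ s : closedG I n ⊤, ψ s = 0 ↔
        ∃ w, (I.d ((ComplexShape.up ℕ).prev n) n).app ⊤ w = s.1) ∧
      ∀ (a : A) (s t : closedG I n ⊤),
        t.1 = (show Γ(Y, ⊤) from Coh.toGlobal (Y ↘ Spec (CommRingCat.of A)) a) • s.1 → ψ t = a • ψ s := by
  let T := toAbF Y
  have : PreservesFiniteLimits T := inferInstance
  have : PreservesFiniteColimits T := CohQC.toSheaf_preservesFiniteColimits Y.ringCatSheaf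
  have : T.PreservesHomology := Functor.preservesHomologyOfExact T
  let K := (T.mapHomologicalComplex (ComplexShape.up ℕ)).obj I
  have hexK : ∀ m, K.ExactAt (m + 1) := fun m =>
    (HomologicalComplex.exactAt_iff K (m + 1)).mpr
      (((HomologicalComplex.exactAt_iff I (m + 1)).mp (hex m)).map T)
  have hK : ∀ (U : Y.Opens) (m : ℕ), Acyc U (K.X m) := fun U m p =>
    haveI := RPushQC.isFlasque_toAb (hI m)
    flasque_acyclic (Coh.toAb (I.X m)) U p
  let e₀ : K.cycles 0 ≅ T.obj (I.cycles 0) := (I.sc 0).mapCyclesIso T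
  have he₀ : e₀.hom ≫ T.map (I.iCycles 0) = K.iCycles 0 := (I.sc 0).mapCyclesIso_hom_iCycles T
  have : Mono (T.map (I.iCycles 0)) := inferInstance
  let E := huTerminalEquiv (Opens.grothendieckTopology Y) (T := (⊤ : Opens Y)) isTerminalTop
    (T.obj (I.cycles 0)) n
  let ψ₀ : (K.cycles n).obj.obj (op (⊤ : Opens Y)) →+ Coh.HH Y (I.cycles 0) n :=
    (E.symm.toAddMonoidHom.comp (huMap (⊤ : Opens Y) e₀.hom n)).comp (clsAt K hexK n (⊤ : Opens Y))
  have huMap_id : ∀ {F G : Sheaf (Opens.grothendieckTopology Y) AddCommGrpCat.{u}} (a : F ≅ G) x,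
      huMap (⊤ : Opens Y) a.inv n (huMap (⊤ : Opens Y) a.hom n x) = x := fun a x => by
    change (Ext.comp x (Ext.mk₀ a.hom) (add_zero n)).comp (Ext.mk₀ a.inv) (add_zero n) = x
    rw [Ext.comp_assoc x _ _ (add_zero n) (add_zero 0) (by omega), Ext.mk₀_comp_mk₀, a.hom_inv_id,
      Ext.comp_mk₀_id]
  have hψs : Function.Surjective ψ₀ := (E.symm.surjective.comp
    (fun y => ⟨huMap (⊤ : Opens Y) e₀.inv n y, huMap_id e₀.symm y⟩)).comp (clsAt_surjective K hexK hK n ⊤)
  have hψ0 : ∀ z, ψ₀ z = 0 → clsAt K hexK n (⊤ : Opens Y) z = 0 := fun z hz => by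
    have h1 : huMap (⊤ : Opens Y) e₀.hom n (clsAt K hexK n (⊤ : Opens Y) z) = 0 :=
      E.symm.injective (hz.trans (map_zero E.symm).symm)
    rw [← huMap_id e₀ (clsAt K hexK n (⊤ : Opens Y) z), h1, map_zero]
  let sm : A → (K ⟶ K) := fun a =>
    { f := fun m => Coh.smulAb (I.X m) (Coh.toGlobal (Y ↘ Spec (CommRingCat.of A)) a)
      comm' := fun i j _ => CohFinite.smulAb_natural (I.d i j) _ }
  have hψsm : ∀ a z, ψ₀ ((HomologicalComplex.cyclesMap (sm a) n).hom.app (op (⊤ : Opens Y)) z) = a • ψ₀ z := by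
    intro a z
    let g := Coh.toGlobal (Y ↘ Spec (CommRingCat.of A)) a
    have h0 : HomologicalComplex.cyclesMap (sm a) 0 ≫ e₀.hom = e₀.hom ≫ Coh.smulAb (I.cycles 0) g := by
      rw [← cancel_mono (T.map (I.iCycles 0)), assoc, assoc, he₀, CohFinite.smulAb_natural (I.iCycles 0) g,
        ← assoc, he₀, HomologicalComplex.cyclesMap_i]
    change E.symm (huMap (⊤ : Opens Y) e₀.hom n (clsAt K hexK n (⊤ : Opens Y) _)) =
      Sheaf.H.map (Coh.smulAb (I.cycles 0) g) n (E.symm (huMap (⊤ : Opens Y) e₀.hom n (clsAt K hexK n ⊤ z)))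
    refine E.injective ?_
    rw [E.apply_symm_apply, huTerminalEquiv_natural, E.apply_symm_apply, CohFinite.clsAt_natural hexK hexK (sm a)]
    change (Ext.comp (Ext.comp _ (Ext.mk₀ _) (add_zero n)) (Ext.mk₀ _) (add_zero n)) =
      (Ext.comp (Ext.comp _ (Ext.mk₀ _) (add_zero n)) (Ext.mk₀ _) (add_zero n))
    rw [Ext.comp_assoc _ (Ext.mk₀ (HomologicalComplex.cyclesMap (sm a) 0)) (Ext.mk₀ e₀.hom)
        (add_zero n) (add_zero 0) (by omega),
      Ext.comp_assoc _ (Ext.mk₀ e₀.hom) (Ext.mk₀ (Coh.smulAb (I.cycles 0) g))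
        (add_zero n) (add_zero 0) (by omega),
      Ext.mk₀_comp_mk₀, Ext.mk₀_comp_mk₀, h0]
  let ι : (K.cycles n).obj.obj (op (⊤ : Opens Y)) →+ Γ(I.X n, ⊤) :=
    ((K.iCycles n).hom.app (op (⊤ : Opens Y))).hom
  have hi : Function.Injective ι := by
    have : Mono (K.iCycles n).hom := inferInstanceAs (Mono ((sheafToPresheaf _ _).map (K.iCycles n)))
    exact (AddCommGrpCat.mono_iff_injective _).mp inferInstance
  have hιsm : ∀ a c, ι ((HomologicalComplex.cyclesMap (sm a) n).hom.app (op (⊤ : Opens Y)) c) =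
      (show Γ(Y, ⊤) from Coh.toGlobal (Y ↘ Spec (CommRingCat.of A)) a) • ι c := fun a c => by
    refine (ConcreteCategory.congr_hom (NatTrans.congr_app
      (congr_arg (fun (m : K.cycles n ⟶ K.X n) => m.hom) (HomologicalComplex.cyclesMap_i (sm a) n))
      (op (⊤ : Opens Y))) c).trans ?_
    refine congrArg (fun c' : Γ(Y, ⊤) => c' • ι c) ?_
    exact Groth.Agent.QC.resO_self le_rfl _
  choose l hl using fun s : closedG I n ⊤ => exists_cycle_section (U := (⊤ : Opens Y)) K n s.1 s.2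
  have hl' : ∀ s, ι (l s) = s.1 := hl
  have hψl : ∀ s c, ι c = s.1 → l s = c := fun s c h => hi ((hl' s).trans h.symm)
  refine ⟨AddMonoidHom.mk' (fun s => ψ₀ (l s)) fun s t => ?_, fun y => ?_, fun s => ?_, fun a s t h => ?_⟩
  · rw [hψl (s + t) (l s + l t) (by rw [map_add, hl', hl']; rfl), map_add]
  · obtain ⟨c, rfl⟩ := hψs y
    exact ⟨⟨ι c, ConcreteCategory.congr_hom (NatTrans.congr_app
      (congr_arg (fun (m : K.cycles n ⟶ K.X (n + 1)) => m.hom) (K.iCycles_d n (n + 1))) (op (⊤ : Opens Y))) c⟩,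
      congrArg ψ₀ (hψl _ c rfl)⟩
  · change ψ₀ (l s) = 0 ↔ _
    rcases n with _ | m
    · constructor
      · intro hs
        have h0 : l s = 0 := (secEquiv (⊤ : Opens Y) _).symm.injective (by
          have := (Ext.comp_mk₀_id (Ext.mk₀ ((secEquiv (⊤ : Opens Y) (K.cycles 0)).symm (l s)))).symm.trans
            (hψ0 _ hs)
          exact ((Ext.mk₀_bijective _ _).1 (this.trans (Ext.mk₀_zero _ _).symm)).trans (map_zero _).symm)
        refine ⟨0, ?_⟩
        rw [map_zero, ← hl' s, h0, map_zero]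
      · rintro ⟨w, hw⟩
        rw [I.shape _ _ (by simp)] at hw
        rw [hψl s 0 (by rw [map_zero, ← hw]; rfl), map_zero]
    · have key : ∀ j, j = m → ((∃ w, (I.d j (m + 1)).app ⊤ w = s.1) ↔ ψ₀ (l s) = 0) := by
        rintro j rfl
        constructor
        · rintro ⟨w, hw⟩
          rw [hψl s ((K.toCycles j (j + 1)).hom.app (op (⊤ : Opens Y)) w) ((ConcreteCategory.congr_hom
            (NatTrans.congr_app (congr_arg (fun (f : K.X j ⟶ K.X (j + 1)) => f.hom) (K.toCycles_i j (j + 1)))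
              (op (⊤ : Opens Y))) w).trans hw)]
          change E.symm (huMap (⊤ : Opens Y) e₀.hom (j + 1) (clsAt K hexK (j + 1) (⊤ : Opens Y) _)) = 0
          rw [clsAt_toCycles, map_zero, map_zero]
        · intro hs
          obtain ⟨w, hw⟩ := clsAt_eq_zero K hexK hK j (⊤ : Opens Y) (l s) (hψ0 _ hs)
          refine ⟨w, Eq.trans ?_ (hl' s)⟩
          rw [← hw]
          exact (ConcreteCategory.congr_hom (NatTrans.congr_app
            (congr_arg (fun (f : K.X j ⟶ K.X (j + 1)) => f.hom) (K.toCycles_i j (j + 1))) (op (⊤ : Opens Y))) w).symm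
      exact (key _ (CochainComplex.prev_nat_succ m)).symm
  · change ψ₀ (l t) = a • ψ₀ (l s)
    rw [hψl t _ ((hιsm a (l s)).trans (by rw [hl', h])), hψsm]

variable {X S : Scheme.{u}}

/-- Sections of `R^p f_* M` over an affine open `V` are `H^p(f⁻¹ V, M)`, linearly over `Γ(S, V)`. -/
theorem nonempty_rpush_sections (f : X ⟶ S) [QuasiCompact f] [QuasiSeparated f]
    [HasInjectiveResolutions X.Modules] (M : X.Modules) (hM : Coh.IsQCoh M) (p : ℕ) {V : S.Opens}
    (hV : IsAffineOpen V) :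
    letI : (f ⁻¹ᵁ V).toScheme.Over (Spec (CommRingCat.of Γ(S, V))) := ⟨(f ∣_ V) ≫ hV.isoSpec.hom⟩
    Nonempty (Γ((Coh.Rpush f p).obj M, V) ≃ₗ[Γ(S, V)]
      Coh.HH (f ⁻¹ᵁ V).toScheme (M.restrict (f ⁻¹ᵁ V).ι) p) := by
  let U : X.Opens := f ⁻¹ᵁ V
  letI : U.toScheme.Over (Spec (CommRingCat.of Γ(S, V))) := ⟨(f ∣_ V) ≫ hV.isoSpec.hom⟩
  let R := injectiveResolution M
  let P := ((Coh.push f).mapHomologicalComplex (ComplexShape.up ℕ)).obj R.cocomplex
  let r := Scheme.Modules.restrictFunctor U.ι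
  have : r.PreservesHomology := Functor.preservesHomologyOfExact r
  let I := (r.mapHomologicalComplex (ComplexShape.up ℕ)).obj R.cocomplex
  have hexI : ∀ m, I.ExactAt (m + 1) := fun m =>
    (HomologicalComplex.exactAt_iff I (m + 1)).mpr
      (((HomologicalComplex.exactAt_iff R.cocomplex (m + 1)).mp (R.cocomplex_exactAt_succ m)).map r)
  have hfl : ∀ n, RPushQC.IsFlasque (R.cocomplex.X n) := fun n => RPushQC.isFlasque_of_injective _
  let e0 : I.cycles 0 ≅ M.restrict U.ι :=
    (r.mapIso (IsLimit.conePointUniqueUpToIso (R.cocomplex.cyclesIsKernel 0 1 (by simp))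
      R.isLimitKernelFork).symm ≪≫ ((R.cocomplex.sc 0).mapCyclesIso r).symm).symm
  obtain ⟨ψ₁, hs₁, hk₁, hl₁⟩ := exists_cls Γ(S, V) I hexI
    (fun n => RPushQC.isFlasque_restrict (hfl n) U.ι) p
  have heq : U.ι ''ᵁ ⊤ = f ⁻¹ᵁ V := by
    rw [Scheme.Hom.image_top_eq_opensRange, Scheme.Opens.opensRange_ι]
  let ρ : ∀ m, Γ(I.X m, ⊤) →+ Γ(P.X m, V) := fun m =>
    (res (R.cocomplex.X m) heq.ge).comp ((R.cocomplex.X m).restrictAppIso U.ι ⊤).hom.hom
  have hρd : ∀ i j (w : Γ(I.X i, ⊤)), ρ j ((I.d i j).app ⊤ w) = (P.d i j).app V (ρ i w) := fun i j w =>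
    app_res (R.cocomplex.d i j) heq.ge _
  have hρs : ∀ m, Function.Surjective (ρ m) := fun m v =>
    ⟨res (R.cocomplex.X m) heq.le v, (res_res (R.cocomplex.X m) heq.ge heq.le v).trans (res_self _ le_rfl v)⟩
  have hρi : ∀ m, Function.Injective (ρ m) := fun m x y hxy => by
    have h := congrArg (res (R.cocomplex.X m) heq.le) hxy
    have e : ∀ z : Γ(I.X m, ⊤), res (R.cocomplex.X m) heq.le (ρ m z) = z := fun z =>
      (res_res (R.cocomplex.X m) heq.le heq.ge _).trans (res_self _ le_rfl _)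
    exact (e x).symm.trans (h.trans (e y))
  have hρsm : ∀ (a : Γ(S, V)) (s : Γ(I.X p, ⊤)),
      ρ p ((show Γ(U.toScheme, ⊤) from Coh.toGlobal (U.toScheme ↘ Spec (CommRingCat.of Γ(S, V))) a) • s) =
        a • ρ p s := fun a s => by
    let g : Γ(U.toScheme, ⊤) := Coh.toGlobal (U.toScheme ↘ Spec (CommRingCat.of Γ(S, V))) a
    let c : Γ(V.toScheme, ⊤) := V.topIso.inv a
    have hc : g = (f ∣_ V).appTop c := by
      change ((f ∣_ V) ≫ hV.isoSpec.hom).appTop ((Scheme.ΓSpecIso (CommRingCat.of Γ(S, V))).inv a) = _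
      rw [Scheme.Hom.comp_appTop]
      refine congrArg (f ∣_ V).appTop ?_
      rw [IsAffineOpen.isoSpec_hom_appTop]
      exact congrArg V.topIso.inv
        (ConcreteCategory.congr_hom (Scheme.ΓSpecIso Γ(S, V)).inv_hom_id a)
    have hVtop : V.ι ''ᵁ ⊤ = V := by rw [Scheme.Hom.image_top_eq_opensRange, Scheme.Opens.opensRange_ι]
    have hca : resO S hVtop.ge c = a := by
      refine Eq.trans (congrArg (resO S hVtop.ge) ?_) ((QC.resO_resO hVtop.ge hVtop.le a).trans (QC.resO_self le_rfl a))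
      rfl
    let Q := R.cocomplex.X p
    refine ((congrArg (res Q heq.ge) (Q.smul_restrictAppIso_hom_apply U.ι ⊤ g s)).trans
      (res_smul Q heq.ge _ _)).trans ?_
    refine congrArg (fun k : Γ(X, f ⁻¹ᵁ V) => k • (res Q heq.ge ((Q.restrictAppIso U.ι ⊤).hom s) :
      Γ(Q, f ⁻¹ᵁ V))) ?_
    refine Eq.trans ?_ (congrArg (f.app V) hca)
    rw [Scheme.Opens.ι_appIso, hc, morphismRestrict_appTop]
    change resO X _ (X.presheaf.map _ (f.app _ c)) = f.app V (S.presheaf.map _ c)
    refine Eq.trans ?_ (ConcreteCategory.congr_hom (f.naturality _) c).symm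
    exact (ConcreteCategory.congr_hom (X.presheaf.map_comp _ _) _).symm
  -- the complex of abelian sheaves on `S`
  let T := toAbF S
  have : PreservesFiniteLimits T := inferInstance
  have : PreservesFiniteColimits T := CohQC.toSheaf_preservesFiniteColimits S.ringCatSheaf
  have : T.PreservesHomology := Functor.preservesHomologyOfExact T
  let K := (T.mapHomologicalComplex (ComplexShape.up ℕ)).obj P
  have hKX : ∀ n, Acyc (J := Opens.grothendieckTopology S) V (K.X n) := fun n q =>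
    haveI := RPushQC.isFlasque_toAb (hfl n)
    haveI : TopCat.Sheaf.IsFlasque ((CohTop.push f.base).obj (Coh.toAb (R.cocomplex.X n))) :=
      TopCat.Sheaf.IsFlasque.pushforward_isFlasque (Coh.toAb (R.cocomplex.X n)) f.base
    flasque_acyclic ((CohTop.push f.base).obj (Coh.toAb (R.cocomplex.X n))) V q
  have hKH : ∀ n, Acyc (J := Opens.grothendieckTopology S) V (K.homology n) := fun n => by
    have hq : Coh.IsQCoh (P.homology n) :=
      Groth.Agent.QC.isQCoh_of_iso (R.isoRightDerivedObj (Coh.push f) n) (RPushQC.isQCoh_rpush f M hM n)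
    have : (P.homology n).IsQuasicoherent := hq
    exact acyc_of_iso ((P.sc n).mapHomologyIso T).symm
      (fun q => CohQC.hu_vanish_of_isAffineOpen (P.homology n) hV q)
  let θ : (K.homology p).obj.obj (op V) ≃+ Γ(P.homology p, V) :=
    (((sheafToPresheaf _ _).mapIso ((P.sc p).mapHomologyIso T)).app (op V)).addCommGroupIsoToAddEquiv
  let θc : (K.cycles p).obj.obj (op V) ≃+ Γ(P.cycles p, V) :=
    (((sheafToPresheaf _ _).mapIso ((P.sc p).mapCyclesIso T)).app (op V)).addCommGroupIsoToAddEquiv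
  have hθ : ∀ y, (P.homologyπ p).app V (θc y) = θ ((K.homologyπ p).hom.app (op V) y) := fun y =>
    (ConcreteCategory.congr_hom (NatTrans.congr_app (congrArg (fun m => m.hom)
      (CohFinite.homologyπ_mapHomologyIso (P.sc p) T)) (op V)) y).symm
  have hθi : ∀ y, (P.iCycles p).app V (θc y) = (K.iCycles p).hom.app (op V) y := fun y =>
    ConcreteCategory.congr_hom (NatTrans.congr_app (congrArg (fun m => m.hom)
      ((P.sc p).mapCyclesIso_hom_iCycles T)) (op V)) y
  have hi : Function.Injective ((P.iCycles p).app V) := Groth.Agent.QC.app_injective_of_mono (P.iCycles p) V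
  have hz : ∀ s : closedG I p ⊤, ∃ c, (P.iCycles p).app V c = ρ p s.1 := fun s => by
    have hs0 : (P.d p (p + 1)).app V (ρ p s.1) = 0 := by rw [← hρd, s.2, map_zero]
    obtain ⟨y, hy⟩ := exists_cycle_section (U := V) K p (ρ p s.1) hs0
    exact ⟨θc y, (hθi y).trans hy⟩
  choose z hz using hz
  have hzu : ∀ s c, (P.iCycles p).app V c = ρ p s.1 → z s = c := fun s c h => hi ((hz s).trans h.symm)
  let ψ₂ : closedG I p ⊤ →+ Γ(P.homology p, V) :=
    AddMonoidHom.mk' (fun s => (P.homologyπ p).app V (z s)) fun s t => by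
      rw [hzu (s + t) (z s + z t) (by rw [map_add, hz, hz, ← map_add]; rfl), map_add]
  have hs₂ : Function.Surjective ψ₂ := fun x => by
    obtain ⟨y, hy⟩ := homologyπ_surjective K hKX hKH p (θ.symm x)
    obtain ⟨w, hw⟩ := hρs p ((P.iCycles p).app V (θc y))
    have hw' : (I.d p (p + 1)).app ⊤ w = 0 := hρi (p + 1) (by
      rw [hρd, hw, map_zero]
      exact ConcreteCategory.congr_hom (congrArg
        (fun m : P.cycles p ⟶ P.X (p + 1) => Scheme.Modules.Hom.app m V) (P.iCycles_d p (p + 1))) _)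
    refine ⟨⟨w, hw'⟩, ?_⟩
    change (P.homologyπ p).app V (z _) = x
    rw [hzu ⟨w, hw'⟩ (θc y) hw.symm, hθ, hy, AddEquiv.apply_symm_apply]
  have hk₂ : ∀ s : closedG I p ⊤, ψ₂ s = 0 ↔ ∃ w, (I.d ((ComplexShape.up ℕ).prev p) p).app ⊤ w = s.1 := by
    intro s
    constructor
    · intro hs
      have hy : (K.homologyπ p).hom.app (op V) (θc.symm (z s)) = 0 := θ.injective (by
        rw [← hθ, AddEquiv.apply_symm_apply, map_zero]
        exact hs)
      rcases p with _ | m
      · refine ⟨0, hρi 0 ?_⟩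
        have : IsIso (K.homologyπ 0).hom := inferInstanceAs (IsIso ((sheafToPresheaf _ _).map (K.homologyπ 0)))
        have h0 : θc.symm (z s) = 0 :=
          ((ConcreteCategory.isIso_iff_bijective ((K.homologyπ 0).hom.app (op V))).mp inferInstance).1
            (hy.trans (map_zero _).symm)
        rw [map_zero, map_zero, ← hz s, ← AddEquiv.apply_symm_apply θc (z s), h0, map_zero, map_zero]
      · obtain ⟨k, hk⟩ := homologyπ_eq_zero K hKX hKH m (θc.symm (z s)) hy
        obtain ⟨w, hw⟩ := hρs m k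
        suffices ∀ j, j = m → ∃ w, (I.d j (m + 1)).app ⊤ w = s.1 from this _ (CochainComplex.prev_nat_succ m)
        rintro j rfl
        refine ⟨w, hρi (j + 1) ?_⟩
        rw [hρd, hw, ← hz s, ← AddEquiv.apply_symm_apply θc (z s), hθi, ← hk]
        exact (ConcreteCategory.congr_hom (NatTrans.congr_app
          (congr_arg (fun (f : K.X j ⟶ K.X (j + 1)) => f.hom) (K.toCycles_i j (j + 1))) (op V)) k).symm
    · rintro ⟨w, hw⟩
      change (P.homologyπ p).app V (z s) = 0
      rw [hzu s ((P.toCycles ((ComplexShape.up ℕ).prev p) p).app V (ρ _ w)) (by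
        rw [← hw, hρd]
        exact ConcreteCategory.congr_hom (congrArg
          (fun m : P.X ((ComplexShape.up ℕ).prev p) ⟶ P.X p => Scheme.Modules.Hom.app m V)
          (P.toCycles_i ((ComplexShape.up ℕ).prev p) p)) _)]
      exact ConcreteCategory.congr_hom (congrArg
        (fun m : P.X ((ComplexShape.up ℕ).prev p) ⟶ P.homology p => Scheme.Modules.Hom.app m V)
        (P.toCycles_comp_homologyπ ((ComplexShape.up ℕ).prev p) p)) _
  let E := equivOfKerEq ψ₂ ψ₁ hs₂ hs₁ fun s => (hk₂ s).trans (hk₁ s).symm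
  have hE : ∀ s, E (ψ₂ s) = ψ₁ s := fun s => by
    have : (QuotientAddGroup.quotientKerEquivOfSurjective ψ₂ hs₂).symm (ψ₂ s) = (s : _ ⧸ ψ₂.ker) :=
      (AddEquiv.symm_apply_eq _).2 rfl
    simp only [E, equivOfKerEq, AddEquiv.trans_apply, this]
    rfl
  let EL : Γ(P.homology p, V) ≃ₗ[Γ(S, V)] Coh.HH U.toScheme (I.cycles 0) p :=
    { E with
      map_smul' := fun a x => by
        obtain ⟨s, rfl⟩ := hs₂ x
        let g : Γ(U.toScheme, ⊤) := Coh.toGlobal (U.toScheme ↘ Spec (CommRingCat.of Γ(S, V))) a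
        have ht : (I.d p (p + 1)).app ⊤ (g • s.1) = 0 := by rw [TMul.app_smul, s.2, smul_zero]
        change E (a • ψ₂ s) = a • E (ψ₂ s)
        rw [show a • ψ₂ s = ψ₂ ⟨g • s.1, ht⟩ from ?_, hE, hE, hl₁ a s ⟨g • s.1, ht⟩ rfl]
        change a • (P.homologyπ p).app V (z s) = (P.homologyπ p).app V (z _)
        rw [hzu ⟨g • s.1, ht⟩ (a • z s) (by rw [TMul.app_smul, hz]; exact (hρsm a s.1).symm), TMul.app_smul] }
  let a : (Coh.Rpush f p).obj M ≅ P.homology p := R.isoRightDerivedObj (Coh.push f) p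
  let La : Γ((Coh.Rpush f p).obj M, V) ≃ₗ[Γ(S, V)] Γ(P.homology p, V) :=
    { toFun := a.hom.app V
      invFun := a.inv.app V
      left_inv := fun x => ConcreteCategory.congr_hom
        (congrArg (fun m : (Coh.Rpush f p).obj M ⟶ (Coh.Rpush f p).obj M => Scheme.Modules.Hom.app m V) a.hom_inv_id) x
      right_inv := fun x => ConcreteCategory.congr_hom
        (congrArg (fun m : P.homology p ⟶ P.homology p => Scheme.Modules.Hom.app m V) a.inv_hom_id) x
      map_add' := map_add _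
      map_smul' := TMul.app_smul a.hom }
  exact ⟨La ≪≫ₗ EL ≪≫ₗ CohFinite.hhEquiv Γ(S, V) e0 p⟩

end Groth.Agent.W7Cech
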