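import Groth.Agent.W7Cech.FlatHom
import Groth.Agent.W7Cech.Approx
import Groth.Agent.W7Cech.RpushSec
import Groth.Agent.W7Cech.ResField
import Groth.Agent.FlatLimMod.Basic

/-!
Over an affine open of the base: higher direct images and cohomology of fibres from one complex.
-/

set_option autoImplicit false
set_option backward.isDefEq.respectTransparency false
set_option backward.isDefEq.respectTransparency.types false
set_option linter.style.haveILetI false

universe u

open CategoryTheory CategoryTheory.Limits AlgebraicGeometry TopologicalSpace MonoidalCategory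
open Groth.Agent.SiteCoh
open scoped TensorProduct

noncomputable section

namespace Groth.Agent.W7Cech

variable (A : Type u) [CommRing A] (B : Type u) [CommRing B] [Algebra A B] {X X' : Scheme.{u}}
  [X.Over (Spec (CommRingCat.of A))] [X'.Over (Spec (CommRingCat.of B))]
  {ι : Type u} [Finite ι] (U : ι → X.Opens)
  (hU : ∀ (n : ℕ) (a : Fin (n + 1) → ι), IsAffineOpen (tupleProd U a)) (hcov : iSup U = ⊤)

include hU hcov in
/-- The cohomology of the base change is `H^p(C ⊗_A B)`, linearly. -/
theorem nonempty_hh_bc_lin (g : X' ⟶ X)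
    (sq : IsPullback g (X' ↘ Spec (CommRingCat.of B)) (X ↘ Spec (CommRingCat.of A))
      (Spec.map (CommRingCat.ofHom (algebraMap A B))))
    (F : X.Modules) (hF : Coh.IsQCoh F) (p : ℕ) :
    Nonempty ((ModuleCat.restrictScalars (algebraMap A B)).obj
        (ModuleCat.of B (Coh.HH X' ((Scheme.Modules.pullback g).obj F) p)) ≅
      CohIII.T ((CC A U).obj F) p (ModuleCat.of A B)) := by
  obtain ⟨eH, -⟩ := exists_hhEquiv B (pre g U) (isAffineOpen_pre A B g sq U hU) (iSup_pre g U hcov) p
  obtain ⟨η⟩ := nonempty_TFun_bc A B g U F sq hU hF p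
  let N₀ : ModuleCat.{u} A := (ModuleCat.restrictScalars (algebraMap A B)).obj (ModuleCat.of B B)
  let r : N₀ ≅ ModuleCat.of A B :=
    { hom := ConcreteCategory.ofHom (C := ModuleCat.{u} A)
        { toFun := fun x => x
          map_add' := fun _ _ => rfl
          map_smul' := fun a b => (Algebra.smul_def (A := B) a b).symm }
      inv := ConcreteCategory.ofHom (C := ModuleCat.{u} A)
        { toFun := fun x => x
          map_add' := fun _ _ => rfl
          map_smul' := fun a b => Algebra.smul_def (A := B) a b }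
      hom_inv_id := rfl
      inv_hom_id := rfl }
  let C' := (CC B (pre g U)).obj ((Scheme.Modules.pullback g).obj F)
  exact ⟨(ModuleCat.restrictScalars (algebraMap A B)).mapIso
      ((eH _ (QC.isQCoh_pullback g hF)).symm.toModuleIso ≪≫
        (HomologicalComplex.homologyMapIso (ridIso B C') p).symm) ≪≫
      (η.app (ModuleCat.of B B)).symm ≪≫ (CohIII.TFun ((CC A U).obj F) p).mapIso r⟩

variable {X S : Scheme.{u}} (f : X ⟶ S) [IsProper f] (F : X.Modules)

/-- On every affine open of a locally noetherian base, one complex of finite free modules computes the higher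
direct images, the functors `H^p(F ⊗ -)`, and the cohomology of the fibres. -/
theorem exists_model [IsLocallyNoetherian S] [HasInjectiveResolutions X.Modules] (hF : Coh.IsCoh F)
    (hfl : FlatMod.IsFlatOver f F) {V : S.Opens} (hV : IsAffineOpen V) :
    letI : (f ⁻¹ᵁ V).toScheme.Over (Spec (CommRingCat.of Γ(S, V))) := ⟨(f ∣_ V) ≫ hV.isoSpec.hom⟩
    ∃ (L : CochainComplex (ModuleCat.{u} Γ(S, V)) ℤ) (b : ℤ),
      (∀ i, Module.Finite Γ(S, V) (L.X i) ∧ Module.Free Γ(S, V) (L.X i)) ∧
      (∀ i, b < i → IsZero (L.X i)) ∧ (∀ n : ℤ, n < 0 → ∀ M, IsZero (CohIII.T L n M)) ∧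
      (∀ p : ℕ, Nonempty (Γ((Coh.Rpush f p).obj F, V) ≃ₗ[Γ(S, V)] FlatCx.Hm L (p : ℤ))) ∧
      (∀ (p : ℕ) (y : S) (hy : y ∈ V),
        CohIII.fiberRank f F p y = CohIII.dRank L (p : ℤ) (specPt y hy)) ∧
      (∀ (p : ℕ) (y : S) (hy : y ∈ V), Subsingleton (CohIII.fiberH f F y p) ↔
        IsZero (CohIII.T L (p : ℤ) (ModuleCat.of Γ(S, V) (specPt y hy).asIdeal.ResidueField))) := by
  let A : Type u := Γ(S, V)
  let U₀ : X.Opens := f ⁻¹ᵁ V
  let F₀ := F.restrict U₀.ι
  letI : U₀.toScheme.Over (Spec (CommRingCat.of A)) := ⟨(f ∣_ V) ≫ hV.isoSpec.hom⟩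
  haveI : IsNoetherianRing A := IsLocallyNoetherian.component_noetherian ⟨V, hV⟩
  haveI : IsProper (f ∣_ V) := IsZariskiLocalAtTarget.restrict (P := @IsProper) ‹_› V
  haveI : IsProper (U₀.toScheme ↘ Spec (CommRingCat.of A)) :=
    inferInstanceAs (IsProper ((f ∣_ V) ≫ hV.isoSpec.hom))
  have hF₀ : Coh.IsCoh F₀ := ⟨Groth.Agent.QC.isQCoh_restrict _ hF.1, Groth.Agent.QC.isFT_restrict _ hF.2⟩
  have hfl₀ : FlatMod.IsFlatOver (U₀.toScheme ↘ Spec (CommRingCat.of A)) F₀ := fun x => by
    have hsq : IsPullback U₀.ι ((f ∣_ V) ≫ hV.isoSpec.hom) f hV.fromSpec := by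
      refine ((isPullback_morphismRestrict f V).flip).of_iso (Iso.refl _) (Iso.refl _) hV.isoSpec (Iso.refl _)
        ?_ ?_ ?_ ?_
      · simp [U₀]
      · simp [U₀]
      · simp
      · simp
    exact FlatLimMod.isFlatOverAt_of_iso _ ((Scheme.Modules.restrictFunctorIsoPullback U₀.ι).app F).symm
      (FlatModBC.isFlatOverAt_baseChange hsq F x (hfl _))
  haveI : CompactSpace U₀.toScheme :=
    QuasiCompact.compactSpace_of_compactSpace (U₀.toScheme ↘ Spec (CommRingCat.of A))
  haveI : U₀.toScheme.IsSeparated := by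
    constructor
    rw [← terminal.comp_from (U₀.toScheme ↘ Spec (CommRingCat.of A))]
    infer_instance
  obtain ⟨ι, hι, W, hW, hcov⟩ := exists_cover U₀.toScheme
  haveI := hι
  obtain ⟨L, b, hLf, hLb, hneg, hL⟩ := exists_approx A F₀ hF₀ hfl₀
  let C := (CC A W).obj F₀
  have hnat : ∀ p : ℕ, ∀ M, Nonempty (CohIII.T L (p : ℤ) M ≅ CohIII.T C p M) := fun p M => by
    obtain ⟨e, -⟩ := hL p
    obtain ⟨e', -⟩ := exists_TEquiv A W hW hcov F₀ hF₀.1 p
    exact ⟨((e M).trans (e' M).symm).toModuleIso⟩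
  have hLfl : ∀ i, Module.Flat A (L.X i) := fun i => haveI := (hLf i).2; inferInstance
  have key : ∀ (p : ℕ) (y : S) (hy : y ∈ V),
      letI : Algebra A (S.residueField y) := (S.evaluation V y hy).hom.toAlgebra
      ∃ e : CohIII.fiberH f F y p ≃+ (CohIII.T L (p : ℤ) (ModuleCat.of A (S.residueField y)) : Type u),
        ∀ (a : A) (v : CohIII.fiberH f F y p), e (algebraMap A (S.residueField y) a • v) = a • e v := by
    intro p y hy
    letI : Algebra A (S.residueField y) := (S.evaluation V y hy).hom.toAlgebra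
    letI : (f.fiber y).Over (Spec (CommRingCat.of ↥(S.residueField y))) := ⟨f.fiberToSpecResidueField y⟩
    let σ : Spec (S.residueField y) ⟶ V.toScheme := Spec.map (S.evaluation V y hy) ≫ hV.isoSpec.inv
    have hσ : σ ≫ V.ι = S.fromSpecResidueField y := by
      rw [Category.assoc, IsAffineOpen.isoSpec_inv_ι]
      exact SpecMap_evaluation_fromSpec hV y hy
    have hrange : Set.range (f.fiberι y) ⊆ Set.range U₀.ι := by
      rintro _ ⟨z, rfl⟩
      rw [Scheme.Opens.range_ι]
      change f (f.fiberι y z) ∈ V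
      rw [← Scheme.Hom.comp_apply, Scheme.Hom.fiber_fac, Scheme.Hom.comp_apply, ← hσ, Scheme.Hom.comp_apply]
      exact (σ (f.fiberToSpecResidueField y z)).2
    let g : f.fiber y ⟶ U₀.toScheme := IsOpenImmersion.lift U₀.ι (f.fiberι y) hrange
    have hg : g ≫ U₀.ι = f.fiberι y := IsOpenImmersion.lift_fac _ _ _
    have sq : IsPullback g (f.fiberToSpecResidueField y) ((f ∣_ V) ≫ hV.isoSpec.hom)
        (Spec.map (S.evaluation V y hy)) := by
      have h1 : IsPullback (g ≫ U₀.ι) (f.fiberToSpecResidueField y) f (σ ≫ V.ι) := by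
        rw [hg, hσ]
        exact IsPullback.of_hasPullback f (S.fromSpecResidueField y)
      have h2 : g ≫ (f ∣_ V) = f.fiberToSpecResidueField y ≫ σ := by
        rw [← cancel_mono V.ι, Category.assoc, morphismRestrict_ι, ← Category.assoc, hg, Category.assoc, hσ,
          Scheme.Hom.fiber_fac]
      have h3 : IsPullback g (f.fiberToSpecResidueField y) (f ∣_ V) σ :=
        IsPullback.of_right h1 h2 (isPullback_morphismRestrict f V).flip
      refine h3.of_iso (Iso.refl _) (Iso.refl _) (Iso.refl _) hV.isoSpec ?_ ?_ ?_ ?_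
      · simp
      · simp
      · simp
      · simp [σ]
    obtain ⟨i₁⟩ := nonempty_hh_bc_lin A (S.residueField y) W hW hcov g sq F₀ hF₀.1 p
    obtain ⟨i₂⟩ := hnat p (ModuleCat.of A (S.residueField y))
    let j : (Scheme.Modules.pullback g).obj F₀ ≅ CohIII.fiberMod f F y :=
      (Scheme.Modules.pullback g).mapIso ((Scheme.Modules.restrictFunctorIsoPullback U₀.ι).app F) ≪≫
        (Scheme.Modules.pullbackComp g U₀.ι).app F ≪≫ (Scheme.Modules.pullbackCongr hg).app F
    let ej := (CohFinite.hhEquiv (S.residueField y) j p).symm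
    let ei := (i₁ ≪≫ i₂.symm).toLinearEquiv
    refine ⟨ej.toAddEquiv.trans ei.toAddEquiv, fun a v => ?_⟩
    exact (congrArg ei (ej.map_smul (algebraMap A (S.residueField y) a) v)).trans (ei.map_smul a (ej v))
  refine ⟨L, b, hLf, hLb, hneg, fun p => ?_, fun p y hy => ?_, fun p y hy => ?_⟩
  · obtain ⟨eR⟩ := nonempty_rpush_sections f F hF.1 p hV
    obtain ⟨eH, -⟩ := exists_hhEquiv A W hW hcov p
    obtain ⟨i⟩ := hnat p (ModuleCat.of A A)
    exact ⟨eR ≪≫ₗ (eH F₀ hF₀.1).symm ≪≫ₗ
      ((HomologicalComplex.homologyMapIso (ridIso A C) p).symm ≪≫ i.symm).toLinearEquiv ≪≫ₗ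
      (FlatCx.HmEquivT L hLfl (p : ℤ)).symm⟩
  · letI : Algebra A (S.residueField y) := (S.evaluation V y hy).hom.toAlgebra
    obtain ⟨σ, hσ⟩ := exists_residueField_equiv (k := S.residueField y) (evaluation_frac hV y hy) (specPt y hy) rfl
    obtain ⟨e, he⟩ := key p y hy
    let κ := (specPt y hy).asIdeal.ResidueField
    let σA : (ModuleCat.of A (S.residueField y)) ≅ ModuleCat.of A κ :=
      (σ.toAddEquiv.toLinearEquiv fun a b => by
        change σ (a • b) = a • σ b
        rw [Algebra.smul_def, map_mul, hσ, ← Algebra.smul_def]).toModuleIso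
    obtain ⟨i⟩ := nonempty_bcCx_T A L (B := κ) (p : ℤ)
    let e₂ := ((CohIII.TFun L (p : ℤ)).mapIso σA ≪≫ i.symm).toLinearEquiv
    exact finrank_eq_of_linear (A := A) (S.residueField y) κ (evaluation_frac hV y hy) σ hσ _ _
      (e.trans e₂.toAddEquiv) fun a v => (congrArg e₂ (he a v)).trans (e₂.map_smul a (e v))
  · letI : Algebra A (S.residueField y) := (S.evaluation V y hy).hom.toAlgebra
    obtain ⟨σ, hσ⟩ := exists_residueField_equiv (k := S.residueField y) (evaluation_frac hV y hy) (specPt y hy) rfl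
    obtain ⟨e, -⟩ := key p y hy
    let σA : (ModuleCat.of A (S.residueField y)) ≅ ModuleCat.of A (specPt y hy).asIdeal.ResidueField :=
      (σ.toAddEquiv.toLinearEquiv fun a b => by
        change σ (a • b) = a • σ b
        rw [Algebra.smul_def, map_mul, hσ, ← Algebra.smul_def]).toModuleIso
    refine (e.toEquiv.subsingleton_congr).trans ⟨fun h => ?_, fun h => ?_⟩
    · haveI : Subsingleton ((CohIII.TFun L (p : ℤ)).obj (ModuleCat.of A (S.residueField y))) := h
      exact (ModuleCat.isZero_of_subsingleton _).of_iso ((CohIII.TFun L (p : ℤ)).mapIso σA.symm)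
    · exact ModuleCat.subsingleton_of_isZero (h.of_iso ((CohIII.TFun L (p : ℤ)).mapIso σA))

end Groth.Agent.W7Cech
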