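import Groth.Agent.W7Cech.NNBC
import Groth.Agent.W7Cech.FibreRank
import Groth.Agent.FlatCx.FlatBC

/-!
Flat base change of cohomology of quasi-coherent modules on a quasi-compact separated scheme.
-/

set_option autoImplicit false
set_option backward.isDefEq.respectTransparency false
set_option backward.isDefEq.respectTransparency.types false
set_option linter.style.haveILetI false

universe u

open CategoryTheory CategoryTheory.Limits AlgebraicGeometry TopologicalSpace MonoidalCategory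
open Groth.Agent.SiteCoh
open scoped TensorProduct

noncomputable section

namespace Groth.Agent.W7Cech

/-- `H^p(X', g^*F) ≅ B ⊗_A H^p(X, F)`, linearly over `B`. -/
theorem nonempty_hh_flatBC (A B : Type u) [CommRing A] [CommRing B] [Algebra A B] [Module.Flat A B]
    {X X' : Scheme.{u}} [X.Over (Spec (CommRingCat.of A))] [X'.Over (Spec (CommRingCat.of B))]
    [CompactSpace X] [X.IsSeparated] (g : X' ⟶ X)
    (sq : IsPullback g (X' ↘ Spec (CommRingCat.of B)) (X ↘ Spec (CommRingCat.of A))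
      (Spec.map (CommRingCat.ofHom (algebraMap A B))))
    (F : X.Modules) (hF : Coh.IsQCoh F) (p : ℕ) :
    Nonempty ((B ⊗[A] Coh.HH X F p) ≃ₗ[B] Coh.HH X' ((Scheme.Modules.pullback g).obj F) p) := by
  obtain ⟨ι, hι, U, hU, hcov⟩ := exists_cover X
  haveI := hι
  let φ : A →+* B := algebraMap A B
  let C := (CC A U).obj F
  let C' := (CC B (pre g U)).obj ((Scheme.Modules.pullback g).obj F)
  obtain ⟨eH, -⟩ := exists_hhEquiv A U hU hcov p
  obtain ⟨eH', -⟩ := exists_hhEquiv B (pre g U) (isAffineOpen_pre A B g sq U hU) (iSup_pre g U hcov) p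
  obtain ⟨i⟩ := nonempty_TFun_bcCx B φ C p
  obtain ⟨j⟩ := nonempty_TFun_bc A B g U F sq hU hF p
  obtain ⟨η⟩ := exists_linear_natIso φ (CohIII.TFun (CohIII.bcCx φ C) p) (CohIII.TFun C' p)
    (TFun_map_smul _ p) (TFun_map_smul _ p) (i.symm ≪≫ j)
  obtain ⟨eflat⟩ := FlatCx.homology_flatBC B C p
  let e₁ : ((CohIII.bcCx φ C).homology p : Type u) ≃ₗ[B] (C'.homology p : Type u) :=
    ((HomologicalComplex.homologyMapIso (ridIso B (CohIII.bcCx φ C)) p).symm ≪≫ η.app (ModuleCat.of B B) ≪≫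
      HomologicalComplex.homologyMapIso (ridIso B C') p).toLinearEquiv
  let e₀ : FlatCx.Hm C p ≃ₗ[A] Coh.HH X F p := (FlatCx.homologyHmEquiv C p).symm ≪≫ₗ eH F hF
  exact ⟨(TensorProduct.AlgebraTensorModule.congr (LinearEquiv.refl B B) e₀).symm ≪≫ₗ eflat.symm ≪≫ₗ e₁ ≪≫ₗ
    eH' _ (QC.isQCoh_pullback g hF)⟩

end Groth.Agent.W7Cech
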