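import Groth.Agent.W7Cech.FlatHom
import Groth.Agent.W7Cech.Approx

/-!
The Čech complex of a base change is the extension of scalars of the Čech complex; flat base change, linearly.
-/

set_option autoImplicit false
set_option backward.isDefEq.respectTransparency false
set_option backward.isDefEq.respectTransparency.types false
set_option linter.style.haveILetI false

universe u

open CategoryTheory CategoryTheory.Limits AlgebraicGeometry TopologicalSpace MonoidalCategory
open Groth.Agent.SiteCoh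
open scoped TensorProduct

noncomputable section

namespace Groth.Agent.W7Cech

variable (A B : Type u) [CommRing A] [CommRing B] [Algebra A B] {X X' : Scheme.{u}}
  [X.Over (Spec (CommRingCat.of A))] [X'.Over (Spec (CommRingCat.of B))]
  {ι : Type u} [Finite ι] (U : ι → X.Opens)
  (hU : ∀ (n : ℕ) (a : Fin (n + 1) → ι), IsAffineOpen (tupleProd U a))

include hU in
/-- The Čech complex of the base change. -/
theorem nonempty_bcCx_CC (g : X' ⟶ X)
    (sq : IsPullback g (X' ↘ Spec (CommRingCat.of B)) (X ↘ Spec (CommRingCat.of A))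
      (Spec.map (CommRingCat.ofHom (algebraMap A B))))
    (F : X.Modules) (hF : Coh.IsQCoh F) :
    Nonempty (CohIII.bcCx (algebraMap A B) ((CC A U).obj F) ≅
      (CC B (pre g U)).obj ((Scheme.Modules.pullback g).obj F)) := by
  obtain ⟨φ, rfl⟩ : ∃ φ : A →+* B, ‹Algebra A B› = φ.toAlgebra :=
    ⟨algebraMap A B, Algebra.algebra_ext _ _ fun _ => rfl⟩
  letI := φ.toAlgebra
  let F' := (Scheme.Modules.pullback g).obj F
  have key : ∀ n, ∃ e : (B ⊗[A] (CoX A U F n : Type u)) ≃ₗ[B] (CoX B (pre g U) F' n : Type u),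
      ∀ x, e ((1 : B) ⊗ₜ[A] x) = psiX A B g U F n sq x := fun n => by
    letI := Module.compHom (CoX B (pre g U) F' n : Type u) (algebraMap A B)
    haveI : IsScalarTower A B (CoX B (pre g U) F' n : Type u) :=
      IsScalarTower.of_algebraMap_smul fun _ _ => rfl
    refine ⟨(isBaseChange_psiX A B g sq U F hU hF n).equiv, fun x => ?_⟩
    rw [IsBaseChange.equiv_tmul, one_smul]
    rfl
  choose e he using key
  refine ⟨HomologicalComplex.Hom.isoOfComponents (fun n => (e n).toModuleIso) fun i j hij => ?_⟩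
  obtain rfl : i + 1 = j := hij
  refine ModuleCat.ExtendScalars.hom_ext fun x => ?_
  change ((CC B (pre g U)).obj F').d i (i + 1) (e i ((1 : B) ⊗ₜ[A] x)) =
    e (i + 1) ((1 : B) ⊗ₜ[A] (((CC A U).obj F).d i (i + 1)).hom x)
  rw [he, he, CC_d, CC_d]
  exact psiX_d A B g sq U F i x

include hU in
/-- Flat base change of cohomology, linearly over the new ring. -/
theorem nonempty_hh_flat_bc [Module.Flat A B] (hcov : iSup U = ⊤) (g : X' ⟶ X)
    (sq : IsPullback g (X' ↘ Spec (CommRingCat.of B)) (X ↘ Spec (CommRingCat.of A))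
      (Spec.map (CommRingCat.ofHom (algebraMap A B))))
    (F : X.Modules) (hF : Coh.IsQCoh F) (p : ℕ) :
    Nonempty (Coh.HH X' ((Scheme.Modules.pullback g).obj F) p ≃ₗ[B] B ⊗[A] Coh.HH X F p) := by
  obtain ⟨eH', -⟩ := exists_hhEquiv B (pre g U) (isAffineOpen_pre A B g sq U hU) (iSup_pre g U hcov) p
  obtain ⟨eH, -⟩ := exists_hhEquiv A U hU hcov p
  obtain ⟨i⟩ := nonempty_bcCx_CC A B U hU g sq F hF
  obtain ⟨b⟩ := FlatCx.homology_flatBC B ((CC A U).obj F) p
  exact ⟨(eH' _ (QC.isQCoh_pullback g hF)).symm ≪≫ₗ (HomologicalComplex.homologyMapIso i p).toLinearEquiv.symm ≪≫ₗ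
    b ≪≫ₗ TensorProduct.AlgebraTensorModule.congr (LinearEquiv.refl B B)
      ((FlatCx.homologyHmEquiv _ p).symm ≪≫ₗ eH F hF)⟩

end Groth.Agent.W7Cech
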