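import Groth.Agent.W7Cech.RestrBase
import Groth.Agent.CohQC.Push
import Groth.Agent.CohQC.RpushModules
import Groth.Agent.FreeJ.Grothendieck
import Groth.Agent.SymAlg.BundleMap
import Groth.Agent.InvGen.Basic
import Groth.Agent.DerPerf.Local
import Groth.Agent.TMul.AmpleBasis
import Groth.Agent.SiteCoh.Terminal

/-!
A morphism with `Rf_* O = O` preserves cohomology of invertible modules.
-/

set_option autoImplicit false
set_option backward.isDefEq.respectTransparency false
set_option backward.isDefEq.respectTransparency.types false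
set_option linter.style.haveILetI false

universe u

open CategoryTheory CategoryTheory.Limits Opposite TopologicalSpace AlgebraicGeometry
open Groth.Agent.QC (res resO res_res res_self res_smul app_res)

noncomputable section

namespace Groth.Agent.W7Cech

/-- A sheaf vanishing on a cover is zero. -/
lemma isZero_of_restr {X : TopCat.{u}} {G : CohTop.Ab X}
    (h : ∀ x : X, ∃ V : Opens X, x ∈ V ∧ IsZero (CohTop.restr G V)) : IsZero G := by
  rw [IsZero.iff_id_eq_zero]
  refine Sheaf.hom_ext (NatTrans.ext (funext fun W => AddCommGrpCat.ext fun (s : G.obj.obj W) => ?_))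
  choose V hxV hV using h
  refine TopCat.Sheaf.eq_of_locally_eq' G (fun x => W.unop ⊓ V x) W.unop (fun x => homOfLE inf_le_left)
    (fun x hx => Opens.mem_iSup.2 ⟨x, hx, hxV x⟩) _ _ fun x => ?_
  let U : Opens (TopCat.of (V x)) := (V x).overEquivalence.functor.obj (Over.mk (homOfLE (inf_le_right : W.unop ⊓ V x ≤ V x)))
  let T := ((V x).overEquivalence.inverse.obj U).left
  have hT : W.unop ⊓ V x = T := by
    ext y
    refine ⟨fun hy => ⟨⟨y, hy.2⟩, hy, rfl⟩, ?_⟩
    rintro ⟨z, hz, rfl⟩
    exact hz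
  haveI hsub : Subsingleton ((CohTop.restr G (V x)).obj.obj (op U)) :=
    AddCommGrpCat.subsingleton_of_isZero (((sheafToPresheaf _ _).map_isZero (hV x)).obj (op U))
  haveI : Subsingleton (G.obj.obj (op (W.unop ⊓ V x))) := by
    rw [hT]
    exact hsub
  exact Subsingleton.elim _ _

variable {X Y : Scheme.{u}} (f : X ⟶ Y)

/-- Higher direct images of abelian sheaves of a locally trivial pullback vanish if those of `O` do. -/
theorem isZero_rpushAb_of_local {N : X.Modules}
    (hloc : ∀ y : Y, ∃ V : Y.Opens, y ∈ V ∧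
      Nonempty (N.restrict (f ⁻¹ᵁ V).ι ≅ (Coh.structureModule X).restrict (f ⁻¹ᵁ V).ι))
    (q : ℕ) (h : IsZero ((CohTop.Rpush f.base q).obj (Coh.toAb (Coh.structureModule X)))) :
    IsZero ((CohTop.Rpush f.base q).obj (Coh.toAb N)) := by
  refine isZero_of_restr fun y => ?_
  obtain ⟨V, hy, ⟨e⟩⟩ := hloc y
  refine ⟨V, hy, ?_⟩
  obtain ⟨i₁⟩ := nonempty_rpush_restr f.base V (Coh.toAb N) q
  obtain ⟨i₂⟩ := nonempty_rpush_restr f.base V (Coh.toAb (Coh.structureModule X)) q
  refine (((CohTop.restrFunctor V).map_isZero h).of_iso ?_)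
  exact i₁ ≪≫ (CohTop.Rpush (overMap f.base V) q).mapIso
    ((SheafOfModules.toSheaf _).mapIso e) ≪≫ i₂.symm

/-- If some isomorphism `f_* O ≅ O` exists, functions on the base and upstairs agree. -/
lemma app_bijective_of_iso (h0 : (Coh.push f).obj (Coh.structureModule X) ≅ Coh.structureModule Y)
    (W : Y.Opens) : Function.Bijective (f.app W).hom := by
  let P := (Coh.push f).obj (Coh.structureModule X)
  let g : Γ(X, f ⁻¹ᵁ W) := h0.inv.app W (1 : Γ(Y, W))
  have key : ∀ t : Γ(X, f ⁻¹ᵁ W), t = (f.app W).hom (h0.hom.app W t) * g := fun t => by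
    have h1 := Scheme.Modules.Hom.app_smul h0.inv (U := W) (show Γ(Y, W) from h0.hom.app W t) (1 : Γ(Y, W))
    have h2 : h0.inv.app W (h0.hom.app W t) = t := congr(($(h0.hom_inv_id)).app W t)
    refine h2.symm.trans ((congrArg (h0.inv.app W) (mul_one (show Γ(Y, W) from h0.hom.app W t)).symm).trans ?_)
    exact h1
  obtain ⟨a, ha⟩ : ∃ a, 1 = (f.app W).hom a * g := ⟨_, key 1⟩
  obtain ⟨b, hb⟩ : ∃ b, g * g = (f.app W).hom b * g := ⟨_, key (g * g)⟩
  have hg : g = (f.app W).hom b := by
    calc g = ((f.app W).hom a * g) * g := by rw [← ha, one_mul]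
      _ = (f.app W).hom b * ((f.app W).hom a * g) := by rw [mul_assoc, hb]; ring
      _ = (f.app W).hom b := by rw [← ha, mul_one]
  refine ⟨(injective_iff_map_eq_zero _).2 fun c hc => ?_, fun t => ⟨(show Γ(Y, W) from h0.hom.app W t) * b, ?_⟩⟩
  · have h1 := Scheme.Modules.Hom.app_smul h0.inv (U := W) c (1 : Γ(Y, W))
    have h3 : h0.inv.app W c = (0 : Γ(X, f ⁻¹ᵁ W)) := by
      refine ((congrArg (h0.inv.app W) (mul_one c).symm).trans h1).trans ?_
      change (f.app W).hom c * g = 0
      rw [hc, zero_mul]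
    have h4 : h0.hom.app W (h0.inv.app W c) = c := congr(($(h0.inv_hom_id)).app W c)
    exact h4.symm.trans ((congrArg (h0.hom.app W) h3).trans (map_zero _))
  · rw [map_mul, ← hg]
    exact (key t).symm

/-- The unit `L → f_* f^* L` is an isomorphism for invertible `L`. -/
theorem isIso_unit_of_invertible (h0 : (Coh.push f).obj (Coh.structureModule X) ≅ Coh.structureModule Y)
    {L : Y.Modules} (hL : PicF.IsInvertible L) :
    IsIso ((Scheme.Modules.pullbackPushforwardAdjunction f).unit.app L) := by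
  let M := (Scheme.Modules.pullback f).obj L
  let η := (Scheme.Modules.pullbackPushforwardAdjunction f).unit.app L
  have hloc : ∀ y : Y, ∃ U : Y.Opens, y ∈ U ∧ ∀ W : Y.Opens, W ≤ U → Function.Bijective (η.app W) := by
    intro y
    obtain ⟨U, ℓ, hy, hℓ⟩ := TMul.exists_isGen hL y
    refine ⟨U, hy, fun W hW => ?_⟩
    have hg := SymAlg.isGen_pullθ f (Iso.refl M) (PicLoc.isInvertible_pullback f hL)
      (TMul.isQCoh_of_isInvertible hL) ℓ hℓ
    have hb := hg (f ⁻¹ᵁ W) (f.preimage_mono hW)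
    have hη : (fun c : Γ(Y, W) => η.app W (c • res L hW ℓ)) = fun c : Γ(Y, W) =>
        (f.app W).hom c • res M (f.preimage_mono hW) ((SymAlg.pullθ f (Iso.refl M)).app U ℓ) := by
      funext c
      refine (Scheme.Modules.Hom.app_smul η c _).trans ?_
      change (f.app W).hom c • (show Γ(M, f ⁻¹ᵁ W) from η.app W (res L hW ℓ)) = _
      exact congrArg ((f.app W).hom c • ·) (app_res η hW ℓ).symm
    have h2 : Function.Bijective fun c : Γ(Y, W) => η.app W (c • res L hW ℓ) := by
      rw [hη]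
      exact hb.comp (app_bijective_of_iso f h0 W)
    exact (Function.Bijective.of_comp_iff _ (hℓ W hW)).1 h2
  haveI : Epi η := InvGen.epi_of_locally η fun U t y hy => by
    obtain ⟨V, hyV, hV⟩ := hloc y
    exact ⟨U ⊓ V, inf_le_left, ⟨hy, hyV⟩, (hV _ inf_le_right).2 _⟩
  haveI : Mono η := (QC.mono_iff_app_injective _).2 fun W s t hst => QC.section_eq_of_locally fun y hy => by
    obtain ⟨V, hyV, hV⟩ := hloc y
    refine ⟨W ⊓ V, inf_le_left, ⟨hy, hyV⟩, (hV _ inf_le_right).1 ?_⟩
    rw [← app_res η, ← app_res η, hst]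
  exact isIso_of_mono_of_epi η

set_option maxHeartbeats 2000000 in
/-- If `Rf_* O = O`, pullback preserves cohomology of invertible modules. -/
theorem nonempty_hh_pullback_invertible [HasInjectiveResolutions X.Modules]
    (hR : ∀ i : ℕ, IsZero ((Coh.Rpush f (i + 1)).obj (Coh.structureModule X)))
    (h0 : (Coh.push f).obj (Coh.structureModule X) ≅ Coh.structureModule Y)
    {L : Y.Modules} (hL : PicF.IsInvertible L) (p : ℕ) :
    Nonempty (Coh.HH X ((Scheme.Modules.pullback f).obj L) p ≃+ Coh.HH Y L p) := by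
  let N := (Scheme.Modules.pullback f).obj L
  have hloc : ∀ y : Y, ∃ V : Y.Opens, y ∈ V ∧
      Nonempty (N.restrict (f ⁻¹ᵁ V).ι ≅ (Coh.structureModule X).restrict (f ⁻¹ᵁ V).ι) := fun y => by
    obtain ⟨V, hy, ⟨φ⟩⟩ := hL y
    exact ⟨V, hy, ⟨(DerPerf.pullRestrictIso f V).app L ≪≫ (Scheme.Modules.pullback (f ∣_ V)).mapIso φ ≪≫
      DerPerf.pullUnitIso (f ∣_ V) ≪≫ (Scheme.Modules.restrictUnitIso _).symm⟩⟩
  have hA : Groth.Agent.SiteCoh.DirectAcyclic (Opens.grothendieckTopology Y) (Opens.map f.base) (Coh.toAb N) :=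
    fun q => by
      obtain ⟨e⟩ := CohQC.toAb_rpush_iso f (Coh.structureModule X) (q + 1)
      have hz : IsZero ((CohTop.Rpush f.base (q + 1)).obj (Coh.toAb (Coh.structureModule X))) :=
        ((SheafOfModules.toSheaf _).map_isZero (hR q)).of_iso e.symm
      exact SiteCoh.locKilled_of_isZero (u := Opens.map f.base) (isZero_rpushAb_of_local f hloc (q + 1) hz)
  obtain ⟨e⟩ := CohQC.hu_push_equiv f (Coh.toAb N) hA ⊤ p
  let t₁ := SiteCoh.huTerminalEquiv (Opens.grothendieckTopology X) (T := (⊤ : X.Opens)) isTerminalTop (Coh.toAb N) p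
  let t₂ := SiteCoh.huTerminalEquiv (Opens.grothendieckTopology Y) (T := (⊤ : Y.Opens)) isTerminalTop
    (Coh.toAb ((Coh.push f).obj N)) p
  haveI := isIso_unit_of_invertible f h0 hL
  let u : (Coh.push f).obj N ≅ L := (asIso ((Scheme.Modules.pullbackPushforwardAdjunction f).unit.app L)).symm
  exact ⟨t₁.trans (e.trans (t₂.symm.trans
    ((Sheaf.functorH (Opens.grothendieckTopology Y) p).mapIso
      ((SheafOfModules.toSheaf _).mapIso u)).addCommGroupIsoToAddEquiv))⟩

end Groth.Agent.W7Cech
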