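import Groth.Agent.W7Cech.NNGrauert
import Groth.Agent.FibDepth.Global

/-!
Vanishing and local freeness of higher direct images over arbitrary bases.
-/

set_option autoImplicit false
set_option backward.isDefEq.respectTransparency false
set_option backward.isDefEq.respectTransparency.types false
set_option linter.style.haveILetI false

universe u

open CategoryTheory CategoryTheory.Limits AlgebraicGeometry TopologicalSpace Opposite
open Groth.Agent.FlatCx

noncomputable section

namespace Groth.Agent.W7Cech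

/-- Local freeness on an open, from free neighbourhoods of its points. -/
lemma isFinLocFree_restrict_of_local {S : Scheme.{u}} (R : S.Modules) (W : S.Opens)
    (h : ∀ y ∈ W, ∃ U : S.Opens, ∃ n : ℕ, y ∈ U ∧ Nonempty (R.restrict U.ι ≅ FlatMod.freeMod (↑U) n)) :
    FlatMod.IsFinLocFree (R.restrict W.ι) := fun x => by
  obtain ⟨U, n, hxU, ⟨e⟩⟩ := h _ x.2
  exact ⟨W.ι ⁻¹ᵁ U, n, hxU, ⟨(Scheme.Modules.restrictFunctor (W.ι ⁻¹ᵁ U).ι).mapIso
      ((Scheme.Modules.restrictFunctorIsoPullback W.ι).app R) ≪≫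
    (DerPerf.pullRestrictIso W.ι U).app R ≪≫ (Scheme.Modules.pullback (W.ι ∣_ U)).mapIso e ≪≫
    DerPerf.pullFreeIso (W.ι ∣_ U) n⟩⟩

variable {X S : Scheme.{u}} (f : X ⟶ S) [IsProper f] [LocallyOfFinitePresentation f]
  [HasInjectiveResolutions X.Modules] {F : X.Modules} (hq : Coh.IsQCoh F) (hF : CohB1.IsFP F)
  (hfl : FlatMod.IsFlatOver f F)

include hq hF hfl in
/-- Local freeness of a higher direct image where both neighbouring fibre cohomologies vanish. -/
theorem isFinLocFree_restrict_of_adjacent (p : ℕ) (W : S.Opens)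
    (hlo : ∀ q : ℕ, q + 1 = p → ∀ y ∈ W, Subsingleton (CohIII.fiberH f F y q))
    (hhi : ∀ y ∈ W, Subsingleton (CohIII.fiberH f F y (p + 1))) :
    FlatMod.IsFinLocFree (((Coh.Rpush f p).obj F).restrict W.ι) := by
  refine isFinLocFree_restrict_of_local _ W fun y hy => ?_
  obtain ⟨U, hyU, -, hU⟩ := locFree_of_good_nn f hq hF hfl p W (fun V hV hVW m =>
    m.good_of_adjacent f p (fun q hq' z hz => hlo q hq' z (hVW hz)) fun z hz => hhi z (hVW hz)) y hy
  exact ⟨U, _, hyU, hU⟩

include hq hF hfl in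
/-- The direct image is locally free where the first fibre cohomology vanishes. -/
theorem isFinLocFree_push_restrict (W : S.Opens) (h : ∀ y ∈ W, Subsingleton (CohIII.fiberH f F y 1)) :
    FlatMod.IsFinLocFree (((Coh.push f).obj F).restrict W.ι) := by
  refine isFinLocFree_restrict_of_local _ W fun y hy => ?_
  obtain ⟨U, hyU, -, ⟨e⟩⟩ := locFree_of_good_nn f hq hF hfl 0 W (fun V hV hVW m =>
    m.good_of_adjacent f 0 (fun q hq' => absurd hq' (Nat.succ_ne_zero q)) fun z hz => h z (hVW hz)) y hy
  exact ⟨U, _, hyU, ⟨(Scheme.Modules.restrictFunctor U.ι).mapIso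
    (((Coh.push f).rightDerivedZeroIsoSelf).app F).symm ≪≫ e⟩⟩

end Groth.Agent.W7Cech
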