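import Groth.Agent.W7Cech.Complex
import Groth.Agent.SymAlg.PullBC
import Mathlib.RingTheory.IsTensorProduct

/-!
Sections of a base changed module over the preimage of an affine open.
-/

set_option autoImplicit false
set_option backward.isDefEq.respectTransparency false
set_option backward.isDefEq.respectTransparency.types false
set_option linter.style.haveILetI false

universe u

open CategoryTheory CategoryTheory.Limits AlgebraicGeometry TopologicalSpace Opposite
open Groth.Agent.QC (res resO res_res res_smul res_self app_res)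
open scoped TensorProduct

noncomputable section

namespace Groth.Agent.W7Cech

variable (A B : Type u) [CommRing A] [CommRing B] [Algebra A B] {X X' : Scheme.{u}}
  [X.Over (Spec (CommRingCat.of A))] [X'.Over (Spec (CommRingCat.of B))] (g : X' ⟶ X)
  (sq : IsPullback g (X' ↘ Spec (CommRingCat.of B)) (X ↘ Spec (CommRingCat.of A))
    (Spec.map (CommRingCat.ofHom (algebraMap A B))))

include sq in
lemma isAffineHom_bc : IsAffineHom g :=
  MorphismProperty.of_isPullback sq.flip inferInstance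

include sq in
lemma secRing_comm (V : X.Opens) (a : A) :
    (g.app V).hom (secRing A V a) = secRing B (g ⁻¹ᵁ V) (algebraMap A B a) := by
  have h := (congrArg (fun k => k.hom a)
    ((Scheme.ΓSpecIso_inv_naturality (CommRingCat.ofHom (algebraMap A B))).symm))
  change (g.app V).hom (resO X le_top ((X ↘ Spec (CommRingCat.of A)).appTop.hom
      ((Scheme.ΓSpecIso (CommRingCat.of A)).inv.hom a))) =
    resO X' le_top ((X' ↘ Spec (CommRingCat.of B)).appTop.hom
      ((Scheme.ΓSpecIso (CommRingCat.of B)).inv.hom (algebraMap A B a)))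
  have h2 : (X' ↘ Spec (CommRingCat.of B)).appTop.hom ((Spec.map (CommRingCat.ofHom (algebraMap A B))).appTop.hom
      ((Scheme.ΓSpecIso (CommRingCat.of A)).inv.hom a)) =
    g.appTop.hom ((X ↘ Spec (CommRingCat.of A)).appTop.hom ((Scheme.ΓSpecIso (CommRingCat.of A)).inv.hom a)) := by
    exact congr(($(congrArg Scheme.Hom.appTop sq.w.symm)).hom ((Scheme.ΓSpecIso (CommRingCat.of A)).inv.hom a))
  rw [show (Scheme.ΓSpecIso (CommRingCat.of B)).inv.hom (algebraMap A B a) =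
    (Spec.map (CommRingCat.ofHom (algebraMap A B))).appTop.hom ((Scheme.ΓSpecIso (CommRingCat.of A)).inv.hom a) from h.symm,
    h2]
  exact congr($(g.naturality (homOfLE (le_top : V ≤ ⊤)).op).hom _)

variable {F : X.Modules}

/-- Pulling back sections, linearly. -/
def pullSec (V : X.Opens) :
    letI := Module.compHom (((secA B (g ⁻¹ᵁ V)).obj ((Scheme.Modules.pullback g).obj F) : ModuleCat.{u} B) : Type u)
      (algebraMap A B)
    (sq' : IsPullback g (X' ↘ Spec (CommRingCat.of B)) (X ↘ Spec (CommRingCat.of A))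
      (Spec.map (CommRingCat.ofHom (algebraMap A B)))) →
    ((secA A V).obj F : Type u) →ₗ[A] ((secA B (g ⁻¹ᵁ V)).obj ((Scheme.Modules.pullback g).obj F) : Type u) :=
  letI := Module.compHom (((secA B (g ⁻¹ᵁ V)).obj ((Scheme.Modules.pullback g).obj F) : ModuleCat.{u} B) : Type u)
    (algebraMap A B)
  fun sq' =>
  { toFun := fun s => (OmegaSh.pullSect g F V s :)
    map_add' := fun s t => map_add _ s t
    map_smul' := fun a s => by
      refine (OmegaSh.pullSect_smul g F V (secRing A V a) s).trans ?_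
      rw [secRing_comm A B g sq']
      rfl }

include sq in
/-- The pull back of sections over an affine open is the base change of scalars. -/
theorem isBaseChange_pullSec (hF : Coh.IsQCoh F) {V : X.Opens} (hV : IsAffineOpen V) :
    letI := Module.compHom (((secA B (g ⁻¹ᵁ V)).obj ((Scheme.Modules.pullback g).obj F) : ModuleCat.{u} B) : Type u)
      (algebraMap A B)
    haveI : IsScalarTower A B (((secA B (g ⁻¹ᵁ V)).obj ((Scheme.Modules.pullback g).obj F) : ModuleCat.{u} B) : Type u) :=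
      IsScalarTower.of_algebraMap_smul fun _ _ => rfl
    IsBaseChange B (pullSec A B g (F := F) V sq) := by
  haveI := isAffineHom_bc A B g sq
  let S := Spec (CommRingCat.of A)
  let S' := Spec (CommRingCat.of B)
  let π := X ↘ Spec (CommRingCat.of A)
  let π' := X' ↘ Spec (CommRingCat.of B)
  let h := Spec.map (CommRingCat.ofHom (algebraMap A B))
  have hV' : IsAffineOpen (g ⁻¹ᵁ V) := hV.preimage g
  have eV : V ≤ π ⁻¹ᵁ ⊤ := le_top
  have eO : (⊤ : S'.Opens) ≤ h ⁻¹ᵁ ⊤ := le_top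
  have hUW : g ⁻¹ᵁ V = g ⁻¹ᵁ V ⊓ π' ⁻¹ᵁ ⊤ := le_antisymm (le_inf le_rfl le_top) inf_le_left
  have hP := (isIso_pushoutSection_iff sq eO eV hUW).1
    (isIso_pushoutSection_of_isAffineOpen sq eO eV hUW (isAffineOpen_top S) (isAffineOpen_top S') hV)
  letI : Algebra A ↑Γ(X, V) := (secRing A V).toAlgebra
  letI : Algebra B ↑Γ(X', g ⁻¹ᵁ V) := (secRing B (g ⁻¹ᵁ V)).toAlgebra
  letI : Algebra ↑Γ(X, V) ↑Γ(X', g ⁻¹ᵁ V) := (g.app V).hom.toAlgebra
  letI : Algebra A ↑Γ(X', g ⁻¹ᵁ V) := ((algebraMap B ↑Γ(X', g ⁻¹ᵁ V)).comp (algebraMap A B)).toAlgebra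
  haveI : IsScalarTower A B ↑Γ(X', g ⁻¹ᵁ V) := IsScalarTower.of_algebraMap_eq fun _ => rfl
  haveI : IsScalarTower A ↑Γ(X, V) ↑Γ(X', g ⁻¹ᵁ V) := IsScalarTower.of_algebraMap_eq fun a => (secRing_comm A B g sq V a).symm
  haveI hpush : Algebra.IsPushout A B ↑Γ(X, V) ↑Γ(X', g ⁻¹ᵁ V) := by
    refine CommRingCat.isPushout_iff_isPushout.1 ?_
    refine IsPushout.of_iso hP.flip (Scheme.ΓSpecIso (CommRingCat.of A))
      (Scheme.ΓSpecIso (CommRingCat.of B)) (Iso.refl _) (Iso.refl _) ?_ ?_ ?_ ?_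
    · change h.appLE ⊤ ⊤ eO ≫ _ = _
      rw [show h.appLE ⊤ ⊤ eO = h.appTop from h.app_eq_appLE.symm]
      exact Scheme.ΓSpecIso_naturality (CommRingCat.ofHom (algebraMap A B))
    · rw [← cancel_epi (Scheme.ΓSpecIso (CommRingCat.of A)).inv]
      ext a
      simp only [Iso.refl_hom, Category.comp_id, Iso.inv_hom_id_assoc]
      rfl
    · rw [← cancel_epi (Scheme.ΓSpecIso (CommRingCat.of B)).inv]
      ext a
      simp only [Iso.refl_hom, Category.comp_id, Iso.inv_hom_id_assoc]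
      rfl
    · simp only [Iso.refl_hom, Category.comp_id, Category.id_comp]
      exact (g.app_eq_appLE).symm
  haveI : Algebra.IsPushout A ↑Γ(X, V) B ↑Γ(X', g ⁻¹ᵁ V) := hpush.symm
  letI : Module A Γ(F, V) := Module.compHom Γ(F, V) (secRing A V)
  letI : Module B ↑Γ((Scheme.Modules.pullback g).obj F, g ⁻¹ᵁ V) := Module.compHom ↑Γ((Scheme.Modules.pullback g).obj F, g ⁻¹ᵁ V) (secRing B (g ⁻¹ᵁ V))
  letI : Module A ↑Γ((Scheme.Modules.pullback g).obj F, g ⁻¹ᵁ V) := Module.compHom ↑Γ((Scheme.Modules.pullback g).obj F, g ⁻¹ᵁ V) (algebraMap A B)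
  haveI : IsScalarTower A B ↑Γ((Scheme.Modules.pullback g).obj F, g ⁻¹ᵁ V) := IsScalarTower.of_algebraMap_smul fun _ _ => rfl
  letI : Module ↑Γ(X, V) ↑Γ((Scheme.Modules.pullback g).obj F, g ⁻¹ᵁ V) := Module.compHom ↑Γ((Scheme.Modules.pullback g).obj F, g ⁻¹ᵁ V) (algebraMap ↑Γ(X, V) ↑Γ(X', g ⁻¹ᵁ V))
  haveI : IsScalarTower ↑Γ(X, V) ↑Γ(X', g ⁻¹ᵁ V) ↑Γ((Scheme.Modules.pullback g).obj F, g ⁻¹ᵁ V) := IsScalarTower.of_algebraMap_smul fun _ _ => rfl
  haveI : IsScalarTower A ↑Γ(X, V) Γ(F, V) := IsScalarTower.of_algebraMap_smul fun _ _ => rfl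
  haveI : IsScalarTower B ↑Γ(X', g ⁻¹ᵁ V) ↑Γ((Scheme.Modules.pullback g).obj F, g ⁻¹ᵁ V) := IsScalarTower.of_algebraMap_smul fun _ _ => rfl
  haveI : SMulCommClass ↑Γ(X, V) B ↑Γ(X', g ⁻¹ᵁ V) := ⟨fun r b x => by
    rw [Algebra.smul_def r, Algebra.smul_def b, Algebra.smul_def b, Algebra.smul_def r]; ring⟩
  let η : Γ(F, V) →ₗ[↑Γ(X, V)] ↑Γ((Scheme.Modules.pullback g).obj F, g ⁻¹ᵁ V) :=
    { toFun := fun s => (OmegaSh.pullSect g F V s :)
      map_add' := fun s t => map_add _ s t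
      map_smul' := fun r s => OmegaSh.pullSect_smul g F V r s }
  have hbc := RelTilde.isBC_unit g hF hV hV' le_rfl
  have happ : g.appLE V (g ⁻¹ᵁ V) le_rfl = g.app V := g.app_eq_appLE.symm
  have hη : IsBaseChange ↑Γ(X', g ⁻¹ᵁ V) η := by
    refine IsBaseChange.of_lift_unique η fun Q _ _ _ _ w => ?_
    letI : AddCommGroup Q := Module.addCommMonoidToAddCommGroup ↑Γ(X', g ⁻¹ᵁ V)
    let w' : Γ(F, V) →ₛₗ[(g.appLE V (g ⁻¹ᵁ V) le_rfl).hom] Q :=
      { toFun := fun s => w s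
        map_add' := fun s t => w.map_add s t
        map_smul' := fun r s => by
          rw [happ]
          exact (w.map_smul r s).trans (IsScalarTower.algebraMap_smul ↑Γ(X', g ⁻¹ᵁ V) r (w s)).symm }
    obtain ⟨f, hf, huniq⟩ := hbc Q w'
    have hres : ∀ s, RelTilde.resθ g ((Scheme.Modules.pullbackPushforwardAdjunction g).unit.app F) le_rfl s = η s :=
      fun s => res_self _ _ _
    refine ⟨f, LinearMap.ext fun s => (congrArg f (hres s)).symm.trans (hf s), fun f' hf' => huniq f' fun s => ?_⟩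
    exact (congrArg f' (hres s)).trans (LinearMap.congr_fun hf' s)
  let N₀ : ModuleCat.{u} B := (secA B (g ⁻¹ᵁ V)).obj ((Scheme.Modules.pullback g).obj F)
  letI : Module A N₀ := Module.compHom N₀ (algebraMap A B)
  haveI : IsScalarTower A B N₀ := IsScalarTower.of_algebraMap_smul fun _ _ => rfl
  refine IsBaseChange.of_equiv
    (((Algebra.IsPushout.cancelBaseChange A B ↑Γ(X, V) ↑Γ(X', g ⁻¹ᵁ V) Γ(F, V)).symm.toAddEquiv.trans hη.equiv.toAddEquiv).toLinearEquiv
      fun b z => ?_) fun s => ?_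
  · change hη.equiv ((Algebra.IsPushout.cancelBaseChange A B ↑Γ(X, V) ↑Γ(X', g ⁻¹ᵁ V) Γ(F, V)).symm (b • z)) =
      b • hη.equiv ((Algebra.IsPushout.cancelBaseChange A B ↑Γ(X, V) ↑Γ(X', g ⁻¹ᵁ V) Γ(F, V)).symm z)
    rw [map_smul, ← IsScalarTower.algebraMap_smul ↑Γ(X', g ⁻¹ᵁ V) b, map_smul, IsScalarTower.algebraMap_smul]
  · change hη.equiv ((Algebra.IsPushout.cancelBaseChange A B ↑Γ(X, V) ↑Γ(X', g ⁻¹ᵁ V) Γ(F, V)).symm ((1 : B) ⊗ₜ[A] s)) = _
    rw [Algebra.IsPushout.cancelBaseChange_symm_tmul, map_one, IsBaseChange.equiv_tmul, one_smul]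
    rfl

end Groth.Agent.W7Cech
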