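import Groth.Agent.W7Cech.Generator
import Groth.Agent.DQCoh.Tensor
import Groth.Agent.TMul.AmpleBasis
import Groth.Agent.QC.OmegaAffineSect
import Groth.Agent.DerPerf.Local
import Groth.Prelude.Def_ega3

/-!
Sections over an affine open of `π^*(M~) ⊗ F`, naturally in the `A`-module `M`.
-/

set_option autoImplicit false
set_option backward.isDefEq.respectTransparency false
set_option backward.isDefEq.respectTransparency.types false
set_option linter.style.haveILetI false

universe u

open CategoryTheory CategoryTheory.Limits AlgebraicGeometry TopologicalSpace Opposite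
open Groth.Agent.QC (res resO res_res res_smul app_res secEquiv secEquiv_smul)
open scoped TensorProduct

noncomputable section

namespace Groth.Agent.W7Cech

variable (A : Type u) [CommRing A] {X : Scheme.{u}} [X.Over (Spec (CommRingCat.of A))]

/-- Scalars on the sections over an open. -/
def secRing (W : X.Opens) : A →+* Γ(X, W) :=
  (resO X (le_top : W ≤ ⊤)).comp (Coh.toGlobal (X ↘ Spec (CommRingCat.of A)))

lemma resO_secRing {V W : X.Opens} (h : V ≤ W) (a : A) : resO X h (secRing A W a) = secRing A V a :=
  Groth.Agent.QC.resO_resO h le_top _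

/-- The forgetful functor to sections over an open, as modules over the functions there. -/
def secR (W : X.Opens) : X.Modules ⥤ ModuleCat.{u} Γ(X, W) where
  obj M := ModuleCat.of Γ(X, W) Γ(M, W)
  map φ := ModuleCat.ofHom
    { toFun := fun s => φ.app W s
      map_add' := fun s t => map_add _ s t
      map_smul' := fun r s => Scheme.Modules.Hom.app_smul φ r s }

/-- Sections over an open, as `A`-modules. -/
def secA (W : X.Opens) : X.Modules ⥤ ModuleCat.{u} A :=
  secR W ⋙ ModuleCat.restrictScalars.{u} (secRing A W)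

lemma secA_map_apply (W : X.Opens) {M N : X.Modules} (φ : M ⟶ N) (s : Γ(M, W)) :
    ((secA A W).map φ).hom s = φ.app W s := rfl

lemma secA_smul (W : X.Opens) (M : X.Modules) (a : A) (s : Γ(M, W)) :
    (a • (show (secA A W).obj M from s)) = (secRing A W a • s : Γ(M, W)) := rfl

variable (F : X.Modules)

lemma preservesColimits_tensorRightMod :
    PreservesColimitsOfSize.{u, u} (DCoh.tensorRightMod F) :=
  haveI := DQCoh.preservesColimits_flip F
  preservesColimits_of_natIso (F := (KFlat.schB X).flip.obj F)
    (NatIso.ofComponents (fun _ => Iso.refl _) fun g => (Category.comp_id _).trans (Category.id_comp _).symm)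

lemma preservesColimits_tensorAFunctor :
    PreservesColimitsOfSize.{u, u} (CohIII.tensorAFunctor A F) :=
  haveI := preservesColimits_tensorRightMod F
  haveI : PreservesColimitsOfSize.{u, u} (tilde.functor (CommRingCat.of A)) :=
    tilde.adjunction.leftAdjoint_preservesColimits
  haveI : PreservesColimitsOfSize.{u, u} (Scheme.Modules.pullback (X ↘ Spec (CommRingCat.of A))) :=
    (Scheme.Modules.pullbackPushforwardAdjunction _).leftAdjoint_preservesColimits
  inferInstanceAs (PreservesColimitsOfSize.{u, u}
    (tilde.functor (CommRingCat.of A) ⋙ Scheme.Modules.pullback _ ⋙ DCoh.tensorRightMod F))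

lemma isQCoh_tensorAFunctor (hF : Coh.IsQCoh F) (M : ModuleCat.{u} A) :
    Coh.IsQCoh ((CohIII.tensorAFunctor A F).obj M) :=
  DQCoh.isQCoh_tensor (F := (Scheme.Modules.pullback (X ↘ Spec (CommRingCat.of A))).obj (tilde M))
    (QC.isQCoh_pullback _ (QC.isQCoh_tilde (R := CommRingCat.of A) M)) hF

variable {F}
variable {V : X.Opens} (hV : IsAffineOpen V) (hF : Coh.IsQCoh F)

/-- Global sections of the restriction to an affine open. -/
def specSecIso : Scheme.Modules.restrictFunctor hV.fromSpec ⋙ moduleSpecΓFunctor (R := Γ(X, V)) ≅ secR V :=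
  NatIso.ofComponents
    (fun M => by
      let G : ModuleCat.{u} Γ(X, V) :=
        (modulesSpecToSheaf.obj (M.restrict hV.fromSpec)).presheaf.obj (op ⊤)
      let l : G ≃ₗ[Γ(X, V)] Γ(M, V) :=
        { secEquiv hV M ⊤ (QC.image_fromSpec_top hV) with
          map_smul' := fun r s => by
            refine (secEquiv_smul hV ⊤ (QC.image_fromSpec_top hV) r s).trans ?_
            rw [QC.resO_self]
            rfl }
      exact l.toModuleIso)
    fun {M N} φ => by
      ext s
      exact app_res φ (QC.image_fromSpec_top hV).ge _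

include hV hF in
lemma preservesColimits_sections :
    PreservesColimitsOfSize.{u, u} (CohIII.tensorAFunctor A F ⋙ secA A V) := by
  let Q : ModuleCat.{u} A ⥤ (Spec Γ(X, V)).Modules :=
    CohIII.tensorAFunctor A F ⋙ Scheme.Modules.restrictFunctor hV.fromSpec
  let P := Q ⋙ moduleSpecΓFunctor (R := Γ(X, V))
  haveI := preservesColimits_tensorAFunctor A F
  haveI : PreservesColimitsOfSize.{u, u} (Scheme.Modules.restrictFunctor hV.fromSpec) :=
    (Scheme.Modules.restrictAdjunction hV.fromSpec).leftAdjoint_preservesColimits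
  haveI : PreservesColimitsOfSize.{u, u} Q := comp_preservesColimits _ _
  haveI : ∀ M, IsIso (Scheme.Modules.fromTildeΓ (R := Γ(X, V)) (Q.obj M)) := fun M =>
    have : (Q.obj M).IsQuasicoherent := QC.isQCoh_restrict _ (isQCoh_tensorAFunctor A F hF M)
    Scheme.Modules.isIso_fromTildeΓ_of_isQuasicoherent (R := Γ(X, V)) _
  let e : P ⋙ tilde.functor Γ(X, V) ≅ Q :=
    NatIso.ofComponents (fun M => asIso (Scheme.Modules.fromTildeΓ (R := Γ(X, V)) (Q.obj M)))
      fun f => (Scheme.Modules.fromTildeΓNatTrans (R := Γ(X, V))).naturality (Q.map f)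
  haveI : (tilde.functor Γ(X, V)).Full := tilde.fullyFaithfulFunctor.full
  haveI : (tilde.functor Γ(X, V)).Faithful := tilde.fullyFaithfulFunctor.faithful
  haveI : PreservesColimitsOfSize.{u, u} (P ⋙ tilde.functor Γ(X, V)) := preservesColimits_of_natIso e.symm
  haveI : PreservesColimitsOfSize.{u, u} P :=
    preservesColimits_of_reflects_of_preserves P (tilde.functor Γ(X, V))
  haveI : PreservesColimitsOfSize.{u, u} (CohIII.tensorAFunctor A F ⋙
      Scheme.Modules.restrictFunctor hV.fromSpec ⋙ moduleSpecΓFunctor (R := Γ(X, V))) :=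
    inferInstanceAs (PreservesColimitsOfSize.{u, u} P)
  haveI : PreservesColimitsOfSize.{u, u} (CohIII.tensorAFunctor A F ⋙ secR V) :=
    preservesColimits_of_natIso (Functor.isoWhiskerLeft (CohIII.tensorAFunctor A F) (specSecIso hV))
  haveI : PreservesColimitsOfSize.{u, u} (ModuleCat.restrictScalars.{u} (secRing A V)) :=
    (ModuleCat.restrictCoextendScalarsAdj.{u} (secRing A V)).leftAdjoint_preservesColimits
  exact inferInstanceAs (PreservesColimitsOfSize.{u, u}
    ((CohIII.tensorAFunctor A F ⋙ secR V) ⋙ ModuleCat.restrictScalars (secRing A V)))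

/-- The global section of `M~` given by an element of `M`. -/
def gsec (M : ModuleCat.{u} A) : M →+ Γ(tilde (R := CommRingCat.of A) M, ⊤) :=
  (tilde.toOpen (R := CommRingCat.of A) M ⊤).hom.toAddMonoidHom

lemma gsec_smul (M : ModuleCat.{u} A) (a : A) (m : M) :
    gsec A M (a • m) = ((Spec (CommRingCat.of A)).presheaf.map (⊤ : (Spec (CommRingCat.of A)).Opens).leTop.op).hom
        ((Scheme.ΓSpecIso (CommRingCat.of A)).inv.hom a) • gsec A M m :=
  (tilde.toOpen (R := CommRingCat.of A) M ⊤).hom.map_smul a m

/-- The section of `π^*(M~)` given by an element of `M`. -/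
def unitSec (W : X.Opens) (M : ModuleCat.{u} A) (m : M) :
    Γ((Scheme.Modules.pullback (X ↘ Spec (CommRingCat.of A))).obj (tilde M), W) :=
  res _ (show W ≤ (X ↘ Spec (CommRingCat.of A)) ⁻¹ᵁ ⊤ from le_top)
    (OmegaSh.pullSect (X ↘ Spec (CommRingCat.of A)) (tilde M) ⊤ (gsec A M m))

lemma unitSec_add (W : X.Opens) (M : ModuleCat.{u} A) (m m' : M) :
    unitSec A W M (m + m') = unitSec A W M m + unitSec A W M m' := by
  unfold unitSec
  rw [map_add (gsec A M), map_add, map_add]

lemma unitSec_smul (W : X.Opens) (M : ModuleCat.{u} A) (a : A) (m : M) :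
    unitSec A W M (a • m) = secRing A W a • unitSec A W M m := by
  unfold unitSec
  rw [gsec_smul, OmegaSh.pullSect_smul, res_smul]
  congr 1

lemma res_unitSec {W W' : X.Opens} (h : W' ≤ W) (M : ModuleCat.{u} A) (m : M) :
    res _ h (unitSec A W M m) = unitSec A W' M m :=
  by
  unfold unitSec
  exact res_res _ h _ _

lemma map_unitSec (W : X.Opens) {M N : ModuleCat.{u} A} (f : M ⟶ N) (m : M) :
    ((Scheme.Modules.pullback (X ↘ Spec (CommRingCat.of A))).map (tilde.map (R := CommRingCat.of A) f)).app W (unitSec A W M m) =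
      unitSec A W N (f.hom m) := by
  unfold unitSec
  rw [← app_res]
  congr 1
  refine Eq.trans (Eq.symm ?_) (congrArg (OmegaSh.pullSect _ _ ⊤) (QC.toOpen_map_apply (R := CommRingCat.of A) f ⊤ m))
  exact congr(($((Scheme.Modules.pullbackPushforwardAdjunction
    (X ↘ Spec (CommRingCat.of A))).unit.naturality (tilde.map f))).app ⊤ (gsec A M m))

lemma map_tm {N N' : X.Modules} (φ : N ⟶ N') (G : X.Modules) {W : X.Opens} (n : Γ(N, W)) (s : Γ(G, W)) :
    ((DCoh.tensorRightMod G).map φ).app W (TMul.tm n s) = TMul.tm (φ.app W n) s :=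
  congr(($((KFlat.shUnit_natural (MonoidalCategory.whiskerRight (DCoh.toP.map φ) (CohB1.toPMod G))).symm)).app
    (op W) (n ⊗ₜ[Γ(X, W)] s))

variable (V)

/-- The comparison, as a bilinear map. -/
def pairBil (M : ModuleCat.{u} A) :
    (secA A V).obj F →ₗ[A] M →ₗ[A] (secA A V).obj ((CohIII.tensorAFunctor A F).obj M) :=
  LinearMap.mk₂ A (fun s m => (TMul.tm (unitSec A V M m) s :))
    (fun s s' m => TMul.add_tm _ s s')
    (fun a s m => TMul.tm_smul (secRing A V a) _ s)
    (fun s m m' => (congrArg (fun t => TMul.tm t s) (unitSec_add A V M m m')).trans (TMul.tm_add _ _ s))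
    (fun a s m => (congrArg (fun t => TMul.tm t s) (unitSec_smul A V M a m)).trans (TMul.smul_tm _ _ s))

/-- The comparison. -/
def pairing (M : ModuleCat.{u} A) :
    ((secA A V).obj F : Type u) ⊗[A] M →ₗ[A] (secA A V).obj ((CohIII.tensorAFunctor A F).obj M) :=
  TensorProduct.lift (pairBil A V M)

lemma pairing_tmul (M : ModuleCat.{u} A) (s : Γ(F, V)) (m : M) :
    pairing A V M ((show (secA A V).obj F from s) ⊗ₜ[A] m) =
      (TMul.tm (unitSec A V M m) s : Γ((CohIII.tensorAFunctor A F).obj M, V)) :=
  TensorProduct.lift.tmul _ _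

lemma pairing_natural {M N : ModuleCat.{u} A} (f : M ⟶ N) :
    pairing A V N ∘ₗ f.hom.lTensor _ =
      ((secA A V).map ((CohIII.tensorAFunctor A F).map f)).hom ∘ₗ pairing A V M := by
  refine TensorProduct.ext' fun s m => ?_
  rw [LinearMap.comp_apply, LinearMap.comp_apply, LinearMap.lTensor_tmul, pairing_tmul, pairing_tmul]
  refine Eq.symm ((map_tm _ F (unitSec A V M m) s).trans ?_)
  exact congrArg (fun t => TMul.tm t s) (map_unitSec A V f m)

lemma isGen_unitSec (W : X.Opens) :
    TMul.IsGen (unitSec A W (ModuleCat.of A A) (1 : A)) := by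
  let π := X ↘ Spec (CommRingCat.of A)
  let e : (Scheme.Modules.pullback π).obj (tilde (ModuleCat.of A A)) ≅ Coh.structureModule X :=
    (Scheme.Modules.pullback π).mapIso tildeSelf ≪≫ DerPerf.pullUnitIso π
  have h1 : gsec A (ModuleCat.of A A) (1 : A) =
      (show Γ(Coh.structureModule (Spec (CommRingCat.of A)), ⊤) from (1 : Γ(Spec (CommRingCat.of A), ⊤))) := by
    exact map_one (algebraMap (CommRingCat.of A)
      ((AlgebraicGeometry.structureSheafInType (CommRingCat.of A) (CommRingCat.of A)).obj.obj
        (op (⊤ : Opens (PrimeSpectrum.Top (CommRingCat.of A))))))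
  have h2 : (DerPerf.pullUnitIso π).hom.app (π ⁻¹ᵁ ⊤)
      (OmegaSh.pullSect π (Coh.structureModule _) ⊤ (1 : Γ(Spec (CommRingCat.of A), ⊤))) =
      (1 : Γ(X, π ⁻¹ᵁ ⊤)) := by
    let u0 : Coh.structureModule (Spec (CommRingCat.of A)) ⟶
        (Scheme.Modules.pushforward π).obj (Coh.structureModule X) :=
      SheafOfModules.unitToPushforwardObjUnit π.toRingCatSheafHom
    have h := ((Scheme.Modules.pullbackPushforwardAdjunction π).homEquiv _ _).apply_symm_apply u0
    rw [Adjunction.homEquiv_unit] at h
    exact (congr(($h).app ⊤ (1 : Γ(Spec (CommRingCat.of A), ⊤)))).trans (map_one (π.app ⊤).hom)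
  have h3 : e.hom.app W (unitSec A W (ModuleCat.of A A) (1 : A)) = (1 : Γ(X, W)) := by
    have hid : (Scheme.Modules.pullback π).map tildeSelf.hom = 𝟙 _ :=
      CategoryTheory.Functor.map_id _ _
    change ((Scheme.Modules.pullback π).map tildeSelf.hom ≫ (DerPerf.pullUnitIso π).hom).app W _ = _
    rw [hid, Category.id_comp, unitSec, ← app_res, h1]
    refine (congrArg (res (Coh.structureModule X) _) h2).trans ?_
    exact map_one (resO X _)
  intro W' hW'
  have h4 : (fun c : Γ(X, W') => c • res _ hW' (unitSec A W (ModuleCat.of A A) (1 : A))) =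
      e.inv.app W' ∘ fun c : Γ(X, W') => c • res (Coh.structureModule X) hW' (1 : Γ(X, W)) := by
    funext c
    rw [Function.comp_apply, Scheme.Modules.Hom.app_smul, ← app_res, ← h3]
    congr 2
    exact (congr(($(e.hom_inv_id)).app W _)).symm
  rw [h4]
  exact (ConcreteCategory.bijective_of_isIso (e.inv.app W')).comp (TMul.isGen_one W W' hW')

lemma pairing_bijective_ring : Function.Bijective (pairing A V (F := F) (ModuleCat.of A A)) := by
  have hb : Function.Bijective fun s : Γ(F, V) => TMul.tm (unitSec A V (ModuleCat.of A A) (1 : A)) s := by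
    have hbij := TMul.tm_bijective (M := F) (isGen_unitSec A V) V le_rfl
    rw [show (fun s : Γ(F, V) => TMul.tm (unitSec A V (ModuleCat.of A A) (1 : A)) s) =
      (TMul.commHom F ((Scheme.Modules.pullback (X ↘ Spec (CommRingCat.of A))).obj (tilde (ModuleCat.of A A)))).app V ∘
        fun s : Γ(F, V) => TMul.tm s (res _ le_rfl (unitSec A V (ModuleCat.of A A) (1 : A))) from
      funext fun s => ((TMul.commHom_tm _ _).trans (by rw [QC.res_self])).symm]
    haveI : IsIso (TMul.commHom F ((Scheme.Modules.pullback (X ↘ Spec (CommRingCat.of A))).obj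
        (tilde (ModuleCat.of A A)))) := (TMul.commIso _ _).isIso_hom
    exact (ConcreteCategory.bijective_of_isIso _).comp hbij
  have : ⇑(pairing A V (F := F) (ModuleCat.of A A)) =
      (fun s : Γ(F, V) => TMul.tm (unitSec A V (ModuleCat.of A A) (1 : A)) s) ∘
        (TensorProduct.rid A ((secA A V).obj F : Type u)) := by
    funext z
    obtain ⟨s, rfl⟩ := (TensorProduct.rid A ((secA A V).obj F : Type u)).symm.surjective z
    rw [Function.comp_apply, LinearEquiv.apply_symm_apply, TensorProduct.rid_symm_apply]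
    exact pairing_tmul A V (ModuleCat.of A A) s 1
  rw [this]
  exact hb.comp (LinearEquiv.bijective _)

include hV hF in
/-- Sections of `π^*(M~) ⊗ F` over an affine open. -/
theorem pairing_bijective (M : ModuleCat.{u} A) : Function.Bijective (pairing A V (F := F) M) := by
  haveI := preservesColimits_sections A hV hF
  haveI : PreservesColimitsOfSize.{u, u} (MonoidalCategory.tensorLeft ((secA A V).obj F)) := inferInstance
  let τ : MonoidalCategory.tensorLeft ((secA A V).obj F) ⟶ CohIII.tensorAFunctor A F ⋙ secA A V :=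
    { app := fun N => ModuleCat.ofHom (Y := ↥((secA A V).obj ((CohIII.tensorAFunctor A F).obj N)))
        (pairing A V N)
      naturality := fun N N' f => ModuleCat.hom_ext (pairing_natural A V f) }
  have h1 : IsIso (τ.app (ModuleCat.of A A)) :=
    (ConcreteCategory.isIso_iff_bijective _).2 (pairing_bijective_ring A V)
  exact (ConcreteCategory.isIso_iff_bijective _).1 (isIso_app_of_ring τ h1 M)

end Groth.Agent.W7Cech
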