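import Groth.Agent.TMul.GlobGen
import Groth.Agent.FlatLimMod.Basic
import Groth.Agent.S9350
import Groth.Prelude.Def_Curv2

/-!
Twisting by invertible modules: finite presentation and flatness over a base.
-/

set_option autoImplicit false
set_option backward.isDefEq.respectTransparency false
set_option linter.style.haveILetI false

universe u

open CategoryTheory AlgebraicGeometry

noncomputable section

namespace Groth.Agent.W7Cech

variable {X S : Scheme.{u}} {F M : X.Modules}

lemma isFP_of_iso {N : X.Modules} (e : M ≅ N) (h : CohB1.IsFP M) : CohB1.IsFP N :=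
  Groth.Agent.QC.isFP_iff_exists_hasFinPres.2 fun x => by
    obtain ⟨U, hx, P, hP⟩ := Groth.Agent.QC.isFP_iff_exists_hasFinPres.1 h x
    haveI := hP
    exact ⟨U, hx, SheafOfModules.Presentation.ofIsIso.{u} ((Scheme.Modules.restrictFunctor U.ι).mapIso e).hom P,
      inferInstance⟩

/-- Locally a twist by an invertible module does nothing. -/
lemma exists_restrict_tensor_iso (hM : PicF.IsInvertible M) (x : X) :
    ∃ U : X.Opens, x ∈ U ∧ Nonempty (F.restrict U.ι ≅ (CohB1.tensorMod F M).restrict U.ι) := by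
  obtain ⟨U, hx, ⟨φ⟩⟩ := hM x
  obtain ⟨e⟩ := TMul.nonempty_restrictTensorIso U.ι F M
  exact ⟨U, hx, ⟨(PicGrp.tensorModIso (Iso.refl _) φ ≪≫ SecTwist.unitorR _).symm ≪≫ e⟩⟩

lemma isFP_tensor_invertible (hF : CohB1.IsFP F) (hM : PicF.IsInvertible M) :
    CohB1.IsFP (CohB1.tensorMod F M) :=
  Groth.Agent.QC.isFP_of_local fun x => by
    obtain ⟨U, hx, ⟨e⟩⟩ := exists_restrict_tensor_iso (F := F) hM x
    exact ⟨U, U.ι, inferInstance, ⟨⟨x, hx⟩, rfl⟩,
      isFP_of_iso e (Groth.Agent.QC.isFP_restrict U.ι hF)⟩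

lemma isFlatOver_tensor_invertible (f : X ⟶ S) (hF : Coh.IsQCoh F) (hfl : FlatMod.IsFlatOver f F)
    (hM : PicF.IsInvertible M) : FlatMod.IsFlatOver f (CohB1.tensorMod F M) := fun x => by
  obtain ⟨U, hx, ⟨e⟩⟩ := exists_restrict_tensor_iso (F := F) hM x
  let z : U.toScheme := ⟨x, hx⟩
  have hflat : (U.ι.stalkMap z).hom.Flat :=
    RingHom.Flat.of_bijective (ConcreteCategory.bijective_of_isIso (U.ι.stalkMap z))
  have hq : Coh.IsQCoh (CohB1.tensorMod F M) := TMul.isQCoh_tensor hM (hF := hF)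
  refine (S9350.result U.ι f _ hq z hflat).2 ?_
  exact FlatLimMod.isFlatOverAt_of_iso _ (((Scheme.Modules.restrictFunctorIsoPullback U.ι).app F).symm ≪≫ e ≪≫
    (Scheme.Modules.restrictFunctorIsoPullback U.ι).app _) ((S9350.result U.ι f F hF z hflat).1 (hfl x))

lemma tensorPows_induction {P : X.Modules → Prop} {F : X.Modules} (h₀ : P F)
    (hstep : ∀ G M, P G → PicF.IsInvertible M → P (CohB1.tensorMod G M)) :
    ∀ (r : ℕ) (L : Fin r → X.Modules), (∀ i, PicF.IsInvertible (L i)) → ∀ n : Fin r → ℕ,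
      P (Curv2.tensorPows F r L n) := by
  intro r
  induction r with
  | zero => intro L hL n; exact h₀
  | succ r ih =>
    intro L hL n
    exact hstep _ _ (ih _ (fun i => hL i.castSucc) _) (TMul.isInvertible_tensorPow (hL (Fin.last r)) _)

end Groth.Agent.W7Cech
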