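import Groth.Agent.W7Cech.BC0
import Groth.Agent.QC.Closure
import Groth.Agent.W7Cech.NNStatements
import Groth.Agent.DerPush.Basic

/-!
Right exactness of `T⁰` near a point is tested on the fibre.
-/

set_option autoImplicit false
set_option backward.isDefEq.respectTransparency false
set_option backward.isDefEq.respectTransparency.types false
set_option linter.style.haveILetI false
set_option maxHeartbeats 1000000

universe u

open CategoryTheory CategoryTheory.Limits AlgebraicGeometry TopologicalSpace Opposite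
open Groth.Agent.SiteCoh Groth.Agent.FlatCx
open Groth.Agent.QC (res resO res_res res_self res_smul)
open scoped TensorProduct

noncomputable section

namespace Groth.Agent.W7Cech

section Gen

variable {A : Type u} [CommRing A]

/-- The values of `G` at `M` come from the values at `A`. -/
def Gen (G : ModuleCat.{u} A ⥤ ModuleCat.{u} A) (M : ModuleCat.{u} A) : Prop :=
  (⨆ φ : ModuleCat.of A A ⟶ M, LinearMap.range (G.map φ).hom) = ⊤

lemma gen_of_natIso {G G' : ModuleCat.{u} A ⥤ ModuleCat.{u} A} (η : G ≅ G') {M : ModuleCat.{u} A}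
    (h : Gen G M) : Gen G' M := by
  refine eq_top_iff.2 fun x _ => ?_
  have hx : (η.inv.app M).hom x ∈ ⨆ φ : ModuleCat.of A A ⟶ M, LinearMap.range (G.map φ).hom := h ▸ trivial
  rw [show x = (η.hom.app M).hom ((η.inv.app M).hom x) from
    (congr(($(η.inv_hom_id_app M)).hom x)).symm]
  refine Submodule.iSup_induction _
    (motive := fun y => (η.hom.app M).hom y ∈ ⨆ φ : ModuleCat.of A A ⟶ M, LinearMap.range (G'.map φ).hom)
    hx (fun φ y hy => ?_) ?_ fun y z hy hz => ?_
  · obtain ⟨z, rfl⟩ := hy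
    exact Submodule.mem_iSup_of_mem φ ⟨(η.hom.app _).hom z, (congr(($(η.hom.naturality φ)).hom z)).symm⟩
  · rw [map_zero]; exact zero_mem _
  · rw [map_add]; exact add_mem hy hz

lemma gen_of_iso {G : ModuleCat.{u} A ⥤ ModuleCat.{u} A} {M N : ModuleCat.{u} A} (e : M ≅ N)
    (h : Gen G M) : Gen G N := by
  refine eq_top_iff.2 fun x _ => ?_
  have hx : (G.map e.inv).hom x ∈ ⨆ φ : ModuleCat.of A A ⟶ M, LinearMap.range (G.map φ).hom := h ▸ trivial
  rw [show x = (G.map e.hom).hom ((G.map e.inv).hom x) from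
    (congr(($((G.mapIso e).inv_hom_id)).hom x)).symm]
  refine Submodule.iSup_induction _
    (motive := fun y => (G.map e.hom).hom y ∈ ⨆ φ : ModuleCat.of A A ⟶ N, LinearMap.range (G.map φ).hom)
    hx (fun φ y hy => ?_) ?_ fun y z hy hz => ?_
  · obtain ⟨z, rfl⟩ := hy
    exact Submodule.mem_iSup_of_mem (φ ≫ e.hom) ⟨z, congr(($(G.map_comp φ e.hom)).hom z)⟩
  · rw [map_zero]; exact zero_mem _
  · rw [map_add]; exact add_mem hy hz

variable {κ : Type} {c : ComplexShape κ} (P : HomologicalComplex (ModuleCat.{u} A) c) (j : κ)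

lemma gen_iff_psi_surjective (hP : ∀ m, Module.Flat A (P.X m)) (M : ModuleCat.{u} A) :
    Gen (CohIII.TFun P j) M ↔ Function.Surjective (psi P j M) := by
  refine ⟨fun h x => ?_, fun h => eq_top_iff.2 fun x hx => ?_⟩
  · have hx : x ∈ ⨆ φ : ModuleCat.of A A ⟶ M, LinearMap.range ((CohIII.TFun P j).map φ).hom := h ▸ trivial
    change x ∈ LinearMap.range (psi P j M)
    refine SetLike.le_def.1 (iSup_le fun φ => ?_) hx
    rintro _ ⟨y, rfl⟩
    obtain ⟨w, rfl⟩ := (comparison_bijective_one P hP j).2 y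
    obtain ⟨v, rfl⟩ := LinearMap.rTensor_surjective (ModuleCat.of A A) (Submodule.mkQ_surjective _) w
    exact ⟨φ.hom.lTensor _ v, by rw [comparison_mkQ]; exact (TFun_map_psi P j φ v).symm⟩
  · clear hx
    obtain ⟨w, rfl⟩ := h x
    induction w using TensorProduct.induction_on with
    | zero => rw [map_zero]; exact zero_mem _
    | tmul z m =>
      refine Submodule.mem_iSup_of_mem (ModuleCat.ofHom (LinearMap.toSpanSingleton A M m))
        ⟨psi P j (ModuleCat.of A A) (z ⊗ₜ[A] (1 : A)), ?_⟩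
      refine (TFun_map_psi P j _ _).trans (congrArg (psi P j M) ?_)
      exact congrArg (z ⊗ₜ[A] ·) (one_smul A m)
    | add y z hy hz => rw [map_add]; exact add_mem hy hz

lemma psi_surjective_of_flat (M : ModuleCat.{u} A) [Module.Flat A M] : Function.Surjective (psi P j M) := by
  intro x
  obtain ⟨z, rfl⟩ := cls_surjective P j M x
  have hex : Function.Exact (Zc P j).subtype (P.d j (c.next j)).hom := LinearMap.exact_subtype_ker_map _
  obtain ⟨w, hw⟩ := ((Module.Flat.rTensor_exact M hex) z.1).1 z.2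
  exact ⟨w, congrArg (cls P j M) (Subtype.ext hw)⟩

/-- In degree zero the comparison is surjective exactly when tensoring keeps the kernel. -/
lemma psi_zero_surjective_iff (C : CochainComplex (ModuleCat.{u} A) ℕ) (M : ModuleCat.{u} A) :
    Function.Surjective (psi C 0 M) ↔ Function.Exact ((LinearMap.ker (C.d 0 1).hom).subtype.rTensor M)
      ((C.d 0 1).hom.rTensor M) := by
  suffices h : Function.Surjective (psi C 0 M) ↔ Function.Exact ((Zc C 0).subtype.rTensor M)
      ((C.d 0 ((ComplexShape.up ℕ).next 0)).hom.rTensor M) by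
    have key : ∀ k, k = 1 → (Function.Exact ((LinearMap.ker (C.d 0 k).hom).subtype.rTensor M)
        ((C.d 0 k).hom.rTensor M) ↔ Function.Exact ((LinearMap.ker (C.d 0 1).hom).subtype.rTensor M)
        ((C.d 0 1).hom.rTensor M)) := fun k hk => by subst hk; exact Iff.rfl
    exact h.trans (key _ (CochainComplex.next ℕ 0))
  refine ⟨fun h w => ⟨fun hw => ?_, ?_⟩, fun h x => ?_⟩
  · obtain ⟨v, hv⟩ := h (cls C 0 M ⟨w, hw⟩)
    have h0 : cls C 0 M (incl C 0 M v - ⟨w, hw⟩) = 0 := by
      rw [map_sub, sub_eq_zero]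
      exact hv
    obtain ⟨b, hb⟩ := (cls_eq_zero_iff C 0 M _).1 h0
    refine ⟨v, sub_eq_zero.1 (hb.symm.trans ?_)⟩
    rw [dT, C.shape _ _ (by simp)]
    simp
  · rintro ⟨v, rfl⟩
    exact (incl C 0 M v).2
  · obtain ⟨z, rfl⟩ := cls_surjective C 0 M x
    obtain ⟨v, hv⟩ := (h z.1).1 z.2
    exact ⟨v, congrArg (cls C 0 M) (Subtype.ext hv)⟩

end Gen

/-- The free locus of the next opcycles is where the residue field values are generated. -/
theorem mem_freeLocus_iff_gen {A : Type u} [CommRing A] (L : CochainComplex (ModuleCat.{u} A) ℤ)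
    (hL : ∀ i, Module.Finite A (L.X i) ∧ Module.Free A (L.X i)) (p : ℤ) (x : PrimeSpectrum A) :
    x ∈ Module.freeLocus A (Opc L p ((ComplexShape.up ℤ).next p)) ↔
      Gen (CohIII.TFun L p) (ModuleCat.of A x.asIdeal.ResidueField) := by
  have hP := finiteFlatX L hL
  let S := Localization.AtPrime x.asIdeal
  let φS := algebraMap A S
  let P := CohIII.bcCx φS L
  have hP' : ∀ m, Module.Finite S (P.X m) ∧ Module.Flat S (P.X m) := fun m => by
    refine ⟨?_, flat_X_bc S L (fun i => (hP i).2) m⟩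
    haveI := (hP m).1
    exact finite_X_bc L m
  rw [← preservesEpi_localization_iff L hP p (up_prev_next p),
    preservesEpi_iff_surjective_residue hP' (i := (ComplexShape.up ℤ).prev p) rfl rfl (up_prev_next p) rfl]
  obtain ⟨η⟩ := nonempty_TFun_bcCx S φS L p
  let Res := ModuleCat.restrictScalars φS
  let π : ModuleCat.of S S ⟶ ModuleCat.of S (IsLocalRing.ResidueField S) := toResidue S
  let rS : Res.obj (ModuleCat.of S S) ≅ ModuleCat.of A S :=
    { hom := ConcreteCategory.ofHom (C := ModuleCat.{u} A)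
        { toFun := fun x => x
          map_add' := fun _ _ => rfl
          map_smul' := fun a b => (Algebra.smul_def (A := S) a b).symm }
      inv := ConcreteCategory.ofHom (C := ModuleCat.{u} A)
        { toFun := fun x => x
          map_add' := fun _ _ => rfl
          map_smul' := fun a b => Algebra.smul_def (A := S) a b }
      hom_inv_id := rfl
      inv_hom_id := rfl }
  let rκ : Res.obj (ModuleCat.of S (IsLocalRing.ResidueField S)) ≅ ModuleCat.of A x.asIdeal.ResidueField :=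
    { hom := ConcreteCategory.ofHom (C := ModuleCat.{u} A)
        { toFun := fun x => x
          map_add' := fun _ _ => rfl
          map_smul' := fun a b => IsScalarTower.algebraMap_smul S a (show x.asIdeal.ResidueField from b) }
      inv := ConcreteCategory.ofHom (C := ModuleCat.{u} A)
        { toFun := fun x => x
          map_add' := fun _ _ => rfl
          map_smul' := fun a b => (IsScalarTower.algebraMap_smul S a (show x.asIdeal.ResidueField from b)).symm }
      hom_inv_id := rfl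
      inv_hom_id := rfl }
  have hπ : Function.Surjective π.hom := IsLocalRing.residue_surjective
  have hsurj : Function.Surjective ((CohIII.TFun P p).map π).hom ↔
      Function.Surjective ((CohIII.TFun L p).map (Res.map π)).hom := by
    have hn := congrArg ModuleCat.Hom.hom (η.hom.naturality π)
    let a := (η.app (ModuleCat.of S S)).toLinearEquiv
    let b := (η.app (ModuleCat.of S (IsLocalRing.ResidueField S))).toLinearEquiv
    have hc : ∀ y, b (((CohIII.TFun L p).map (Res.map π)).hom y) = ((CohIII.TFun P p).map π).hom (a y) :=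
      fun y => LinearMap.congr_fun hn y
    refine ⟨fun h y => ?_, fun h y => ?_⟩
    · obtain ⟨z, hz⟩ := h (b y)
      exact ⟨a.symm z, b.injective (by rw [hc, LinearEquiv.apply_symm_apply, hz])⟩
    · obtain ⟨z, hz⟩ := h (b.symm y)
      exact ⟨a z, by rw [← hc, hz, LinearEquiv.apply_symm_apply]⟩
  refine hsurj.trans ⟨fun h => gen_of_iso rκ ?_, fun h => ?_⟩
  · haveI : Module.Flat A (ModuleCat.of A S) := IsLocalization.flat S x.asIdeal.primeCompl
    have hS : Gen (CohIII.TFun L p) (Res.obj (ModuleCat.of S S)) := gen_of_iso rS.symm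
      ((gen_iff_psi_surjective L p (fun m => (hP m).2) _).2 (psi_surjective_of_flat L p _))
    refine eq_top_iff.2 fun y _ => ?_
    obtain ⟨z, rfl⟩ := h y
    have hz : z ∈ ⨆ ψ : ModuleCat.of A A ⟶ Res.obj (ModuleCat.of S S),
        LinearMap.range ((CohIII.TFun L p).map ψ).hom := hS ▸ trivial
    refine Submodule.iSup_induction _
      (motive := fun w => ((CohIII.TFun L p).map (Res.map π)).hom w ∈
        ⨆ φ : ModuleCat.of A A ⟶ Res.obj (ModuleCat.of S (IsLocalRing.ResidueField S)),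
          LinearMap.range ((CohIII.TFun L p).map φ).hom)
      hz (fun ψ w hw => ?_) ?_ fun w w' hw hw' => ?_
    · obtain ⟨v, rfl⟩ := hw
      exact Submodule.mem_iSup_of_mem (ψ ≫ Res.map π)
        ⟨v, congr(($((CohIII.TFun L p).map_comp ψ (Res.map π))).hom v)⟩
    · rw [map_zero]; exact zero_mem _
    · rw [map_add]; exact add_mem hw hw'
  · have h' := gen_of_iso rκ.symm h
    intro y
    have hy : y ∈ ⨆ ψ : ModuleCat.of A A ⟶ Res.obj (ModuleCat.of S (IsLocalRing.ResidueField S)),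
        LinearMap.range ((CohIII.TFun L p).map ψ).hom := h' ▸ trivial
    change y ∈ LinearMap.range ((CohIII.TFun L p).map (Res.map π)).hom
    refine SetLike.le_def.1 (iSup_le fun ψ => ?_) hy
    rintro _ ⟨v, rfl⟩
    obtain ⟨s, hs⟩ := hπ (ψ.hom (1 : A))
    let ψ' : ModuleCat.of A A ⟶ Res.obj (ModuleCat.of S S) :=
      ModuleCat.ofHom (X := A) (Y := ↥(Res.obj (ModuleCat.of S S))) (LinearMap.toSpanSingleton A _ s)
    have hψ : ψ' ≫ Res.map π = ψ := ModuleCat.hom_ext (LinearMap.ext_ring (by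
      change π.hom ((1 : A) • (show (Res.obj (ModuleCat.of S S) : Type u) from s)) = _
      rw [one_smul]
      exact hs))
    exact ⟨((CohIII.TFun L p).map ψ').hom v, by
      conv_rhs => rw [← hψ, Functor.map_comp]
      rfl⟩

section Geometric

variable {X S : Scheme.{u}} (f : X ⟶ S) (F : X.Modules) {T X' : Scheme.{u}} {g : T ⟶ S}
  (f' : X' ⟶ T) (g' : X' ⟶ X)

/-- Sections over the preimage of `U` span those of the pullback over the preimage of `V`. -/
def SpanAt (U : S.Opens) (V : T.Opens) (h : f' ⁻¹ᵁ V ≤ g' ⁻¹ᵁ (f ⁻¹ᵁ U)) : Prop :=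
  Submodule.span Γ(T, V) (Set.range fun s : Γ(F, f ⁻¹ᵁ U) =>
    (show (SM f' ((Scheme.Modules.pullback g').obj F) (f' ⁻¹ᵁ V) le_rfl : Type u) from
      ModDesc.pullSectLE g' F (f ⁻¹ᵁ U) (f' ⁻¹ᵁ V) h s)) = ⊤

lemma SpanAt.mono {U U' : S.Opens} (hUU' : U' ≤ U) {V : T.Opens} {h : f' ⁻¹ᵁ V ≤ g' ⁻¹ᵁ (f ⁻¹ᵁ U)}
    (h' : f' ⁻¹ᵁ V ≤ g' ⁻¹ᵁ (f ⁻¹ᵁ U')) (hs : SpanAt f F f' g' U V h) : SpanAt f F f' g' U' V h' := by
  refine eq_top_iff.2 (hs.ge.trans (Submodule.span_mono ?_))
  rintro _ ⟨s, rfl⟩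
  refine ⟨res F (f.preimage_mono hUU') s, ?_⟩
  exact (ModDesc.res_pullSectLE g' F (f.preimage_mono hUU') le_rfl h h' s).symm.trans
    (res_self _ _ _)

/-- The functions on the point `Spec κ(s)`, seen through `evaluation`. -/
lemma appLE_fromSpecResidueField {U : S.Opens} (hU : IsAffineOpen U) (s : S) (hs : s ∈ U)
    (e : (⊤ : (Spec (S.residueField s)).Opens) ≤ S.fromSpecResidueField s ⁻¹ᵁ U) :
    (S.fromSpecResidueField s).appLE U ⊤ e ≫ (Scheme.ΓSpecIso (S.residueField s)).hom =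
      S.evaluation U s hs := by
  have key : ∀ (φ : Spec (S.residueField s) ⟶ S) (e' : ⊤ ≤ φ ⁻¹ᵁ U), φ = S.fromSpecResidueField s →
      φ.appLE U ⊤ e' = (S.fromSpecResidueField s).appLE U ⊤ e := by
    rintro φ e' rfl; rfl
  have hφ := SpecMap_evaluation_fromSpec hU s hs
  rw [← key _ (by rw [hφ]; exact e) hφ]
  have h1 : ⊤ ≤ hU.fromSpec ⁻¹ᵁ U := hU.fromSpec_preimage_self.ge
  rw [← Scheme.Hom.appLE_comp_appLE (Spec.map (S.evaluation U s hs)) hU.fromSpec U ⊤ ⊤ h1 le_top]
  rw [show hU.fromSpec.appLE U ⊤ h1 = (Scheme.ΓSpecIso Γ(S, U)).inv by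
    rw [Scheme.Hom.appLE, hU.fromSpec_app_self]
    simp [← Functor.map_comp],
    show (Spec.map (S.evaluation U s hs)).appLE ⊤ ⊤ le_top = (Spec.map (S.evaluation U s hs)).appTop from
      (Spec.map (S.evaluation U s hs)).app_eq_appLE.symm,
    Category.assoc, Scheme.ΓSpecIso_naturality, Iso.inv_hom_id_assoc]

variable [IsProper f] [LocallyOfFinitePresentation f] [HasInjectiveResolutions X.Modules]

/-- The free locus of the next opcycles, on the fibre. -/
theorem spanAt_iff (hq : Coh.IsQCoh F) (hfl : FlatMod.IsFlatOver f F) {U : S.Opens} (hU : IsAffineOpen U)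
    (m : ModelNN f F hU) (s : S) (hs : s ∈ U)
    (h : f.fiberToSpecResidueField s ⁻¹ᵁ ⊤ ≤ f.fiberι s ⁻¹ᵁ (f ⁻¹ᵁ U)) :
    SpanAt f F (f.fiberToSpecResidueField s) (f.fiberι s) U ⊤ h ↔
      hU.primeIdealOf ⟨s, hs⟩ ∈ Module.freeLocus Γ(S, U) (Opc m.L 0 ((ComplexShape.up ℤ).next 0)) := by
  let A : Type u := Γ(S, U)
  let g := S.fromSpecResidueField s
  let P := f ⁻¹ᵁ U
  have hsq : IsPullback (f.fiberι s) (f.fiberToSpecResidueField s) f g := IsPullback.of_hasPullback f g
  have hVU : (⊤ : (Spec (S.residueField s)).Opens) ≤ g ⁻¹ᵁ U := fun z _ => by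
    change g z ∈ U
    rw [Scheme.fromSpecResidueField_apply]
    exact hs
  let B : Type u := Γ(Spec (S.residueField s), ⊤)
  letI : P.toScheme.Over (Spec (CommRingCat.of Γ(S, U))) := ⟨(f ∣_ U) ≫ hU.isoSpec.hom⟩
  letI : Algebra A B := (g.appLE U ⊤ hVU).hom.toAlgebra
  let G := (Scheme.Modules.pullback (f.fiberι s)).obj F
  letI : Module A (SM (f.fiberToSpecResidueField s) G (f.fiberToSpecResidueField s ⁻¹ᵁ ⊤) le_rfl : Type u) :=
    Module.compHom _ (g.appLE U ⊤ hVU).hom
  haveI : IsScalarTower A B (SM (f.fiberToSpecResidueField s) G (f.fiberToSpecResidueField s ⁻¹ᵁ ⊤) le_rfl : Type u) :=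
    IsScalarTower.of_algebraMap_smul fun _ _ => rfl
  obtain ⟨ι, hι, W, hW, hcov, -, hbc, -⟩ := exists_bc_setup f hq hU hsq (isAffineOpen_top _) hVU h
  haveI := hι
  haveI : IsProper (f ∣_ U) := IsZariskiLocalAtTarget.restrict (P := @IsProper) ‹_› U
  haveI : IsProper (P.toScheme ↘ Spec (CommRingCat.of A)) :=
    inferInstanceAs (IsProper ((f ∣_ U) ≫ hU.isoSpec.hom))
  haveI : P.toScheme.IsSeparated := by
    constructor
    rw [← terminal.comp_from (P.toScheme ↘ Spec (CommRingCat.of A))]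
    infer_instance
  let C := (CC A W).obj (F.restrict P.ι)
  have hC : ∀ n, Module.Flat A (C.X n) := fun n => by
    refine flat_CC A W hW (Groth.Agent.QC.isQCoh_restrict _ hq) (fun x => ?_) n
    exact FlatLimMod.isFlatOverAt_of_iso _ ((Scheme.Modules.restrictFunctorIsoPullback P.ι).app F).symm
      (FlatModBC.isFlatOverAt_baseChange (((isPullback_morphismRestrict f U).flip).of_iso (Iso.refl _)
        (Iso.refl _) hU.isoSpec (Iso.refl _) (g' := hU.fromSpec) (by first | rfl | simp [P]) (by first | rfl | simp [P])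
          (by first | rfl | simp) (by first | rfl | simp))
        F x (hfl _))
  obtain ⟨η⟩ := m.hT ι W hW hcov 0
  have e1 : SpanAt f F (f.fiberToSpecResidueField s) (f.fiberι s) U ⊤ h ↔
      Function.Surjective ((pullPiece F hVU hsq.w le_rfl h le_rfl).liftBaseChange B) := by
    rw [← LinearMap.range_eq_top, LinearMap.range_liftBaseChange]
    exact Iff.rfl
  have hd : (C.d 0 1).hom = dL A W (F.restrict P.ι) 0 := by
    rw [CC_d]
    rfl
  have e2 : Function.Exact ((LinearMap.ker (dL A W (F.restrict P.ι) 0)).subtype.rTensor B)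
      ((dL A W (F.restrict P.ι) 0).rTensor B) ↔ Gen (CohIII.TFun C 0) (ModuleCat.of A B) := by
    rw [gen_iff_psi_surjective C 0 hC, psi_zero_surjective_iff]
    have key : ∀ (d : (CoX A W (F.restrict P.ι) 0 : Type u) →ₗ[A] (CoX A W (F.restrict P.ι) 1 : Type u)),
        d = dL A W (F.restrict P.ι) 0 →
        (Function.Exact ((LinearMap.ker (dL A W (F.restrict P.ι) 0)).subtype.rTensor B)
          ((dL A W (F.restrict P.ι) 0).rTensor B) ↔
          Function.Exact ((LinearMap.ker d).subtype.rTensor B) (d.rTensor B)) := by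
      rintro d rfl; exact Iff.rfl
    exact key _ hd
  have e3 : Gen (CohIII.TFun C 0) (ModuleCat.of A B) ↔ Gen (CohIII.TFun m.L 0) (ModuleCat.of A B) :=
    ⟨fun hg => gen_of_natIso η.symm hg, fun hg => gen_of_natIso η hg⟩
  rw [mem_freeLocus_iff_gen m.L m.hL, ← specPt_eq hU s hs]
  refine e1.trans (hbc.trans (e2.trans (e3.trans ?_)))
  let k := S.residueField s
  letI : Algebra A k := (S.evaluation U s hs).hom.toAlgebra
  obtain ⟨σ, hσ⟩ := exists_residueField_equiv (k := k) (evaluation_frac hU s hs) (specPt s hs) rfl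
  let τ : B ≃+* k := (Scheme.ΓSpecIso (S.residueField s)).commRingCatIsoToRingEquiv
  have hτ : ∀ a, τ (algebraMap A B a) = algebraMap A k a := fun a =>
    congr(($(appLE_fromSpecResidueField hU s hs hVU)).hom a)
  let i : ModuleCat.of A B ≅ ModuleCat.of A (specPt s hs).asIdeal.ResidueField :=
    ((τ.trans σ).toAddEquiv.toLinearEquiv fun a b => by
      change σ (τ (a • b)) = a • σ (τ b)
      rw [Algebra.smul_def, map_mul, hτ, map_mul, hσ, ← Algebra.smul_def]).toModuleIso
  exact ⟨fun hg => gen_of_iso i hg, fun hg => gen_of_iso i.symm hg⟩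

omit [IsProper f] [LocallyOfFinitePresentation f] [HasInjectiveResolutions X.Modules] in
/-- An epimorphic base change map gives spanning. -/
theorem spanAt_of_epi [QuasiCompact f] [QuasiSeparated f] (hq : Coh.IsQCoh F) (hsq : IsPullback g' f' f g)
    [QuasiCompact f'] [QuasiSeparated f'] {U : S.Opens} (hU : IsAffineOpen U) {V : T.Opens}
    (hV : IsAffineOpen V) (hVU : V ≤ g ⁻¹ᵁ U) (h : f' ⁻¹ᵁ V ≤ g' ⁻¹ᵁ (f ⁻¹ᵁ U))
    (he : Epi (CohBC.bc0 f g f' g' hsq.w F)) : SpanAt f F f' g' U V h := by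
  haveI : F.IsQuasicoherent := hq
  haveI : ((Scheme.Modules.pullback g').obj F).IsQuasicoherent := QC.isQCoh_pullback g' hq
  let L := (Scheme.Modules.pushforward f).obj F
  haveI hL : Coh.IsQCoh L := QC.isQCoh_pushforward f
  let θ := CohBC.bc0Adj f g f' g' hsq.w F
  let ν := CohBC.bc0 f g f' g' hsq.w F
  have hν : ∀ (W : S.Opens) (s : Γ(L, W)),
      ν.app (g ⁻¹ᵁ W) (OmegaSh.pullSect g L W s) = θ.app W s := fun W s => by
    have h1 : ((Scheme.Modules.pullbackPushforwardAdjunction g).unit.app L ≫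
        (Scheme.Modules.pushforward g).map ν) = θ :=
      ((Scheme.Modules.pullbackPushforwardAdjunction g).homEquiv_unit _ _ ν).symm.trans
        (Equiv.apply_symm_apply _ θ)
    exact congr(($h1).app W s)
  haveI : Epi ν := he
  have hsurj := QC.app_surjective_of_epi hV (QC.isQCoh_pullback g hL) (QC.isQCoh_pushforward f') ν
  obtain ⟨Φ, hΦ⟩ := ModDesc.exists_bijective_liftBaseChange g L hU hV hVU
  refine eq_top_iff.2 fun x _ => ?_
  obtain ⟨y, hy⟩ := hsurj (show Γ((Scheme.Modules.pushforward f').obj ((Scheme.Modules.pullback g').obj F), V) from x)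
  rw [show x = (show (SM f' ((Scheme.Modules.pullback g').obj F) (f' ⁻¹ᵁ V) le_rfl : Type u) from ν.app V y) from hy.symm]
  clear hy
  letI : Algebra Γ(S, U) Γ(T, V) := (g.appLE U V hVU).hom.toAlgebra
  obtain ⟨w, rfl⟩ := Φ.surjective y
  induction w using TensorProduct.induction_on with
  | zero => rw [map_zero, map_zero]; exact zero_mem _
  | tmul b s =>
    rw [show Φ (b ⊗ₜ[Γ(S, U)] s) = b • Φ ((1 : Γ(T, V)) ⊗ₜ[Γ(S, U)] s) by
      rw [← map_smul, TensorProduct.smul_tmul', smul_eq_mul, mul_one]]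
    rw [hΦ, TMul.app_smul]
    have hval : ν.app V (ModDesc.pullSectLE g L U V hVU s) =
        RelTilde.resθ g θ hVU s :=
      (QC.app_res ν hVU _).symm.trans (congrArg (res _ hVU) (hν U s))
    rw [hval]
    have hmem : (show (SM f' ((Scheme.Modules.pullback g').obj F) (f' ⁻¹ᵁ V) le_rfl : Type u) from
        ModDesc.pullSectLE g' F (f ⁻¹ᵁ U) (f' ⁻¹ᵁ V) h (show Γ(F, f ⁻¹ᵁ U) from s)) ∈
        Submodule.span Γ(T, V) (Set.range fun s : Γ(F, f ⁻¹ᵁ U) =>
          (show (SM f' ((Scheme.Modules.pullback g').obj F) (f' ⁻¹ᵁ V) le_rfl : Type u) from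
            ModDesc.pullSectLE g' F (f ⁻¹ᵁ U) (f' ⁻¹ᵁ V) h s)) :=
      Submodule.subset_span ⟨_, rfl⟩
    have hsm := Submodule.smul_mem _ b hmem
    have hrw : RelTilde.resθ g θ hVU s = ModDesc.pullSectLE g' F (f ⁻¹ᵁ U) (f' ⁻¹ᵁ V) h
        (show Γ(F, f ⁻¹ᵁ U) from s) := res_res _ _ _ _
    rw [hrw]
    convert hsm using 1
    change (f'.app V).hom b • (ModDesc.pullSectLE g' F (f ⁻¹ᵁ U) (f' ⁻¹ᵁ V) h (show Γ(F, f ⁻¹ᵁ U) from s)) =
      (f'.appLE V (f' ⁻¹ᵁ V) le_rfl).hom b • (ModDesc.pullSectLE g' F (f ⁻¹ᵁ U) (f' ⁻¹ᵁ V) h (show Γ(F, f ⁻¹ᵁ U) from s))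
    rw [← f'.app_eq_appLE]
  | add y z hy hz => rw [map_add, map_add]; exact add_mem hy hz

include f in
/-- An epimorphic base change map at a point: an open neighbourhood on which `T⁰` is exact. -/
theorem exists_nhd_epi (hq : Coh.IsQCoh F) (hF : CohB1.IsFP F) (hfl : FlatMod.IsFlatOver f F) (s : S)
    (he : Epi (CohBC.bc0 f (S.fromSpecResidueField s) (f.fiberToSpecResidueField s) (f.fiberι s) (f.fiber_fac s) F)) :
    ∃ W : S.Opens, s ∈ W ∧ ∀ (U : S.Opens) (hU : IsAffineOpen U), U ≤ W → ∀ m : ModelNN f F hU,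
      (CohIII.TFun m.L 0).PreservesEpimorphisms := by
  obtain ⟨V, hV, hsV, -⟩ := exists_isAffineOpen_mem_and_subset (X := S) (x := s) (U := ⊤) trivial
  obtain ⟨m₀⟩ := nonempty_ModelNN f hq hF hfl hV
  have hle : ∀ (z : S) (U : S.Opens), z ∈ U →
      f.fiberToSpecResidueField z ⁻¹ᵁ ⊤ ≤ f.fiberι z ⁻¹ᵁ (f ⁻¹ᵁ U) := fun z U hz x _ => by
    change f (f.fiberι z x) ∈ U
    rw [← Scheme.Hom.comp_apply, Scheme.Hom.fiber_fac, Scheme.Hom.comp_apply, Scheme.fromSpecResidueField_apply]
    exact hz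
  haveI := finitePresentationX m₀.L m₀.hL ((ComplexShape.up ℤ).next 0)
  haveI : Module.FinitePresentation Γ(S, V) (Opc m₀.L 0 ((ComplexShape.up ℤ).next 0)) :=
    Module.finitePresentation_of_surjective (LinearMap.range (m₀.L.d 0 _).hom).mkQ (Submodule.mkQ_surjective _) (by
      haveI := (m₀.hL 0).1
      rw [Submodule.ker_mkQ, LinearMap.range_eq_map]
      exact Module.Finite.fg_top.map _)
  let D := Module.freeLocus Γ(S, V) (Opc m₀.L 0 ((ComplexShape.up ℤ).next 0))
  have hD : IsOpen D := Module.isOpen_freeLocus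
  have hmem : ∀ (z : S) (hz : z ∈ V), z ∈ hV.fromSpec '' D ↔ hV.primeIdealOf ⟨z, hz⟩ ∈ D := fun z hz =>
    ⟨fun ⟨x, hx, hxz⟩ => by
      have : x = hV.primeIdealOf ⟨z, hz⟩ :=
        hV.fromSpec.isOpenEmbedding.injective (hxz.trans (hV.fromSpec_primeIdealOf ⟨z, hz⟩).symm)
      exact this ▸ hx, fun h => ⟨_, h, hV.fromSpec_primeIdealOf ⟨z, hz⟩⟩⟩
  haveI : IsProper (f.fiberToSpecResidueField s) :=
    MorphismProperty.of_isPullback (P := @IsProper)
      (IsPullback.of_hasPullback f (S.fromSpecResidueField s)) ‹IsProper f›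
  refine ⟨⟨hV.fromSpec '' D, hV.fromSpec.isOpenEmbedding.isOpenMap D hD⟩, (hmem s hsV).2 ?_, fun U hU hUW m => ?_⟩
  · refine (spanAt_iff f F hq hfl hV m₀ s hsV (hle s V hsV)).1 ?_
    exact spanAt_of_epi f F _ _ hq (IsPullback.of_hasPullback f (S.fromSpecResidueField s)) hV (isAffineOpen_top _)
      (fun z _ => by change S.fromSpecResidueField s z ∈ V; rw [Scheme.fromSpecResidueField_apply]; exact hsV) _ he
  · rw [preservesEpi_iff_flat_opc m.L 0 (flatX m.L m.hL) (up_prev_next 0)]
    haveI := finitePresentationX m.L m.hL ((ComplexShape.up ℤ).next 0)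
    haveI : Module.FinitePresentation Γ(S, U) (Opc m.L 0 ((ComplexShape.up ℤ).next 0)) :=
      Module.finitePresentation_of_surjective (LinearMap.range (m.L.d 0 _).hom).mkQ (Submodule.mkQ_surjective _) (by
        haveI := (m.hL 0).1
        rw [Submodule.ker_mkQ, LinearMap.range_eq_map]
        exact Module.Finite.fg_top.map _)
    have hUV : U ≤ V := fun z hz => by
      obtain ⟨x, -, rfl⟩ := hUW hz
      exact fromSpec_mem hV x
    haveI := Module.freeLocus_eq_univ_iff.1 (Set.eq_univ_of_forall fun x => by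
      let z := hU.fromSpec x
      have hz : z ∈ U := fromSpec_mem hU x
      rw [show x = hU.primeIdealOf ⟨z, hz⟩ from
        hU.fromSpec.isOpenEmbedding.injective (hU.fromSpec_primeIdealOf ⟨z, hz⟩).symm]
      refine (spanAt_iff f F hq hfl hU m z hz (hle z U hz)).1 (SpanAt.mono f F _ _ hUV (h := hle z V (hUV hz)) _ ?_)
      exact (spanAt_iff f F hq hfl hV m₀ z (hUV hz) (hle z V (hUV hz))).2 ((hmem z (hUV hz)).1 (hUW hz)))
    infer_instance

include f in
/-- Where `T⁰` is exact, the direct image is locally free. -/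
theorem isFinLocFree_push_restrict_of_epi (hq : Coh.IsQCoh F) (hF : CohB1.IsFP F)
    (hfl : FlatMod.IsFlatOver f F) (W : S.Opens)
    (he : ∀ (U : S.Opens) (hU : IsAffineOpen U), U ≤ W → ∀ m : ModelNN f F hU,
      (CohIII.TFun m.L 0).PreservesEpimorphisms) :
    FlatMod.IsFinLocFree (((Coh.push f).obj F).restrict W.ι) := by
  refine isFinLocFree_restrict_of_local _ W fun y hy => ?_
  obtain ⟨U, hyU, -, ⟨e⟩⟩ := locFree_of_good_nn f hq hF hfl 0 W (fun V hV hVW m => by
    have hm : (CohIII.TFun m.L ((0 : ℕ) : ℤ)).PreservesMonomorphisms :=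
      (T_epi_iff_mono_succ m.L (flatX m.L m.hL) (-1)).1
        (isZero_T_of_isZero_homology_all m.L (m.hneg (-1) (by omega))).2
    exact good_of_exact m.L m.hL _ hm (he V hV hVW m)) y hy
  exact ⟨U, _, hyU, ⟨(Scheme.Modules.restrictFunctor U.ι).mapIso
    (((Coh.push f).rightDerivedZeroIsoSelf).app F).symm ≪≫ e⟩⟩

end Geometric

end Groth.Agent.W7Cech
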