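import Groth.Agent.W7Cech.ResField
import Groth.Agent.FlatCx.Chain
import Groth.Agent.FlatCx.Semicontinuous
import Mathlib.RingTheory.LocalRing.Module

/-!
Fibrewise criteria for exactness of `H^p(L ⊗ -)`, for a complex of finite free modules.
-/

set_option autoImplicit false
set_option backward.isDefEq.respectTransparency false
set_option backward.isDefEq.respectTransparency.types false
set_option linter.style.haveILetI false

universe u

open CategoryTheory CategoryTheory.Limits MonoidalCategory Groth.Agent.FlatCx IsLocalRing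
open scoped TensorProduct

noncomputable section

namespace Groth.Agent.W7Cech

lemma up_next (p : ℤ) : (ComplexShape.up ℤ).next p = p + 1 := CochainComplex.next ℤ p

lemma up_prev (p : ℤ) : (ComplexShape.up ℤ).prev p = p - 1 := CochainComplex.prev ℤ p

lemma up_prev_next (p : ℤ) : (ComplexShape.up ℤ).prev ((ComplexShape.up ℤ).next p) = p := by
  rw [up_next, up_prev]; omega

variable {A : Type u} [CommRing A] (L : CochainComplex (ModuleCat.{u} A) ℤ)

lemma T_epi_iff_mono_succ (hL : ∀ i, Module.Flat A (L.X i)) (p : ℤ) :
    (CohIII.TFun L p).PreservesEpimorphisms ↔ (CohIII.TFun L (p + 1)).PreservesMonomorphisms :=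
  preservesEpi_iff_preservesMono_next hL rfl (up_next p) (by rw [up_prev]; omega) rfl

lemma isZero_T_of_isZero_homology_all {j : ℤ} (h : ∀ M, IsZero (CohIII.T L j M)) :
    (CohIII.TFun L j).PreservesMonomorphisms ∧ (CohIII.TFun L j).PreservesEpimorphisms :=
  ⟨⟨fun {M N} _ _ => ⟨fun a b _ => (h M).eq_of_tgt a b⟩⟩,
    ⟨fun {M N} _ _ => ⟨fun a b _ => (h N).eq_of_src a b⟩⟩⟩

lemma finite_X_bc {B : Type u} [CommRing B] [Algebra A B] {κ : Type} {c : ComplexShape κ}
    (P : HomologicalComplex (ModuleCat.{u} A) c) (m : κ) [Module.Finite A (P.X m)] :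
    Module.Finite B ((CohIII.bcCx (algebraMap A B) P).X m) := by
  obtain ⟨φ, rfl⟩ : ∃ φ : A →+* B, ‹Algebra A B› = φ.toAlgebra :=
    ⟨algebraMap A B, Algebra.algebra_ext _ _ fun _ => rfl⟩
  letI := φ.toAlgebra
  exact inferInstanceAs (Module.Finite B (B ⊗[A] (P.X m : Type u)))

lemma finite_bc_homology {k : Type u} [Field k] [Algebra A k] {κ : Type} {c : ComplexShape κ}
    (P : HomologicalComplex (ModuleCat.{u} A) c) (m : κ) [Module.Finite A (P.X m)] :
    Module.Finite k ((CohIII.bcCx (algebraMap A k) P).homology m) := by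
  haveI := finite_X_bc (B := k) P m
  exact Module.Finite.equiv (homologyHmEquiv (CohIII.bcCx (algebraMap A k) P) m).symm

/-- The rank function of a base change. -/
theorem dRank_bcCx {A' : Type u} [CommRing A'] [Algebra A A'] {κ : Type} {c : ComplexShape κ}
    (P : HomologicalComplex (ModuleCat.{u} A) c) (p : κ) (x' : PrimeSpectrum A') :
    CohIII.dRank (CohIII.bcCx (algebraMap A A') P) p x' =
      CohIII.dRank P p (PrimeSpectrum.comap (algebraMap A A') x') := by
  let x := PrimeSpectrum.comap (algebraMap A A') x'
  let ι : x.asIdeal.ResidueField →+* x'.asIdeal.ResidueField :=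
    Ideal.ResidueField.map x.asIdeal x'.asIdeal (algebraMap A A') rfl
  have hcomp : (algebraMap A' x'.asIdeal.ResidueField).comp (algebraMap A A') =
      ι.comp (algebraMap A x.asIdeal.ResidueField) := by
    ext r
    simp [ι]
  let Q := CohIII.bcCx (algebraMap A x.asIdeal.ResidueField) P
  let e : CohIII.bcCx (algebraMap A' x'.asIdeal.ResidueField) (CohIII.bcCx (algebraMap A A') P) ≅
      CohIII.bcCx ι Q :=
    ((NatIso.mapHomologicalComplex
        (ModuleCat.extendScalarsComp.{u, u} (algebraMap A A') (algebraMap A' x'.asIdeal.ResidueField))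
        c).app P).symm ≪≫
      eqToIso (congrArg (fun f => CohIII.bcCx f P) hcomp) ≪≫
      (NatIso.mapHomologicalComplex
        (ModuleCat.extendScalarsComp.{u, u} (algebraMap A x.asIdeal.ResidueField) ι) c).app P
  letI : Algebra x.asIdeal.ResidueField x'.asIdeal.ResidueField := ι.toAlgebra
  obtain ⟨e'⟩ := homology_flatBC x'.asIdeal.ResidueField Q p
  show Module.finrank _ _ = Module.finrank x.asIdeal.ResidueField (Q.homology p)
  rw [(HomologicalComplex.homologyMapIso e p).toLinearEquiv.finrank_eq]
  refine e'.finrank_eq.trans ?_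
  rw [Module.finrank_baseChange]
  exact (homologyHmEquiv Q p).symm.finrank_eq

variable (hL : ∀ i, Module.Finite A (L.X i) ∧ Module.Free A (L.X i))

include hL in
lemma flatX (i : ℤ) : Module.Flat A (L.X i) := haveI := (hL i).2; inferInstance

include hL in
lemma finiteFlatX (i : ℤ) : Module.Finite A (L.X i) ∧ Module.Flat A (L.X i) := ⟨(hL i).1, flatX L hL i⟩

include hL in
lemma finitePresentationX (i : ℤ) : Module.FinitePresentation A (L.X i) :=
  haveI := (hL i).1
  haveI := (hL i).2
  Module.finitePresentation_of_projective A _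

include hL in
/-- The fibre rank vanishes iff the homology at the residue field does. -/
theorem isZero_T_iff_dRank (p : ℤ) (x : PrimeSpectrum A) :
    IsZero (CohIII.T L p (ModuleCat.of A x.asIdeal.ResidueField)) ↔ CohIII.dRank L p x = 0 := by
  let K := CohIII.bcCx (algebraMap A x.asIdeal.ResidueField) L
  obtain ⟨i⟩ := nonempty_bcCx_T A L (B := x.asIdeal.ResidueField) p
  haveI := (hL p).1
  haveI : Module.Finite x.asIdeal.ResidueField (K.homology p) := finite_bc_homology L p
  change _ ↔ Module.finrank x.asIdeal.ResidueField (K.homology p) = 0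
  rw [Module.finrank_zero_iff]
  refine ⟨fun h => ?_, fun h => ?_⟩
  · have := ModuleCat.subsingleton_of_isZero (h.of_iso i)
    exact this
  · haveI : Subsingleton ((ModuleCat.restrictScalars (algebraMap A x.asIdeal.ResidueField)).obj (K.homology p)) := h
    exact (ModuleCat.isZero_of_subsingleton _).of_iso i.symm

include hL in
/-- If the fibre rank vanishes at `x`, the next opcycles are free at `x`. -/
theorem mem_freeLocus_of_dRank_eq_zero (p : ℤ) (x : PrimeSpectrum A) (hx : CohIII.dRank L p x = 0) :
    x ∈ Module.freeLocus A (Opc L p ((ComplexShape.up ℤ).next p)) := by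
  have hP := finiteFlatX L hL
  rw [← preservesEpi_localization_iff L hP p (up_prev_next p)]
  let S := Localization.AtPrime x.asIdeal
  let P := CohIII.bcCx (algebraMap A S) L
  have hP' : ∀ m, Module.Finite S (P.X m) ∧ Module.Flat S (P.X m) := fun m => by
    refine ⟨?_, flat_X_bc S L (fun i => (hP i).2) m⟩
    haveI := (hP m).1
    exact finite_X_bc L m
  refine (preservesEpi_iff_surjective_residue hP' (i := (ComplexShape.up ℤ).prev p) rfl rfl
    (up_prev_next p) rfl).2 ?_
  have hd : CohIII.dRank P p (closedPoint S) = 0 := by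
    rw [dRank_bcCx L p, ← hx]
    exact congrArg (CohIII.dRank L p) (PrimeSpectrum.ext (IsLocalization.AtPrime.comap_maximalIdeal S x.asIdeal))
  let e : ResidueField S ≃ₗ[S] (closedPoint S).asIdeal.ResidueField :=
    LinearEquiv.ofBijective (IsScalarTower.toAlgHom S (S ⧸ maximalIdeal S) (maximalIdeal S).ResidueField).toLinearMap
      (maximalIdeal S).bijective_algebraMap_quotient_residueField
  obtain ⟨i⟩ := nonempty_bcCx_T S P (B := (closedPoint S).asIdeal.ResidueField) p
  haveI := (hP' p).1
  let k := (closedPoint S).asIdeal.ResidueField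
  haveI : Module.Finite k ((CohIII.bcCx (algebraMap S k) P).homology p) := finite_bc_homology P p
  haveI : Subsingleton ((ModuleCat.restrictScalars (algebraMap S k)).obj
      ((CohIII.bcCx (algebraMap S k) P).homology p)) :=
    (Module.finrank_zero_iff (R := k) (M := (CohIII.bcCx (algebraMap S k) P).homology p)).1 hd
  have hz : IsZero ((CohIII.TFun P p).obj (ModuleCat.of S (ResidueField S))) :=
    ((ModuleCat.isZero_of_subsingleton _).of_iso i.symm).of_iso ((CohIII.TFun P p).mapIso e.toModuleIso)
  exact fun y => ⟨0, (ModuleCat.subsingleton_of_isZero hz).elim _ _⟩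

include hL in
/-- The next opcycles are flat if the fibre rank vanishes everywhere. -/
theorem flat_opc_next (p : ℤ) (h : ∀ x, CohIII.dRank L p x = 0) :
    Module.Flat A (Opc L p ((ComplexShape.up ℤ).next p)) := by
  haveI := finitePresentationX L hL ((ComplexShape.up ℤ).next p)
  haveI : Module.FinitePresentation A (Opc L p ((ComplexShape.up ℤ).next p)) :=
    Module.finitePresentation_of_surjective (LinearMap.range (L.d p _).hom).mkQ (Submodule.mkQ_surjective _) (by
      haveI := (hL p).1
      rw [Submodule.ker_mkQ, LinearMap.range_eq_map]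
      exact Module.Finite.fg_top.map _)
  haveI := Module.freeLocus_eq_univ_iff.1 (Set.eq_univ_of_forall fun x =>
    mem_freeLocus_of_dRank_eq_zero L hL p x (h x))
  infer_instance

variable [IsNoetherianRing A]

include hL in
lemma finite_HmL (p : ℤ) : Module.Finite A (Hm L p) :=
  haveI : IsNoetherian A (L.X p) := haveI := (hL p).1; isNoetherian_of_isNoetherianRing_of_finite A (L.X p)
  inferInstance

include hL in
/-- The homology functor vanishes if the fibre rank does. -/
theorem isZero_T_of_dRank (p : ℤ) (h : ∀ x, CohIII.dRank L p x = 0) (M : ModuleCat.{u} A) :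
    IsZero (CohIII.T L p M) := by
  have hf := flatX L hL
  have hW := flat_opc_next L hL p h
  haveI := finite_HmL L hL p
  haveI : Subsingleton (Hm L p) := by
    rw [← Module.support_eq_empty_iff (R := A), Set.eq_empty_iff_forall_notMem]
    intro x hx
    rw [Module.mem_support_iff_nontrivial_residueField_tensorProduct] at hx
    have h0 : fdim (Hm L p) x = 0 := (dRank_eq_fdim L hf p hW x).symm.trans (h x)
    rw [fdim, Module.finrank_zero_iff] at h0
    exact not_subsingleton _ h0
  haveI : Subsingleton (Hm L p ⊗[A] M) := inferInstance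
  haveI : Subsingleton ((CohIII.TFun L p).obj M) := (comparison_bijective L p hf hW M).2.subsingleton
  exact ModuleCat.isZero_of_subsingleton ((CohIII.TFun L p).obj M)

include hL in
/-- With vanishing fibre rank in both neighbouring degrees, the homology is flat and computes the fibres. -/
theorem flat_Hm_of_adjacent (p : ℤ) (hlo : ∀ M, IsZero (CohIII.T L (p - 1) M))
    (hhi : ∀ M, IsZero (CohIII.T L (p + 1) M)) :
    Module.Flat A (Hm L p) ∧ ∀ x, CohIII.dRank L p x = Module.rankAtStalk (Hm L p) x := by
  have hm : (CohIII.TFun L p).PreservesMonomorphisms := by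
    have h := (T_epi_iff_mono_succ L (flatX L hL) (p - 1)).1 (isZero_T_of_isZero_homology_all L hlo).2
    rwa [sub_add_cancel] at h
  have he : (CohIII.TFun L p).PreservesEpimorphisms :=
    (T_epi_iff_mono_succ L (flatX L hL) p).2 (isZero_T_of_isZero_homology_all L hhi).1
  obtain ⟨hf, hr⟩ := flat_Hm_of_exact L (flatX L hL) p (up_prev_next p) ⟨hm, he⟩
  haveI := finite_HmL L hL p
  exact ⟨hf, fun x => (hr x).trans (fdim_eq_rankAtStalk _ x)⟩

omit [IsNoetherianRing A] in
include hL in
/-- Over a reduced ring a locally constant fibre rank gives exactness. -/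
theorem exact_of_dRank_locallyConstant [IsReduced A] (p : ℤ) (hd : IsLocallyConstant (CohIII.dRank L p)) :
    (CohIII.TFun L p).PreservesMonomorphisms ∧ (CohIII.TFun L p).PreservesEpimorphisms := by
  haveI := fun i => (hL i).1
  haveI := fun i => (hL i).2
  haveI := finitePresentationX L hL
  let f := fibreRk (L.d ((ComplexShape.up ℤ).prev p) p).hom
  let g := fibreRk (L.d p ((ComplexShape.up ℤ).next p)).hom
  have key : ∀ x, ∀ᶠ y in nhds x, f y = f x ∧ g y = g x := by
    intro x
    filter_upwards [hd.eventually_eq x,
      (Module.isLocallyConstant_rankAtStalk (R := A) (M := L.X p)).eventually_eq x,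
      (isOpen_le_fibreRk (L.d ((ComplexShape.up ℤ).prev p) p).hom (f x)).mem_nhds (x := x) (le_refl (α := ℕ) _),
      (isOpen_le_fibreRk (L.d p ((ComplexShape.up ℤ).next p)).hom (g x)).mem_nhds (x := x)
        (le_refl (α := ℕ) _)] with y h1 h2 h3 h4
    have e1 : CohIII.dRank L p x + f x + g x = Module.rankAtStalk (L.X p) x := dRank_add L rfl rfl x
    have e2 : CohIII.dRank L p y + f y + g y = Module.rankAtStalk (L.X p) y := dRank_add L rfl rfl y
    change f x ≤ f y at h3
    change g x ≤ g y at h4
    omega
  exact ⟨(preservesMono_iff_flat_opc (flatX L hL) rfl rfl).2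
    (flat_opc_of_fibreRk_isLocallyConstant L _ _ ((IsLocallyConstant.iff_eventually_eq _).2 fun x =>
      (key x).mono fun y h => h.1)),
    (preservesEpi_iff_flat_opc L p (flatX L hL) (up_prev_next p)).2
    (flat_opc_of_fibreRk_isLocallyConstant L _ _ ((IsLocallyConstant.iff_eventually_eq _).2 fun x =>
      (key x).mono fun y h => h.2))⟩

omit [IsNoetherianRing A] in
include hL in
/-- If the homology is flat from degree `q` on, the next opcycles are flat from degree `q` on. -/
theorem exact_of_flat_Hm (b q : ℤ) (hb : ∀ i, b < i → IsZero (L.X i))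
    (hH : ∀ n, q < n → Module.Flat A (Hm L n)) (p : ℤ) (hp : q ≤ p) :
    (CohIII.TFun L p).PreservesEpimorphisms := by
  have hf := flatX L hL
  suffices h : ∀ (k : ℕ) (j : ℤ), q ≤ j → b < j + k → (CohIII.TFun L j).PreservesEpimorphisms from
    h (b + 1 - p).toNat p hp (by omega)
  intro k
  induction k with
  | zero =>
    intro j _ hj
    rw [preservesEpi_iff_flat_opc L j hf (up_prev_next j), up_next]
    haveI := ModuleCat.subsingleton_of_isZero (hb (j + 1) (by omega))
    infer_instance
  | succ k ih =>
    intro j hqj hj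
    have he := ih (j + 1) (by omega) (by omega)
    rw [T_epi_iff_mono_succ L hf j]
    exact (preservesMono_iff_flat_Hm L (j + 1) hf
      ((preservesEpi_iff_flat_opc L (j + 1) hf (up_prev_next _)).1 he)).2 (hH (j + 1) (by omega))

end Groth.Agent.W7Cech
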