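import Groth.Agent.W7Cech.BCComplex
import Groth.Agent.W7Cech.Grauert

/-!
The functors `M ↦ H^p(L ⊗ M)` of a base changed complex.
-/

set_option autoImplicit false
set_option backward.isDefEq.respectTransparency false
set_option backward.isDefEq.respectTransparency.types false
set_option linter.style.haveILetI false

universe u

open CategoryTheory CategoryTheory.Limits AlgebraicGeometry MonoidalCategory
open scoped TensorProduct

noncomputable section

namespace Groth.Agent.W7Cech

variable {A : Type u} [CommRing A] {κ : Type} {c : ComplexShape κ}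

/-- `T_p` of multiplication by a scalar is multiplication by the scalar. -/
lemma TFun_map_smul (P : HomologicalComplex (ModuleCat.{u} A) c) (p : κ) (M : ModuleCat.{u} A) (a : A) :
    (CohIII.TFun P p).map (a • 𝟙 M) = a • 𝟙 (CohIII.T P p M) := by
  change HomologicalComplex.homologyMap (CohIII.tensorMap P (a • 𝟙 M)) p = _
  have h : CohIII.tensorMap P (a • 𝟙 M) = a • 𝟙 (CohIII.tensorObj P M) := by
    refine HomologicalComplex.hom_ext _ _ fun n => ModuleCat.hom_ext (TensorProduct.ext' fun x m => ?_)
    exact TensorProduct.tmul_smul a x m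
  rw [h]
  change ShortComplex.homologyMap ((HomologicalComplex.shortComplexFunctor (ModuleCat.{u} A) c p).map
      (a • 𝟙 (CohIII.tensorObj P M))) = _
  rw [show (HomologicalComplex.shortComplexFunctor (ModuleCat.{u} A) c p).map (a • 𝟙 (CohIII.tensorObj P M)) =
    a • 𝟙 ((CohIII.tensorObj P M).sc p) from by ext <;> rfl,
    ShortComplex.homologyMap_smul, ShortComplex.homologyMap_id]
  rfl

/-- A natural isomorphism after restriction of scalars is linear if the functors are. -/
theorem exists_linear_natIso {A₀ : Type u} [CommRing A₀] (φ : A₀ →+* A)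
    (G₁ G₂ : ModuleCat.{u} A ⥤ ModuleCat.{u} A)
    (h₁ : ∀ M (a : A), G₁.map (a • 𝟙 M) = a • 𝟙 (G₁.obj M))
    (h₂ : ∀ M (a : A), G₂.map (a • 𝟙 M) = a • 𝟙 (G₂.obj M))
    (η : G₁ ⋙ ModuleCat.restrictScalars φ ≅ G₂ ⋙ ModuleCat.restrictScalars φ) :
    Nonempty (G₁ ≅ G₂) := by
  let g : ∀ M : ModuleCat.{u} A, (G₁.obj M : Type u) ≃+ (G₂.obj M : Type u) := fun M =>
    (η.app M).toLinearEquiv.toAddEquiv
  have hg : ∀ {M N : ModuleCat.{u} A} (f : M ⟶ N) (x : (G₁.obj M : Type u)),
      g N ((G₁.map f).hom x) = (G₂.map f).hom (g M x) := fun {M N} f x =>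
    LinearMap.congr_fun (congrArg ModuleCat.Hom.hom (η.hom.naturality f)) x
  have hl : ∀ (M : ModuleCat.{u} A) (a : A) (x : (G₁.obj M : Type u)), g M (a • x) = a • g M x := by
    intro M a x
    have := hg (a • 𝟙 M) x
    rw [h₁, h₂] at this
    exact this
  refine ⟨NatIso.ofComponents (fun M => ((g M).toLinearEquiv (hl M)).toModuleIso) fun {M N} f => ?_⟩
  exact ModuleCat.hom_ext (LinearMap.ext fun x => hg f x)

variable (A) {A₀ : Type u} [CommRing A₀] (φ : A₀ →+* A)

set_option quotPrecheck false in
local notation "Res" => ModuleCat.restrictScalars φ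

/-- The comparison `P ⊗_{A₀} M → (A ⊗_{A₀} P) ⊗_A M`, in one degree. -/
def bcCxThetaX (P : ModuleCat.{u} A₀) (M : ModuleCat.{u} A) :
    ((P : Type u) ⊗[A₀] ((Res).obj M : Type u)) →ₗ[A₀]
      ((Res).obj (((ModuleCat.extendScalars φ).obj P) ⊗ M) : Type u) :=
  let v : (P : Type u) →ₗ[A₀] ((Res).obj ((ModuleCat.extendScalars φ).obj P) : Type u) :=
    ((ModuleCat.extendRestrictScalarsAdj φ).unit.app P).hom
  TensorProduct.lift (LinearMap.mk₂ A₀
    (fun x m => ((show ((ModuleCat.extendScalars φ).obj P : Type u) from v x) ⊗ₜ[A] (show (M : Type u) from m) :))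
    (fun x y m => by
      rw [map_add]
      exact TensorProduct.add_tmul (R := A) _ _ _)
    (fun r x m => by
      rw [map_smul]
      exact (TensorProduct.smul_tmul' (R := A) (R' := A) (M := ((ModuleCat.extendScalars φ).obj P : Type u))
        (N := (M : Type u)) (φ r) _ _).symm)
    (fun x m m' => TensorProduct.tmul_add (R := A) _ _ _)
    (fun r x m => TensorProduct.tmul_smul (R := A) (R' := A) (φ r) _ _))

lemma bcCxThetaX_bijective (P : ModuleCat.{u} A₀) (M : ModuleCat.{u} A) :
    Function.Bijective (bcCxThetaX A φ P M) := by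
  letI := φ.toAlgebra
  letI : Module A₀ M := Module.compHom M φ
  haveI : IsScalarTower A₀ A M := IsScalarTower.of_algebraMap_smul fun _ _ => rfl
  let E : (P : Type u) ⊗[A₀] (M : Type u) ≃+ (A ⊗[A₀] (P : Type u)) ⊗[A] (M : Type u) :=
    ((TensorProduct.comm A₀ (P : Type u) (M : Type u)).toAddEquiv.trans
      (TensorProduct.AlgebraTensorModule.cancelBaseChange A₀ A A (M : Type u) (P : Type u)).symm.toAddEquiv).trans
        (TensorProduct.comm A (M : Type u) (A ⊗[A₀] (P : Type u))).toAddEquiv
  have h : ∀ z, bcCxThetaX A φ P M z = E z := fun z => by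
    induction z using TensorProduct.induction_on with
    | zero => rw [map_zero]; exact (map_zero E).symm
    | tmul x m =>
      change _ = TensorProduct.comm A (M : Type u) (A ⊗[A₀] (P : Type u))
          ((TensorProduct.AlgebraTensorModule.cancelBaseChange A₀ A A (M : Type u) (P : Type u)).symm
            ((show (M : Type u) from m) ⊗ₜ[A₀] (show (P : Type u) from x)))
      rw [TensorProduct.AlgebraTensorModule.cancelBaseChange_symm_tmul, TensorProduct.comm_tmul]
      rfl
    | add z z' hz hz' => rw [map_add, hz, hz']; exact (map_add E _ _).symm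
  rw [funext h]
  exact E.bijective

/-- The comparison of complexes. -/
def bcCxTheta (P : HomologicalComplex (ModuleCat.{u} A₀) c) (M : ModuleCat.{u} A) :
    CohIII.tensorObj P ((Res).obj M) ⟶
      ((Res).mapHomologicalComplex c).obj (CohIII.tensorObj (CohIII.bcCx φ P) M) where
  f n := ModuleCat.ofHom (X := (P.X n : Type u) ⊗[A₀] ((Res).obj M : Type u))
    (Y := ↥((Res).obj (((ModuleCat.extendScalars φ).obj (P.X n)) ⊗ M)))
    (bcCxThetaX A φ (P.X n) M)
  comm' i j _ := by
    refine ModuleCat.hom_ext (TensorProduct.ext' fun x m => ?_)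
    rfl

/-- `T_p` of a base changed complex is `T_p` of the complex on restricted modules. -/
theorem nonempty_TFun_bcCx (P : HomologicalComplex (ModuleCat.{u} A₀) c) (p : κ) :
    Nonempty (Res ⋙ CohIII.TFun P p ≅ CohIII.TFun (CohIII.bcCx φ P) p ⋙ Res) := by
  haveI : ∀ M, IsIso (bcCxTheta A φ P M) := fun M => by
    haveI : ∀ n, IsIso ((bcCxTheta A φ P M).f n) := fun n =>
      (ConcreteCategory.isIso_iff_bijective _).2 (bcCxThetaX_bijective A φ (P.X n) M)
    exact HomologicalComplex.Hom.isIso_of_components _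
  refine ⟨NatIso.ofComponents (fun M =>
    HomologicalComplex.homologyMapIso (asIso (bcCxTheta A φ P M)) p ≪≫
      ((CohIII.tensorObj (CohIII.bcCx φ P) M).sc p).mapHomologyIso (Res)) fun {M N} h => ?_⟩
  change HomologicalComplex.homologyMap (CohIII.tensorMap _ _) p ≫
      HomologicalComplex.homologyMap (bcCxTheta A φ P N) p ≫ _ =
    (HomologicalComplex.homologyMap (bcCxTheta A φ P M) p ≫ _) ≫
      (Res).map (HomologicalComplex.homologyMap (CohIII.tensorMap _ h) p)
  rw [← HomologicalComplex.homologyMap_comp_assoc,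
    show CohIII.tensorMap P ((Res).map h) ≫ bcCxTheta A φ P N =
      bcCxTheta A φ P M ≫ ((Res).mapHomologicalComplex c).map (CohIII.tensorMap (CohIII.bcCx φ P) h) from
      HomologicalComplex.hom_ext _ _ fun n => ModuleCat.hom_ext (TensorProduct.ext' fun x m => rfl),
    HomologicalComplex.homologyMap_comp, Category.assoc, Category.assoc]
  refine congrArg (_ ≫ ·) ?_
  exact ShortComplex.mapHomologyIso_hom_naturality
    ((HomologicalComplex.shortComplexFunctor (ModuleCat.{u} A) c p).map
      (CohIII.tensorMap (CohIII.bcCx φ P) h)) (Res)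

end Groth.Agent.W7Cech
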