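import Groth.Agent.W7Cech.FibreRank
import Groth.Agent.W7Cech.Grauert
import Groth.Agent.LocFree.Rank
import Groth.Agent.DerPerf.Local

/-!
Grauert-type criteria for higher direct images.
-/

set_option autoImplicit false
set_option backward.isDefEq.respectTransparency false
set_option backward.isDefEq.respectTransparency.types false
set_option linter.style.haveILetI false

universe u

open CategoryTheory CategoryTheory.Limits AlgebraicGeometry TopologicalSpace MonoidalCategory Opposite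
open Groth.Agent.FlatCx

noncomputable section

namespace Groth.Agent.W7Cech

lemma specPt_eq {S : Scheme.{u}} {V : S.Opens} (hV : IsAffineOpen V) (y : S) (hy : y ∈ V) :
    specPt y hy = hV.primeIdealOf ⟨y, hy⟩ := by
  refine PrimeSpectrum.ext (Ideal.ext fun s => ?_)
  change S.evaluation V y hy s = 0 ↔ _
  rw [Scheme.evaluation_eq_zero_iff_notMem_basicOpen, WeakAssLib.mem_primeIdealOf hV hy, not_not]

lemma fromSpec_mem {S : Scheme.{u}} {V : S.Opens} (hV : IsAffineOpen V) (x : PrimeSpectrum Γ(S, V)) :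
    hV.fromSpec x ∈ V := hV.range_fromSpec.subset ⟨x, rfl⟩

lemma specPt_fromSpec {S : Scheme.{u}} {V : S.Opens} (hV : IsAffineOpen V) (x : PrimeSpectrum Γ(S, V)) :
    specPt (hV.fromSpec x) (fromSpec_mem hV x) = x := by
  rw [specPt_eq hV]
  exact hV.fromSpec.isOpenEmbedding.injective (hV.fromSpec_primeIdealOf ⟨_, fromSpec_mem hV x⟩)

variable {X S : Scheme.{u}} (f : X ⟶ S) (F : X.Modules)

/-- What a complex of finite free modules over an affine open knows about `f` and `F`. -/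
structure Model [HasInjectiveResolutions X.Modules] {V : S.Opens} (hV : IsAffineOpen V) where
  /-- the complex -/
  L : CochainComplex (ModuleCat.{u} Γ(S, V)) ℤ
  b : ℤ
  hL : ∀ i, Module.Finite Γ(S, V) (L.X i) ∧ Module.Free Γ(S, V) (L.X i)
  hb : ∀ i, b < i → IsZero (L.X i)
  hneg : ∀ n : ℤ, n < 0 → ∀ M, IsZero (CohIII.T L n M)
  hR : ∀ p : ℕ, Nonempty (Γ((Coh.Rpush f p).obj F, V) ≃ₗ[Γ(S, V)] Hm L (p : ℤ))
  hrk : ∀ (p : ℕ) (x : PrimeSpectrum Γ(S, V)),
    CohIII.fiberRank f F p (hV.fromSpec x) = CohIII.dRank L (p : ℤ) x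
  hsub : ∀ (p : ℕ) (x : PrimeSpectrum Γ(S, V)),
    Subsingleton (CohIII.fiberH f F (hV.fromSpec x) p) ↔ CohIII.dRank L (p : ℤ) x = 0
  noeth : IsNoetherianRing Γ(S, V)

variable [IsProper f] [IsLocallyNoetherian S] [HasInjectiveResolutions X.Modules]
  {F} (hF : Coh.IsCoh F) (hfl : FlatMod.IsFlatOver f F)

include hF hfl in
theorem nonempty_Model {V : S.Opens} (hV : IsAffineOpen V) : Nonempty (Model f F hV) := by
  obtain ⟨L, b, hL, hb, hneg, hR, hrk, hsub⟩ := exists_model f F hF hfl hV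
  refine ⟨⟨L, b, hL, hb, hneg, hR, fun p x => ?_, fun p x => ?_,
    IsLocallyNoetherian.component_noetherian ⟨V, hV⟩⟩⟩
  · rw [hrk p _ (fromSpec_mem hV x), specPt_fromSpec]
  · rw [hsub p _ (fromSpec_mem hV x), specPt_fromSpec]
    exact isZero_T_iff_dRank L hL (p : ℤ) x

omit [IsProper f] [IsLocallyNoetherian S] in
/-- A vanishing fibre rank on all of an affine open kills the corresponding functor. -/
lemma Model.isZero_T {V : S.Opens} {hV : IsAffineOpen V} (m : Model f F hV) (p : ℕ)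
    (h : ∀ y ∈ V, Subsingleton (CohIII.fiberH f F y p)) (M : ModuleCat.{u} Γ(S, V)) :
    IsZero (CohIII.T m.L (p : ℤ) M) :=
  haveI := m.noeth
  isZero_T_of_dRank m.L m.hL p (fun x => (m.hsub p x).1 (h _ (fromSpec_mem hV x))) M

omit [IsProper f] [IsLocallyNoetherian S] in
/-- Vanishing in both neighbouring degrees gives flatness. -/
lemma Model.flat_of_adjacent {V : S.Opens} {hV : IsAffineOpen V} (m : Model f F hV) (p : ℕ)
    (hlo : ∀ q : ℕ, q + 1 = p → ∀ y ∈ V, Subsingleton (CohIII.fiberH f F y q))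
    (hhi : ∀ y ∈ V, Subsingleton (CohIII.fiberH f F y (p + 1))) :
    Module.Flat Γ(S, V) (Hm m.L (p : ℤ)) ∧
      ∀ x, CohIII.dRank m.L (p : ℤ) x = Module.rankAtStalk (Hm m.L (p : ℤ)) x := by
  haveI := m.noeth
  refine flat_Hm_of_adjacent m.L m.hL p (fun M => ?_) fun M => ?_
  · rcases p with _ | q
    · exact m.hneg _ (by simp) M
    · rw [show ((q + 1 : ℕ) : ℤ) - 1 = (q : ℕ) by omega]
      exact m.isZero_T f q (hlo q rfl) M
  · rw [show (p : ℤ) + 1 = ((p + 1 : ℕ) : ℤ) by omega]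
    exact m.isZero_T f (p + 1) hhi M

omit [IsProper f] [IsLocallyNoetherian S] in
/-- Flat homology in all higher degrees gives right exactness. -/
lemma Model.epi_of_flat {V : S.Opens} {hV : IsAffineOpen V} (m : Model f F hV) (q : ℕ)
    (h : ∀ n : ℕ, q < n → Module.Flat Γ(S, V) Γ((Coh.Rpush f n).obj F, V)) (p : ℕ) (hp : q ≤ p) :
    (CohIII.TFun m.L (p : ℤ)).PreservesEpimorphisms :=
  exact_of_flat_Hm m.L m.hL m.b q m.hb (fun n hn => by
    obtain ⟨k, rfl⟩ : ∃ k : ℕ, n = k := ⟨n.toNat, by omega⟩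
    obtain ⟨e⟩ := m.hR k
    haveI := h k (by omega)
    exact Module.Flat.of_linearEquiv e.symm) p (by omega)

/-- A quasi-coherent module with free sections on an affine open, and its rank. -/
theorem exists_iso_free_finrank {X : Scheme.{u}} {M : X.Modules} [hM : M.IsQuasicoherent] {U : X.Opens}
    (hU : IsAffineOpen U) [Module.Free Γ(X, U) Γ(M, U)] [Module.Finite Γ(X, U) Γ(M, U)]
    [Nontrivial Γ(X, U)] :
    Nonempty (M.restrict U.ι ≅ FlatMod.freeMod (↑U) (Module.finrank Γ(X, U) Γ(M, U))) := by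
  classical
  let n := Module.finrank Γ(X, U) Γ(M, U)
  let eI : Module.Free.ChooseBasisIndex Γ(X, U) Γ(M, U) ≃ ULift.{u} (Fin n) :=
    (Fintype.equivFinOfCardEq (Module.finrank_eq_card_chooseBasisIndex Γ(X, U) Γ(M, U)).symm).trans
      Equiv.ulift.symm
  let b := ((Module.Free.chooseBasis Γ(X, U) Γ(M, U)).reindex eI)
  let e1 : Γ(M, U) ≃ₗ[Γ(X, U)] (ULift.{u} (Fin n) →₀ Γ(X, U)) := b.repr
  haveI : (M.restrict hU.fromSpec).IsQuasicoherent := Groth.Agent.QC.isQCoh_restrict hU.fromSpec hM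
  let e2 : (modulesSpecToSheaf.obj (M.restrict hU.fromSpec)).presheaf.obj (op ⊤) ≅
      ModuleCat.of Γ(X, U) (ULift.{u} (Fin n) →₀ Γ(X, U)) :=
    ((Groth.Agent.QC.topEquiv hU M).trans e1).toModuleIso
  let e3 : M.restrict hU.fromSpec ≅ SheafOfModules.free.{u} (ULift.{u} (Fin n)) :=
    (Groth.Agent.QC.isoTildeΓ (M.restrict hU.fromSpec)).symm ≪≫ (tilde.functor _).mapIso e2 ≪≫
      tildeFinsupp (R := Γ(X, U)) (ULift.{u} (Fin n))
  let e4 : SheafOfModules.free.{u} (R := (Spec Γ(X, U)).ringCatSheaf) (ULift.{u} (Fin n)) ≅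
      FlatMod.freeMod (Spec Γ(X, U)) n :=
    Sigma.whiskerEquiv (g := fun _ : Fin n => Coh.structureModule (Spec Γ(X, U))) Equiv.ulift
      fun _ => Iso.refl _
  exact ⟨(Groth.Agent.QC.fromSpecIso hU M).symm ≪≫
    (Scheme.Modules.restrictFunctor hU.isoSpec.hom).mapIso (e3 ≪≫ e4) ≪≫
    (Scheme.Modules.restrictFunctorIsoPullback hU.isoSpec.hom).app _ ≪≫
    Groth.Agent.DerPerf.pullFreeIso hU.isoSpec.hom n⟩

include hF hfl in
/-- Flat homology computing the fibres on small affine opens: locally free, of rank `fiberRank`. -/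
theorem locFree_of_good (p : ℕ)
    (hgood : ∀ y : S, ∃ W : S.Opens, y ∈ W ∧ ∀ (V : S.Opens) (hV : IsAffineOpen V), V ≤ W →
      ∀ m : Model f F hV, Module.Flat Γ(S, V) (Hm m.L (p : ℤ)) ∧
        ∀ x, CohIII.dRank m.L (p : ℤ) x = Module.rankAtStalk (Hm m.L (p : ℤ)) x) :
    FlatMod.IsFinLocFree ((Coh.Rpush f p).obj F) ∧
      ∀ y : S, ∃ U : S.Opens, y ∈ U ∧ Nonempty (((Coh.Rpush f p).obj F).restrict U.ι ≅
        FlatMod.freeMod (↑U) (CohIII.fiberRank f F p y)) := by
  let R := (Coh.Rpush f p).obj F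
  have hR : Coh.IsCoh R := CohFinite.isCoh_rpush f F hF p
  haveI : R.IsQuasicoherent := hR.1
  have key : ∀ y : S, ∃ U : S.Opens, y ∈ U ∧
      Nonempty (R.restrict U.ι ≅ FlatMod.freeMod (↑U) (CohIII.fiberRank f F p y)) := by
    intro y
    obtain ⟨W, hyW, hW⟩ := hgood y
    obtain ⟨V, hV, hy, hVW⟩ := exists_isAffineOpen_mem_and_subset (X := S) (x := y) (U := W) hyW
    obtain ⟨m⟩ := nonempty_Model f hF hfl hV
    haveI := m.noeth
    haveI : Module.Finite Γ(S, V) Γ(R, V) := (Groth.Agent.QC.isCoh_iff_finite_sections.mp hR).2 ⟨V, hV⟩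
    obtain ⟨e⟩ := m.hR p
    haveI := (hW V hV hVW m).1
    haveI : Module.Flat Γ(S, V) Γ(R, V) := Module.Flat.of_linearEquiv e
    haveI : Module.FinitePresentation Γ(S, V) Γ(R, V) := Module.finitePresentation_of_finite _ _
    let P := (hV.primeIdealOf ⟨y, hy⟩).asIdeal
    haveI : Module.Free (Localization.AtPrime P) (LocalizedModule P.primeCompl Γ(R, V)) :=
      Module.free_of_flat_of_isLocalRing
    obtain ⟨r, hr, hfree⟩ := Module.FinitePresentation.exists_free_localizedModule_powers P.primeCompl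
      (LocalizedModule.mkLinearMap P.primeCompl Γ(R, V)) (Localization.AtPrime P)
    haveI := hfree.1
    obtain ⟨h1, h2⟩ := LocFree.free_finite_basicOpen hR.1 hV r
    have hy' : y ∈ S.basicOpen r := (WeakAssLib.mem_primeIdealOf hV hy r).2 hr
    let D := S.basicOpen r
    have hD : IsAffineOpen D := hV.basicOpen r
    haveI : Nontrivial Γ(S, D) := (hD.primeIdealOf ⟨y, hy'⟩).nontrivial
    obtain ⟨m'⟩ := nonempty_Model f hF hfl hD
    obtain ⟨e'⟩ := m'.hR p
    obtain ⟨hfl', hrk'⟩ := hW D hD ((S.basicOpen_le r).trans hVW) m'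
    have hn : Module.finrank Γ(S, D) Γ(R, D) = CohIII.fiberRank f F p y := by
      have hy'' : hD.fromSpec (hD.primeIdealOf ⟨y, hy'⟩) = y := hD.fromSpec_primeIdealOf ⟨y, hy'⟩
      rw [← hy'', m'.hrk p, hrk']
      haveI : Module.Free Γ(S, D) (Hm m'.L (p : ℤ)) := Module.Free.of_equiv e'
      rw [Module.rankAtStalk_eq_finrank_of_free]
      exact e'.finrank_eq
    obtain ⟨i⟩ := exists_iso_free_finrank (M := R) hD
    exact ⟨D, hy', by rw [← hn]; exact ⟨i⟩⟩
  refine ⟨fun y => ?_, key⟩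
  obtain ⟨U, hy, i⟩ := key y
  exact ⟨U, _, hy, i⟩

end Groth.Agent.W7Cech
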