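import Groth.Agent.W7Cech.NNFibre
import Groth.Agent.W7Cech.GrauertSheaf
import Groth.Agent.PinchQC.Basic
import Groth.Agent.RPushQC.Main

/-!
Grauert-type criteria for proper morphisms of finite presentation over arbitrary bases.
-/

set_option autoImplicit false
set_option backward.isDefEq.respectTransparency false
set_option backward.isDefEq.respectTransparency.types false
set_option linter.style.haveILetI false
set_option maxHeartbeats 1000000

universe u

open CategoryTheory CategoryTheory.Limits AlgebraicGeometry TopologicalSpace MonoidalCategory Opposite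
open Groth.Agent.SiteCoh Groth.Agent.FlatCx
open scoped TensorProduct

noncomputable section

namespace Groth.Agent.W7Cech

section Complex

variable {A : Type u} [CommRing A] (L : CochainComplex (ModuleCat.{u} A) ℤ)
  (hL : ∀ i, Module.Finite A (L.X i) ∧ Module.Free A (L.X i))

include hL in
/-- With flat opcycles after degree `p`, the homology in degree `p` is finitely presented. -/
lemma finitePresentation_Hm (p : ℤ)
    (hW : Module.Flat A (Opc L p ((ComplexShape.up ℤ).next p))) : Module.FinitePresentation A (Hm L p) := by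
  haveI := finitePresentationX L hL
  let q := (ComplexShape.up ℤ).next p
  haveI : Module.FinitePresentation A (Opc L p q) :=
    Module.finitePresentation_of_surjective (LinearMap.range (L.d p q).hom).mkQ (Submodule.mkQ_surjective _) (by
      haveI := (hL p).1
      rw [Submodule.ker_mkQ, LinearMap.range_eq_map]
      exact Module.Finite.fg_top.map _)
  haveI : Module.Projective A (Opc L p q) := (haveI := hW; Module.Flat.projective_of_finitePresentation)
  let R := LinearMap.range (L.d p q).hom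
  obtain ⟨s, hs⟩ := Module.projective_lifting_property R.mkQ LinearMap.id R.mkQ_surjective
  haveI : Module.Projective A R := by
    haveI := (hL q).2
    refine Module.Projective.of_split R.subtype
      ((LinearMap.id - s ∘ₗ R.mkQ).codRestrict R fun x => ?_) (LinearMap.ext fun x => Subtype.ext ?_)
    · change (x : L.X q) - s (R.mkQ x) = x
      rw [show R.mkQ (x : L.X q) = 0 from (Submodule.Quotient.mk_eq_zero R).2 x.2, map_zero, sub_zero]
    · refine (Submodule.Quotient.mk_eq_zero R).1 ?_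
      change R.mkQ (x - s (R.mkQ x)) = 0
      rw [map_sub, show R.mkQ (s (R.mkQ x)) = R.mkQ x from LinearMap.congr_fun hs (R.mkQ x), sub_self]
  let d' := (L.d p q).hom.rangeRestrict
  obtain ⟨t, ht⟩ := Module.projective_lifting_property d' LinearMap.id (L.d p q).hom.surjective_rangeRestrict
  have hz : Zc L p = LinearMap.ker d' := (LinearMap.ker_rangeRestrict _).symm
  let π : (L.X p : Type u) →ₗ[A] Zc L p := (LinearMap.id - t ∘ₗ d').codRestrict _ fun x => by
    rw [hz, LinearMap.mem_ker, LinearMap.sub_apply, map_sub, LinearMap.id_apply, LinearMap.comp_apply,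
      show d' (t (d' x)) = d' x from LinearMap.congr_fun ht (d' x), sub_self]
  have hπ : π ∘ₗ (Zc L p).subtype = LinearMap.id := by
    ext x
    have : d' (x : L.X p) = 0 := LinearMap.mem_ker.1 (hz.le x.2)
    simp [π, this]
  haveI : Module.Projective A (L.X p) := haveI := (hL p).2; inferInstance
  haveI : Module.Finite A (L.X p) := (hL p).1
  haveI : Module.Projective A (Zc L p) := Module.Projective.of_split (Zc L p).subtype π hπ
  haveI : Module.Finite A (Zc L p) := Module.Finite.of_surjective π fun x => ⟨x, LinearMap.congr_fun hπ x⟩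
  haveI := Module.finitePresentation_of_projective A (Zc L p)
  exact Module.finitePresentation_of_surjective (LinearMap.range (bd L p)).mkQ (Submodule.mkQ_surjective _) (by
    haveI := (hL ((ComplexShape.up ℤ).prev p)).1
    rw [Submodule.ker_mkQ, LinearMap.range_eq_map]
    exact Module.Finite.fg_top.map _)

include hL in
/-- The homology functor vanishes if the fibre rank does. -/
theorem isZero_T_of_dRank_nn (p : ℤ) (h : ∀ x, CohIII.dRank L p x = 0) (M : ModuleCat.{u} A) :
    IsZero (CohIII.T L p M) := by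
  have hf := flatX L hL
  have hW := flat_opc_next L hL p h
  haveI := finitePresentation_Hm L hL p hW
  haveI : Subsingleton (Hm L p) := by
    rw [← Module.support_eq_empty_iff (R := A), Set.eq_empty_iff_forall_notMem]
    intro x hx
    rw [Module.mem_support_iff_nontrivial_residueField_tensorProduct] at hx
    have h0 : fdim (Hm L p) x = 0 := (dRank_eq_fdim L hf p hW x).symm.trans (h x)
    rw [fdim, Module.finrank_zero_iff] at h0
    exact not_subsingleton _ h0
  haveI : Subsingleton (Hm L p ⊗[A] M) := inferInstance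
  haveI : Subsingleton ((CohIII.TFun L p).obj M) := (comparison_bijective L p hf hW M).2.subsingleton
  exact ModuleCat.isZero_of_subsingleton ((CohIII.TFun L p).obj M)

include hL in
/-- Exact functors have projective homology of finite presentation computing the fibres. -/
theorem good_of_exact (p : ℤ) (hm : (CohIII.TFun L p).PreservesMonomorphisms)
    (he : (CohIII.TFun L p).PreservesEpimorphisms) :
    Module.Flat A (Hm L p) ∧ Module.FinitePresentation A (Hm L p) ∧
      ∀ x, CohIII.dRank L p x = Module.rankAtStalk (Hm L p) x := by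
  have hW := (preservesEpi_iff_flat_opc L p (flatX L hL) (up_prev_next _)).1 he
  haveI := finitePresentation_Hm L hL p hW
  obtain ⟨hf, hr⟩ := flat_Hm_of_exact L (flatX L hL) p (up_prev_next p) ⟨hm, he⟩
  exact ⟨hf, inferInstance, fun x => (hr x).trans (fdim_eq_rankAtStalk _ x)⟩

include hL in
/-- Vanishing in both neighbouring degrees. -/
theorem good_of_adjacent (p : ℤ) (hlo : ∀ M, IsZero (CohIII.T L (p - 1) M))
    (hhi : ∀ M, IsZero (CohIII.T L (p + 1) M)) :
    Module.Flat A (Hm L p) ∧ Module.FinitePresentation A (Hm L p) ∧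
      ∀ x, CohIII.dRank L p x = Module.rankAtStalk (Hm L p) x := by
  refine good_of_exact L hL p ?_ ((T_epi_iff_mono_succ L (flatX L hL) p).2 (isZero_T_of_isZero_homology_all L hhi).1)
  have h := (T_epi_iff_mono_succ L (flatX L hL) (p - 1)).1 (isZero_T_of_isZero_homology_all L hlo).2
  rwa [sub_add_cancel] at h

end Complex

variable {X S : Scheme.{u}} (f : X ⟶ S) [IsProper f] [LocallyOfFinitePresentation f] (F : X.Modules)

/-- On every affine open of the base, one complex of finite free modules computes the higher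
direct images, the functors `H^p(F ⊗ -)`, and the cohomology of the fibres. -/
theorem exists_model_nn [HasInjectiveResolutions X.Modules] (hq : Coh.IsQCoh F) (hF : CohB1.IsFP F)
    (hfl : FlatMod.IsFlatOver f F) {V : S.Opens} (hV : IsAffineOpen V) :
    letI : (f ⁻¹ᵁ V).toScheme.Over (Spec (CommRingCat.of Γ(S, V))) := ⟨(f ∣_ V) ≫ hV.isoSpec.hom⟩
    ∃ (L : CochainComplex (ModuleCat.{u} Γ(S, V)) ℤ) (b : ℤ),
      (∀ i, Module.Finite Γ(S, V) (L.X i) ∧ Module.Free Γ(S, V) (L.X i)) ∧
      (∀ i, b < i → IsZero (L.X i)) ∧ (∀ n : ℤ, n < 0 → ∀ M, IsZero (CohIII.T L n M)) ∧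
      (∀ p : ℕ, Nonempty (Γ((Coh.Rpush f p).obj F, V) ≃ₗ[Γ(S, V)] FlatCx.Hm L (p : ℤ))) ∧
      (∀ (p : ℕ) (y : S) (hy : y ∈ V),
        CohIII.fiberRank f F p y = CohIII.dRank L (p : ℤ) (specPt y hy)) ∧
      (∀ (p : ℕ) (y : S) (hy : y ∈ V), Subsingleton (CohIII.fiberH f F y p) ↔
        IsZero (CohIII.T L (p : ℤ) (ModuleCat.of Γ(S, V) (specPt y hy).asIdeal.ResidueField))) ∧
      (∀ (ι : Type u) [Finite ι] (W : ι → (f ⁻¹ᵁ V).toScheme.Opens),
        (∀ (n : ℕ) (a : Fin (n + 1) → ι), IsAffineOpen (tupleProd W a)) → iSup W = ⊤ → ∀ p : ℕ,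
        Nonempty (CohIII.TFun L (p : ℤ) ≅
          CohIII.TFun ((CC Γ(S, V) W).obj (F.restrict (f ⁻¹ᵁ V).ι)) p)) := by
  let A : Type u := Γ(S, V)
  let U₀ : X.Opens := f ⁻¹ᵁ V
  let F₀ := F.restrict U₀.ι
  letI : U₀.toScheme.Over (Spec (CommRingCat.of A)) := ⟨(f ∣_ V) ≫ hV.isoSpec.hom⟩
  haveI : LocallyOfFinitePresentation (f ∣_ V) :=
    IsZariskiLocalAtTarget.restrict (P := @LocallyOfFinitePresentation) ‹_› V
  haveI : LocallyOfFinitePresentation (U₀.toScheme ↘ Spec (CommRingCat.of A)) :=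
    inferInstanceAs (LocallyOfFinitePresentation ((f ∣_ V) ≫ hV.isoSpec.hom))
  haveI : IsProper (f ∣_ V) := IsZariskiLocalAtTarget.restrict (P := @IsProper) ‹_› V
  haveI : IsProper (U₀.toScheme ↘ Spec (CommRingCat.of A)) :=
    inferInstanceAs (IsProper ((f ∣_ V) ≫ hV.isoSpec.hom))
  haveI hF₀ : Coh.IsQCoh F₀ := Groth.Agent.QC.isQCoh_restrict _ hq
  have hfl₀ : FlatMod.IsFlatOver (U₀.toScheme ↘ Spec (CommRingCat.of A)) F₀ := fun x => by
    have hsq : IsPullback U₀.ι ((f ∣_ V) ≫ hV.isoSpec.hom) f hV.fromSpec := by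
      refine ((isPullback_morphismRestrict f V).flip).of_iso (Iso.refl _) (Iso.refl _) hV.isoSpec (Iso.refl _)
        ?_ ?_ ?_ ?_
      · simp [U₀]
      · simp [U₀]
      · simp
      · simp
    exact FlatLimMod.isFlatOverAt_of_iso _ ((Scheme.Modules.restrictFunctorIsoPullback U₀.ι).app F).symm
      (FlatModBC.isFlatOverAt_baseChange hsq F x (hfl _))
  haveI : CompactSpace U₀.toScheme :=
    QuasiCompact.compactSpace_of_compactSpace (U₀.toScheme ↘ Spec (CommRingCat.of A))
  haveI : U₀.toScheme.IsSeparated := by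
    constructor
    rw [← terminal.comp_from (U₀.toScheme ↘ Spec (CommRingCat.of A))]
    infer_instance
  obtain ⟨ι, hι, W, hW, hcov⟩ := exists_cover U₀.toScheme
  haveI := hι
  obtain ⟨L, b, hLf, hLb, hneg, hL, -, -⟩ :=
    exists_fibre_model_nn A F₀ (Groth.Agent.QC.isFP_restrict U₀.ι hF) hfl₀
  let C := (CC A W).obj F₀
  have hnat : ∀ p : ℕ, ∀ M, Nonempty (CohIII.T L (p : ℤ) M ≅ CohIII.T C p M) := fun p M => by
    obtain ⟨e, -⟩ := hL p
    obtain ⟨e', -⟩ := exists_TEquiv A W hW hcov F₀ hF₀ p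
    exact ⟨((e M).trans (e' M).symm).toModuleIso⟩
  have hLfl : ∀ i, Module.Flat A (L.X i) := fun i => haveI := (hLf i).2; inferInstance
  have key : ∀ (p : ℕ) (y : S) (hy : y ∈ V),
      letI : Algebra A (S.residueField y) := (S.evaluation V y hy).hom.toAlgebra
      ∃ e : CohIII.fiberH f F y p ≃+ (CohIII.T L (p : ℤ) (ModuleCat.of A (S.residueField y)) : Type u),
        ∀ (a : A) (v : CohIII.fiberH f F y p), e (algebraMap A (S.residueField y) a • v) = a • e v := by
    intro p y hy
    letI : Algebra A (S.residueField y) := (S.evaluation V y hy).hom.toAlgebra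
    letI : (f.fiber y).Over (Spec (CommRingCat.of ↥(S.residueField y))) := ⟨f.fiberToSpecResidueField y⟩
    let σ : Spec (S.residueField y) ⟶ V.toScheme := Spec.map (S.evaluation V y hy) ≫ hV.isoSpec.inv
    have hσ : σ ≫ V.ι = S.fromSpecResidueField y := by
      rw [Category.assoc, IsAffineOpen.isoSpec_inv_ι]
      exact SpecMap_evaluation_fromSpec hV y hy
    have hrange : Set.range (f.fiberι y) ⊆ Set.range U₀.ι := by
      rintro _ ⟨z, rfl⟩
      rw [Scheme.Opens.range_ι]
      change f (f.fiberι y z) ∈ V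
      rw [← Scheme.Hom.comp_apply, Scheme.Hom.fiber_fac, Scheme.Hom.comp_apply, ← hσ, Scheme.Hom.comp_apply]
      exact (σ (f.fiberToSpecResidueField y z)).2
    let g : f.fiber y ⟶ U₀.toScheme := IsOpenImmersion.lift U₀.ι (f.fiberι y) hrange
    have hg : g ≫ U₀.ι = f.fiberι y := IsOpenImmersion.lift_fac _ _ _
    have sq : IsPullback g (f.fiberToSpecResidueField y) ((f ∣_ V) ≫ hV.isoSpec.hom)
        (Spec.map (S.evaluation V y hy)) := by
      have h1 : IsPullback (g ≫ U₀.ι) (f.fiberToSpecResidueField y) f (σ ≫ V.ι) := by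
        rw [hg, hσ]
        exact IsPullback.of_hasPullback f (S.fromSpecResidueField y)
      have h2 : g ≫ (f ∣_ V) = f.fiberToSpecResidueField y ≫ σ := by
        rw [← cancel_mono V.ι, Category.assoc, morphismRestrict_ι, ← Category.assoc, hg, Category.assoc, hσ,
          Scheme.Hom.fiber_fac]
      have h3 : IsPullback g (f.fiberToSpecResidueField y) (f ∣_ V) σ :=
        IsPullback.of_right h1 h2 (isPullback_morphismRestrict f V).flip
      refine h3.of_iso (Iso.refl _) (Iso.refl _) (Iso.refl _) hV.isoSpec ?_ ?_ ?_ ?_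
      · simp
      · simp
      · simp
      · simp [σ]
    obtain ⟨i₁⟩ := nonempty_hh_bc_lin A (S.residueField y) W hW hcov g sq F₀ hF₀ p
    obtain ⟨i₂⟩ := hnat p (ModuleCat.of A (S.residueField y))
    let j : (Scheme.Modules.pullback g).obj F₀ ≅ CohIII.fiberMod f F y :=
      (Scheme.Modules.pullback g).mapIso ((Scheme.Modules.restrictFunctorIsoPullback U₀.ι).app F) ≪≫
        (Scheme.Modules.pullbackComp g U₀.ι).app F ≪≫ (Scheme.Modules.pullbackCongr hg).app F
    let ej := (CohFinite.hhEquiv (S.residueField y) j p).symm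
    let ei := (i₁ ≪≫ i₂.symm).toLinearEquiv
    refine ⟨ej.toAddEquiv.trans ei.toAddEquiv, fun a v => ?_⟩
    exact (congrArg ei (ej.map_smul (algebraMap A (S.residueField y) a) v)).trans (ei.map_smul a (ej v))
  refine ⟨L, b, hLf, hLb, hneg, fun p => ?_, fun p y hy => ?_, fun p y hy => ?_, fun κ _ W' hW' hcov' p => ?_⟩
  · obtain ⟨eR⟩ := nonempty_rpush_sections f F hq p hV
    obtain ⟨eH, -⟩ := exists_hhEquiv A W hW hcov p
    obtain ⟨i⟩ := hnat p (ModuleCat.of A A)
    exact ⟨eR ≪≫ₗ (eH F₀ hF₀).symm ≪≫ₗ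
      ((HomologicalComplex.homologyMapIso (ridIso A C) p).symm ≪≫ i.symm).toLinearEquiv ≪≫ₗ
      (FlatCx.HmEquivT L hLfl (p : ℤ)).symm⟩
  · letI : Algebra A (S.residueField y) := (S.evaluation V y hy).hom.toAlgebra
    obtain ⟨σ, hσ⟩ := exists_residueField_equiv (k := S.residueField y) (evaluation_frac hV y hy) (specPt y hy) rfl
    obtain ⟨e, he⟩ := key p y hy
    let κ := (specPt y hy).asIdeal.ResidueField
    let σA : (ModuleCat.of A (S.residueField y)) ≅ ModuleCat.of A κ :=
      (σ.toAddEquiv.toLinearEquiv fun a b => by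
        change σ (a • b) = a • σ b
        rw [Algebra.smul_def, map_mul, hσ, ← Algebra.smul_def]).toModuleIso
    obtain ⟨i⟩ := nonempty_bcCx_T A L (B := κ) (p : ℤ)
    let e₂ := ((CohIII.TFun L (p : ℤ)).mapIso σA ≪≫ i.symm).toLinearEquiv
    exact finrank_eq_of_linear (A := A) (S.residueField y) κ (evaluation_frac hV y hy) σ hσ _ _
      (e.trans e₂.toAddEquiv) fun a v => (congrArg e₂ (he a v)).trans (e₂.map_smul a (e v))
  · letI : Algebra A (S.residueField y) := (S.evaluation V y hy).hom.toAlgebra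
    obtain ⟨σ, hσ⟩ := exists_residueField_equiv (k := S.residueField y) (evaluation_frac hV y hy) (specPt y hy) rfl
    obtain ⟨e, -⟩ := key p y hy
    let σA : (ModuleCat.of A (S.residueField y)) ≅ ModuleCat.of A (specPt y hy).asIdeal.ResidueField :=
      (σ.toAddEquiv.toLinearEquiv fun a b => by
        change σ (a • b) = a • σ b
        rw [Algebra.smul_def, map_mul, hσ, ← Algebra.smul_def]).toModuleIso
    refine (e.toEquiv.subsingleton_congr).trans ⟨fun h => ?_, fun h => ?_⟩
    · haveI : Subsingleton ((CohIII.TFun L (p : ℤ)).obj (ModuleCat.of A (S.residueField y))) := h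
      exact (ModuleCat.isZero_of_subsingleton _).of_iso ((CohIII.TFun L (p : ℤ)).mapIso σA.symm)
    · exact ModuleCat.subsingleton_of_isZero (h.of_iso ((CohIII.TFun L (p : ℤ)).mapIso σA))
  · obtain ⟨e, he⟩ := hL p
    obtain ⟨e', he'⟩ := exists_TEquiv A W' hW' hcov' F₀ hF₀ p
    exact ⟨NatIso.ofComponents (fun M => ((e M).trans (e' M).symm).toModuleIso) fun {M N} g => by
      refine ModuleCat.hom_ext (LinearMap.ext fun x => (e' N).injective ?_)
      change e' N ((e' N).symm (e N (((CohIII.TFun L (p : ℤ)).map g).hom x))) =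
        e' N (((CohIII.TFun ((CC A W').obj F₀) p).map g).hom ((e' M).symm (e M x)))
      rw [LinearEquiv.apply_symm_apply, he, he', LinearEquiv.apply_symm_apply]⟩

/-- What a complex of finite free modules over an affine open knows about `f` and `F`. -/
structure ModelNN [HasInjectiveResolutions X.Modules] {V : S.Opens} (hV : IsAffineOpen V) where
  /-- the complex -/
  L : CochainComplex (ModuleCat.{u} Γ(S, V)) ℤ
  b : ℤ
  hL : ∀ i, Module.Finite Γ(S, V) (L.X i) ∧ Module.Free Γ(S, V) (L.X i)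
  hb : ∀ i, b < i → IsZero (L.X i)
  hneg : ∀ n : ℤ, n < 0 → ∀ M, IsZero (CohIII.T L n M)
  hR : ∀ p : ℕ, Nonempty (Γ((Coh.Rpush f p).obj F, V) ≃ₗ[Γ(S, V)] Hm L (p : ℤ))
  hrk : ∀ (p : ℕ) (x : PrimeSpectrum Γ(S, V)),
    CohIII.fiberRank f F p (hV.fromSpec x) = CohIII.dRank L (p : ℤ) x
  hsub : ∀ (p : ℕ) (x : PrimeSpectrum Γ(S, V)),
    Subsingleton (CohIII.fiberH f F (hV.fromSpec x) p) ↔ CohIII.dRank L (p : ℤ) x = 0
  hT : letI : (f ⁻¹ᵁ V).toScheme.Over (Spec (CommRingCat.of Γ(S, V))) := ⟨(f ∣_ V) ≫ hV.isoSpec.hom⟩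
    ∀ (ι : Type u) [Finite ι] (W : ι → (f ⁻¹ᵁ V).toScheme.Opens),
      (∀ (n : ℕ) (a : Fin (n + 1) → ι), IsAffineOpen (tupleProd W a)) → iSup W = ⊤ → ∀ p : ℕ,
      Nonempty (CohIII.TFun L (p : ℤ) ≅
        CohIII.TFun ((CC Γ(S, V) W).obj (F.restrict (f ⁻¹ᵁ V).ι)) p)

variable [HasInjectiveResolutions X.Modules] {F} (hq : Coh.IsQCoh F) (hF : CohB1.IsFP F)
  (hfl : FlatMod.IsFlatOver f F)

include hq hF hfl in
theorem nonempty_ModelNN {V : S.Opens} (hV : IsAffineOpen V) : Nonempty (ModelNN f F hV) := by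
  obtain ⟨L, b, hL, hb, hneg, hR, hrk, hsub, hT⟩ := exists_model_nn f F hq hF hfl hV
  refine ⟨⟨L, b, hL, hb, hneg, hR, fun p x => ?_, fun p x => ?_, hT⟩⟩
  · rw [hrk p _ (fromSpec_mem hV x), specPt_fromSpec]
  · rw [hsub p _ (fromSpec_mem hV x), specPt_fromSpec]
    exact isZero_T_iff_dRank L hL (p : ℤ) x

omit [IsProper f] [LocallyOfFinitePresentation f] in
/-- A vanishing fibre rank on all of an affine open kills the corresponding functor. -/
lemma ModelNN.isZero_T {V : S.Opens} {hV : IsAffineOpen V} (m : ModelNN f F hV) (p : ℕ)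
    (h : ∀ y ∈ V, Subsingleton (CohIII.fiberH f F y p)) (M : ModuleCat.{u} Γ(S, V)) :
    IsZero (CohIII.T m.L (p : ℤ) M) :=
  isZero_T_of_dRank_nn m.L m.hL p (fun x => (m.hsub p x).1 (h _ (fromSpec_mem hV x))) M

omit [IsProper f] [LocallyOfFinitePresentation f] in
/-- Vanishing in both neighbouring degrees. -/
lemma ModelNN.good_of_adjacent {V : S.Opens} {hV : IsAffineOpen V} (m : ModelNN f F hV) (p : ℕ)
    (hlo : ∀ q : ℕ, q + 1 = p → ∀ y ∈ V, Subsingleton (CohIII.fiberH f F y q))
    (hhi : ∀ y ∈ V, Subsingleton (CohIII.fiberH f F y (p + 1))) :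
    Module.Flat Γ(S, V) (Hm m.L (p : ℤ)) ∧ Module.FinitePresentation Γ(S, V) (Hm m.L (p : ℤ)) ∧
      ∀ x, CohIII.dRank m.L (p : ℤ) x = Module.rankAtStalk (Hm m.L (p : ℤ)) x := by
  refine W7Cech.good_of_adjacent m.L m.hL p (fun M => ?_) fun M => ?_
  · rcases p with _ | q
    · exact m.hneg _ (by simp) M
    · rw [show ((q + 1 : ℕ) : ℤ) - 1 = (q : ℕ) by omega]
      exact m.isZero_T f q (hlo q rfl) M
  · rw [show (p : ℤ) + 1 = ((p + 1 : ℕ) : ℤ) by omega]
    exact m.isZero_T f (p + 1) hhi M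

include hq hF hfl in
/-- Projective homology computing the fibres on small affine opens: locally free, of rank `fiberRank`. -/
theorem locFree_of_good_nn (p : ℕ) (W : S.Opens)
    (hgood : ∀ (V : S.Opens) (hV : IsAffineOpen V), V ≤ W → ∀ m : ModelNN f F hV,
      Module.Flat Γ(S, V) (Hm m.L (p : ℤ)) ∧ Module.FinitePresentation Γ(S, V) (Hm m.L (p : ℤ)) ∧
        ∀ x, CohIII.dRank m.L (p : ℤ) x = Module.rankAtStalk (Hm m.L (p : ℤ)) x) :
    ∀ y ∈ W, ∃ U : S.Opens, y ∈ U ∧ U ≤ W ∧ Nonempty (((Coh.Rpush f p).obj F).restrict U.ι ≅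
        FlatMod.freeMod (↑U) (CohIII.fiberRank f F p y)) := by
  let R := (Coh.Rpush f p).obj F
  have hR : Coh.IsQCoh R := RPushQC.isQCoh_rpush f F hq p
  haveI : R.IsQuasicoherent := hR
  intro y hyW
  obtain ⟨V, hV, hy, hVW⟩ := exists_isAffineOpen_mem_and_subset (X := S) (x := y) (U := W) hyW
  obtain ⟨m⟩ := nonempty_ModelNN f hq hF hfl hV
  obtain ⟨e⟩ := m.hR p
  haveI := (hgood V hV hVW m).1
  haveI := (hgood V hV hVW m).2.1
  haveI : Module.Flat Γ(S, V) Γ(R, V) := Module.Flat.of_linearEquiv e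
  haveI : Module.FinitePresentation Γ(S, V) Γ(R, V) := Module.FinitePresentation.of_equiv e.symm
  let P := (hV.primeIdealOf ⟨y, hy⟩).asIdeal
  haveI : Module.Free (Localization.AtPrime P) (LocalizedModule P.primeCompl Γ(R, V)) :=
    Module.free_of_flat_of_isLocalRing
  obtain ⟨r, hr, hfree⟩ := Module.FinitePresentation.exists_free_localizedModule_powers P.primeCompl
    (LocalizedModule.mkLinearMap P.primeCompl Γ(R, V)) (Localization.AtPrime P)
  haveI := hfree.1
  obtain ⟨h1, h2⟩ := LocFree.free_finite_basicOpen hR hV r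
  have hy' : y ∈ S.basicOpen r := (WeakAssLib.mem_primeIdealOf hV hy r).2 hr
  let D := S.basicOpen r
  have hD : IsAffineOpen D := hV.basicOpen r
  haveI : Nontrivial Γ(S, D) := (hD.primeIdealOf ⟨y, hy'⟩).nontrivial
  have hDW : D ≤ W := (S.basicOpen_le r).trans hVW
  obtain ⟨m'⟩ := nonempty_ModelNN f hq hF hfl hD
  obtain ⟨e'⟩ := m'.hR p
  obtain ⟨hfl', -, hrk'⟩ := hgood D hD hDW m'
  have hn : Module.finrank Γ(S, D) Γ(R, D) = CohIII.fiberRank f F p y := by
    have hy'' : hD.fromSpec (hD.primeIdealOf ⟨y, hy'⟩) = y := hD.fromSpec_primeIdealOf ⟨y, hy'⟩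
    rw [← hy'', m'.hrk p, hrk']
    haveI : Module.Free Γ(S, D) (Hm m'.L (p : ℤ)) := Module.Free.of_equiv e'
    rw [Module.rankAtStalk_eq_finrank_of_free]
    exact e'.finrank_eq
  obtain ⟨i⟩ := exists_iso_free_finrank (M := R) hD
  exact ⟨D, hy', hDW, by rw [← hn]; exact ⟨i⟩⟩

include hq hF hfl in
/-- Where the fibre cohomology vanishes, so does the higher direct image. -/
theorem isZero_restrict_of_vanish_nn (p : ℕ) (U : S.Opens)
    (h : ∀ y ∈ U, Subsingleton (CohIII.fiberH f F y p)) :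
    IsZero (((Coh.Rpush f p).obj F).restrict U.ι) := by
  let R := (Coh.Rpush f p).obj F
  have hR : Coh.IsQCoh R := RPushQC.isQCoh_rpush f F hq p
  refine CohFinite.isZero_of_affine_cover (R.restrict U.ι) (Groth.Agent.QC.isQCoh_restrict _ hR)
    (fun V : U.toScheme.affineOpens => V.1) (fun V => V.2)
    (fun x => by
      obtain ⟨V, hV, hx, -⟩ := exists_isAffineOpen_mem_and_subset (X := U.toScheme) (x := x) (U := ⊤) trivial
      exact ⟨⟨V, hV⟩, hx⟩) fun V s => ?_
  have hW : IsAffineOpen (U.ι ''ᵁ V.1) := V.2.image_of_isOpenImmersion U.ι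
  obtain ⟨m⟩ := nonempty_ModelNN f hq hF hfl hW
  obtain ⟨e⟩ := m.hR p
  have hle : U.ι ''ᵁ V.1 ≤ U := by
    rintro _ ⟨x, -, rfl⟩
    exact x.2
  haveI : Subsingleton (CohIII.T m.L (p : ℤ) (ModuleCat.of Γ(S, U.ι ''ᵁ V.1) Γ(S, U.ι ''ᵁ V.1))) :=
    ModuleCat.subsingleton_of_isZero (m.isZero_T f p (fun y hy => h y (hle hy)) _)
  haveI : Subsingleton (Hm m.L (p : ℤ)) :=
    (HmEquivT m.L (flatX m.L m.hL) (p : ℤ)).injective.subsingleton
  haveI : Subsingleton Γ(R, U.ι ''ᵁ V.1) := e.injective.subsingleton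
  exact (R.restrictAppIso U.ι V.1).addCommGroupIsoToAddEquiv.injective (Subsingleton.elim _ _)

include hq hF hfl in
/-- Vanishing of the cohomology of a fibre spreads to a neighbourhood. -/
theorem exists_nhd_vanish_nn (p : ℕ) (y : S) (hy : Subsingleton (CohIII.fiberH f F y p)) :
    ∃ U : S.Opens, y ∈ U ∧ ∀ z ∈ U, Subsingleton (CohIII.fiberH f F z p) := by
  obtain ⟨V, hV, hyV, -⟩ := exists_isAffineOpen_mem_and_subset (X := S) (x := y) (U := ⊤) trivial
  obtain ⟨m⟩ := nonempty_ModelNN f hq hF hfl hV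
  let W : Set (PrimeSpectrum Γ(S, V)) := {x | CohIII.dRank m.L (p : ℤ) x < 1}
  have hW : IsOpen W := upperSemicontinuous_iff_isOpen_preimage.1
    (upperSemicontinuous_dRank m.L (finiteFlatX m.L m.hL) (finitePresentationX m.L m.hL) p) 1
  refine ⟨⟨hV.fromSpec '' W, hV.fromSpec.isOpenEmbedding.isOpenMap W hW⟩,
    ⟨hV.primeIdealOf ⟨y, hyV⟩, ?_, hV.fromSpec_primeIdealOf ⟨y, hyV⟩⟩, ?_⟩
  · have h0 : CohIII.dRank m.L (p : ℤ) (hV.primeIdealOf ⟨y, hyV⟩) = 0 :=
      (m.hsub p _).1 (by
        rw [show hV.fromSpec (hV.primeIdealOf ⟨y, hyV⟩) = y from hV.fromSpec_primeIdealOf ⟨y, hyV⟩]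
        exact hy)
    exact h0.le.trans_lt Nat.zero_lt_one
  · rintro _ ⟨x, hx, rfl⟩
    exact (m.hsub p x).2 (Nat.lt_one_iff.1 hx)

end Groth.Agent.W7Cech
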