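import Groth.Agent.W7Cech.TensorSec
import Groth.Agent.CohQC.Relative
import Groth.Agent.ProjCech.CompareNat
import Groth.Agent.ProjCech.HUNat
import Groth.Agent.CohFinite.Linear
import Mathlib.Algebra.Homology.ShortComplex.Linear
import Mathlib.Algebra.Homology.Linear
import Mathlib.LinearAlgebra.TensorProduct.Pi

/-!
The Čech complex of a module on a scheme over `Spec A` as a complex of `A`-modules: it computes
cohomology naturally and linearly, and commutes with `- ⊗_A M`.
-/

set_option autoImplicit false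
set_option backward.isDefEq.respectTransparency false
set_option backward.isDefEq.respectTransparency.types false
set_option linter.style.haveILetI false

universe u

open CategoryTheory CategoryTheory.Limits AlgebraicGeometry TopologicalSpace Opposite
open Groth.Agent.SiteCoh Groth.Agent.ProjCech
open Groth.Agent.QC (res resO res_res res_smul app_res)
open scoped TensorProduct

noncomputable section

namespace Groth.Agent.W7Cech

variable (A : Type u) [CommRing A] {X : Scheme.{u}} [X.Over (Spec (CommRingCat.of A))]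
  {ι : Type u} (U : ι → X.Opens)

/-- The presheaf of sections. -/
abbrev PSec (M : X.Modules) : (X.Opens)ᵒᵖ ⥤ AddCommGrpCat.{u} := res' (𝟭 X.Opens) (Coh.toAb M)

/-- The cochains. -/
abbrev CoX (M : X.Modules) (n : ℕ) : ModuleCat.{u} A :=
  ModuleCat.of A (∀ a : Fin (n + 1) → ι, ((secA A (tupleProd U a)).obj M : Type u))

/-- The differential. -/
def dL (M : X.Modules) (n : ℕ) : (CoX A U M n : Type u) →ₗ[A] (CoX A U M (n + 1) : Type u) where
  toFun x := cd U (PSec M) (n := n) x
  map_add' x y := funext fun a => by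
    show cd U (PSec M) (n := n) (fun b => ((x b : Γ(M, tupleProd U b)) + (y b : Γ(M, tupleProd U b)) : Γ(M, tupleProd U b))) a =
      cd U (PSec M) (n := n) x a + cd U (PSec M) (n := n) y a
    simp only [cd_sum, ← Finset.sum_add_distrib, ← smul_add]
    exact Finset.sum_congr rfl fun k _ => congrArg _ (map_add ((PSec M).map (tupleDrop U a k).op).hom _ _)
  map_smul' r x := funext fun a => by
    change ∑ k : Fin (n + 2), (-1 : ℤ) ^ (k : ℕ) • res M (leOfHom (tupleDrop U a k))
        (secRing A (tupleProd U (a ∘ k.succAbove)) r • (show Γ(M, tupleProd U (a ∘ k.succAbove)) from x (a ∘ k.succAbove))) =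
      secRing A (tupleProd U a) r • ∑ k : Fin (n + 2), (-1 : ℤ) ^ (k : ℕ) •
        res M (leOfHom (tupleDrop U a k)) (x (a ∘ k.succAbove) : Γ(M, tupleProd U (a ∘ k.succAbove)))
    rw [Finset.smul_sum]
    refine Finset.sum_congr rfl fun k _ => ?_
    rw [res_smul, resO_secRing, smul_comm]

lemma dL_apply (M : X.Modules) (n : ℕ) (x : (CoX A U M n : Type u)) :
    dL A U M n x = cd U (PSec M) (n := n) x := rfl

/-- The map on cochains. -/
def mapX {M N : X.Modules} (φ : M ⟶ N) (n : ℕ) : CoX A U M n ⟶ CoX A U N n :=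
  ModuleCat.ofHom (LinearMap.pi fun a => ((secA A (tupleProd U a)).map φ).hom.comp (LinearMap.proj a))

lemma mapX_apply {M N : X.Modules} (φ : M ⟶ N) (n : ℕ) (x : (CoX A U M n : Type u)) :
    (mapX A U φ n).hom x = cmap (resMap' (𝟭 X.Opens) ((SheafOfModules.toSheaf _).map φ)) x := rfl

/-- The Čech complex. -/
def CC : X.Modules ⥤ CochainComplex (ModuleCat.{u} A) ℕ where
  obj M := CochainComplex.of (CoX A U M) (fun n => ModuleCat.ofHom (dL A U M n)) fun n => by
    refine ModuleCat.hom_ext (LinearMap.ext fun x => ?_)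
    exact cd_cd (Y := U) (P := PSec M) (n := n) x
  map {M N} φ := CochainComplex.ofHom (mapX A U φ) fun n => by
    change mapX A U φ n ≫ CochainComplex.of.d (CoX A U N) (fun n => ModuleCat.ofHom (dL A U N n)) n (n + 1) =
      CochainComplex.of.d (CoX A U M) (fun n => ModuleCat.ofHom (dL A U M n)) n (n + 1) ≫ mapX A U φ (n + 1)
    rw [CochainComplex.of_d, CochainComplex.of_d]
    refine ModuleCat.hom_ext (LinearMap.ext fun x => ?_)
    exact (cmap_cd (resMap' (𝟭 X.Opens) ((SheafOfModules.toSheaf _).map φ)) (n := n) x).symm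
  map_id M := by
    ext n x : 3
    exact funext fun a => rfl
  map_comp φ ψ := by
    ext n x : 3
    exact funext fun a => rfl

lemma CC_d (M : X.Modules) (n : ℕ) :
    ((CC A U).obj M).d n (n + 1) = ModuleCat.ofHom (dL A U M n) :=
  CochainComplex.of_d (CoX A U M) (fun n => ModuleCat.ofHom (dL A U M n)) n

lemma CC_map_f {M N : X.Modules} (φ : M ⟶ N) (n : ℕ) :
    ((CC A U).map φ).f n = mapX A U φ n := rfl

/-- Comparison with the Čech complex of abelian groups. -/
def cmpIso (M : X.Modules) :
    ((forget₂ (ModuleCat.{u} A) AddCommGrpCat.{u}).mapHomologicalComplex _).obj ((CC A U).obj M) ≅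
      cechCx U (PSec M) :=
  HomologicalComplex.Hom.isoOfComponents
    (fun n => AddEquiv.toAddCommGrpIso (cochainEquiv U (PSec M) n).symm)
    fun i j hij => by
      obtain rfl : i + 1 = j := hij
      refine ConcreteCategory.hom_ext _ _ fun x => (cochainEquiv U (PSec M) (i + 1)).injective ?_
      refine (cochainEquiv_d U (PSec M) i _).trans ?_
      refine Eq.trans ?_ ((cochainEquiv U (PSec M) (i + 1)).apply_symm_apply _).symm
      change cd U (PSec M) (cochainEquiv U (PSec M) i ((cochainEquiv U (PSec M) i).symm x)) =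
        (((CC A U).obj M).d i (i + 1)).hom x
      rw [AddEquiv.apply_symm_apply, CC_d]
      rfl

lemma cmpIso_natural {M N : X.Modules} (φ : M ⟶ N) :
    ((forget₂ (ModuleCat.{u} A) AddCommGrpCat.{u}).mapHomologicalComplex _).map ((CC A U).map φ) ≫
        (cmpIso A U N).hom =
      (cmpIso A U M).hom ≫ cechMap (Y := U) (resMap' (𝟭 X.Opens) ((SheafOfModules.toSheaf _).map φ)) := by
  refine HomologicalComplex.hom_ext _ _ fun n => ConcreteCategory.hom_ext _ _ fun x =>
    (cochainEquiv U (PSec N) n).injective ?_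
  refine ((cochainEquiv U (PSec N) n).apply_symm_apply _).trans ?_
  refine Eq.symm ((cochainEquiv_map _ n _).trans ?_)
  exact congrArg (cmap _) ((cochainEquiv U (PSec M) n).apply_symm_apply x)

/-- The homology of the complex as an abelian group. -/
def forgetHomology (M : X.Modules) (p : ℕ) :
    (forget₂ (ModuleCat.{u} A) AddCommGrpCat.{u}).obj (((CC A U).obj M).homology p) ≅
      (cechCx U (PSec M)).homology p :=
  ((((CC A U).obj M).sc p).mapHomologyIso (forget₂ (ModuleCat.{u} A) AddCommGrpCat.{u})).symm ≪≫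
    HomologicalComplex.homologyMapIso (cmpIso A U M) p

lemma forgetHomology_natural {M N : X.Modules} (φ : M ⟶ N) (p : ℕ)
    (ψ : (CC A U).obj M ⟶ (CC A U).obj N) (hψ : ψ = (CC A U).map φ) :
    (forget₂ (ModuleCat.{u} A) AddCommGrpCat.{u}).map (HomologicalComplex.homologyMap ψ p) ≫
        (forgetHomology A U N p).hom =
      (forgetHomology A U M p).hom ≫
        HomologicalComplex.homologyMap
          (cechMap (Y := U) (resMap' (𝟭 X.Opens) ((SheafOfModules.toSheaf _).map φ))) p := by
  subst hψ
  have h1 := ShortComplex.mapHomologyIso_inv_naturality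
    ((HomologicalComplex.shortComplexFunctor (ModuleCat.{u} A) (ComplexShape.up ℕ) p).map ((CC A U).map φ))
    (forget₂ (ModuleCat.{u} A) AddCommGrpCat.{u})
  have h2 := congrArg (fun k => HomologicalComplex.homologyMap k p) (cmpIso_natural A U φ)
  simp only [HomologicalComplex.homologyMap_comp] at h2
  simp only [forgetHomology, Iso.trans_hom, Iso.symm_hom, HomologicalComplex.homologyMapIso_hom, Category.assoc]
  rw [← h2, ← Category.assoc]
  exact (congrArg (· ≫ _) h1).trans (Category.assoc _ _ _)

variable (hU : ∀ (n : ℕ) (a : Fin (n + 1) → ι), IsAffineOpen (tupleProd U a)) (hcov : iSup U = ⊤)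

include hU in
lemma acy_of_qcoh (M : X.Modules) (hM : Coh.IsQCoh M) : Acy (𝟭 X.Opens) U (Coh.toAb M) :=
  haveI : M.IsQuasicoherent := hM
  fun n a q => CohQC.hu_vanish_of_isAffineOpen M (hU n a) q

lemma smulAb_eq (M : X.Modules) (r : A) :
    cechMap (Y := U) (resMap' (𝟭 X.Opens) (Coh.smulAb M (Coh.toGlobal (X ↘ Spec (CommRingCat.of A)) r))) =
      (cmpIso A U M).inv ≫ ((forget₂ (ModuleCat.{u} A) AddCommGrpCat.{u}).mapHomologicalComplex _).map
        (r • 𝟙 ((CC A U).obj M)) ≫ (cmpIso A U M).hom := by
  rw [Iso.eq_inv_comp]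
  refine HomologicalComplex.hom_ext _ _ fun n => ConcreteCategory.hom_ext _ _ fun x =>
    (cochainEquiv U (PSec M) n).injective ?_
  refine (cochainEquiv_map _ n _).trans ?_
  refine Eq.symm (((cochainEquiv U (PSec M) n).apply_symm_apply _).trans ?_)
  refine Eq.trans ?_ (congrArg (cmap _) ((cochainEquiv U (PSec M) n).apply_symm_apply x)).symm
  rfl

include hU hcov in
/-- The Čech complex computes cohomology, linearly and naturally. -/
theorem exists_hhEquiv (p : ℕ) :
    ∃ e : ∀ M : X.Modules, Coh.IsQCoh M → ((((CC A U).obj M).homology p : Type u) ≃ₗ[A] Coh.HH X M p),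
      ∀ (M N : X.Modules) (hM : Coh.IsQCoh M) (hN : Coh.IsQCoh N) (φ : M ⟶ N)
        (x : (((CC A U).obj M).homology p : Type u)),
        e N hN ((HomologicalComplex.homologyMap ((CC A U).map φ) p).hom x) =
          Sheaf.H.map ((SheafOfModules.toSheaf _).map φ) p (e M hM x) := by
  obtain ⟨e, he⟩ := cech_equiv_natural (Y := U) (opensData U)
    (fun I hI m => haveI := hI; cechExact_sheaf_injective (Opens.grothendieckTopology X) I U m) p
  have hT : IsTerminal (iSup U) := hcov.symm ▸ isTerminalTop
  let f : ∀ M : X.Modules, (((CC A U).obj M).homology p : Type u) ≃+ (cechCx U (PSec M)).homology p :=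
    fun M => (forgetHomology A U M p).addCommGroupIsoToAddEquiv
  let g : ∀ (M : X.Modules), Coh.IsQCoh M → ((((CC A U).obj M).homology p : Type u) ≃+ Coh.HH X M p) :=
    fun M hM => ((f M).trans (e _ (acy_of_qcoh U hU M hM))).trans
      (huTerminalEquiv (Opens.grothendieckTopology X) hT (Coh.toAb M) p).symm
  have hg : ∀ (M N : X.Modules) (hM : Coh.IsQCoh M) (hN : Coh.IsQCoh N) (φ : Coh.toAb M ⟶ Coh.toAb N)
      (y : (cechCx U (PSec M)).homology p),
      (huTerminalEquiv (Opens.grothendieckTopology X) hT (Coh.toAb N) p).symm (e _ (acy_of_qcoh U hU N hN)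
        (HomologicalComplex.homologyMap (cechMap (Y := U) (resMap' (𝟭 X.Opens) φ)) p y)) =
      Sheaf.H.map φ p ((huTerminalEquiv (Opens.grothendieckTopology X) hT (Coh.toAb M) p).symm
        (e _ (acy_of_qcoh U hU M hM) y)) := fun M N hM hN φ y => by
    rw [AddEquiv.symm_apply_eq, huTerminalEquiv_natural, AddEquiv.apply_symm_apply, he]
  refine ⟨fun M hM => (g M hM).toLinearEquiv fun r x => ?_, fun M N hM hN φ x => ?_⟩
  · refine Eq.trans ?_ (hg M M hM hM (Coh.smulAb M (Coh.toGlobal (X ↘ Spec (CommRingCat.of A)) r)) (f M x))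
    refine congrArg (fun y => (huTerminalEquiv (Opens.grothendieckTopology X) hT (Coh.toAb M) p).symm
      (e _ (acy_of_qcoh U hU M hM) y)) ?_
    rw [smulAb_eq, HomologicalComplex.homologyMap_comp, HomologicalComplex.homologyMap_comp]
    have h1 := ShortComplex.mapHomologyIso_inv_naturality
      ((HomologicalComplex.shortComplexFunctor (ModuleCat.{u} A) (ComplexShape.up ℕ) p).map
        (r • 𝟙 ((CC A U).obj M)))
      (forget₂ (ModuleCat.{u} A) AddCommGrpCat.{u})
    have h2 : r • x = (HomologicalComplex.homologyMap (r • 𝟙 ((CC A U).obj M)) p).hom x := by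
      change r • x = (ShortComplex.homologyMap ((HomologicalComplex.shortComplexFunctor (ModuleCat.{u} A)
        (ComplexShape.up ℕ) p).map (r • 𝟙 ((CC A U).obj M)))).hom x
      rw [show (HomologicalComplex.shortComplexFunctor (ModuleCat.{u} A) (ComplexShape.up ℕ) p).map
        (r • 𝟙 ((CC A U).obj M)) = r • 𝟙 (((CC A U).obj M).sc p) from by ext <;> rfl,
        ShortComplex.homologyMap_smul, ShortComplex.homologyMap_id]
      rfl
    rw [h2]
    change (forgetHomology A U M p).hom ((forget₂ (ModuleCat.{u} A) AddCommGrpCat.{u}).map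
      (HomologicalComplex.homologyMap (r • 𝟙 ((CC A U).obj M)) p) x) =
      (HomologicalComplex.homologyMap (cmpIso A U M).inv p ≫ HomologicalComplex.homologyMap _ p ≫
        HomologicalComplex.homologyMap (cmpIso A U M).hom p) ((forgetHomology A U M p).hom x)
    rw [← ConcreteCategory.comp_apply, ← ConcreteCategory.comp_apply]
    congr 2
    simp only [forgetHomology, Iso.trans_hom, Iso.symm_hom, HomologicalComplex.homologyMapIso_hom, Category.assoc]
    rw [← HomologicalComplex.homologyMap_comp_assoc (cmpIso A U M).hom, Iso.hom_inv_id,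
      HomologicalComplex.homologyMap_id, Category.id_comp, ← Category.assoc, ← Category.assoc]
    exact congrArg (· ≫ _) h1
  · refine Eq.trans ?_ (hg M N hM hN ((SheafOfModules.toSheaf _).map φ) (f M x))
    refine congrArg (fun y => (huTerminalEquiv (Opens.grothendieckTopology X) hT (Coh.toAb N) p).symm
      (e _ (acy_of_qcoh U hU N hN) y)) ?_
    exact ConcreteCategory.congr_hom (forgetHomology_natural A U φ p _ rfl) x

section Tensor

variable (F : X.Modules)

/-- The comparison on cochains. -/
def thetaX (M : ModuleCat.{u} A) (n : ℕ) :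
    ((CoX A U F n : Type u) ⊗[A] M) →ₗ[A] (CoX A U ((CohIII.tensorAFunctor A F).obj M) n : Type u) :=
  LinearMap.pi fun a => pairing A (tupleProd U a) M ∘ₗ (LinearMap.proj a).rTensor M

lemma thetaX_tmul (M : ModuleCat.{u} A) (n : ℕ) (x : (CoX A U F n : Type u)) (m : M)
    (a : Fin (n + 1) → ι) :
    thetaX A U F M n (x ⊗ₜ[A] m) a = pairing A (tupleProd U a) M (x a ⊗ₜ[A] m) := rfl

lemma thetaX_d (M : ModuleCat.{u} A) (n : ℕ) :
    dL A U ((CohIII.tensorAFunctor A F).obj M) n ∘ₗ thetaX A U F M n =
      thetaX A U F M (n + 1) ∘ₗ (dL A U F n).rTensor M := by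
  refine TensorProduct.ext' fun x m => funext fun a => ?_
  rw [LinearMap.comp_apply, LinearMap.comp_apply, LinearMap.rTensor_tmul, thetaX_tmul, dL_apply, dL_apply]
  change ∑ k : Fin (n + 2), (-1 : ℤ) ^ (k : ℕ) • res _ (leOfHom (tupleDrop U a k))
      (pairing A (tupleProd U (a ∘ k.succAbove)) M (x (a ∘ k.succAbove) ⊗ₜ[A] m) :
        Γ((CohIII.tensorAFunctor A F).obj M, tupleProd U (a ∘ k.succAbove))) =
    pairing A (tupleProd U a) M ((show (secA A (tupleProd U a)).obj F from
      ∑ k : Fin (n + 2), (-1 : ℤ) ^ (k : ℕ) • res F (leOfHom (tupleDrop U a k))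
        (x (a ∘ k.succAbove) : Γ(F, tupleProd U (a ∘ k.succAbove)))) ⊗ₜ[A] m)
  let L : Γ(F, tupleProd U a) →+ Γ((CohIII.tensorAFunctor A F).obj M, tupleProd U a) :=
    AddMonoidHom.mk' (fun s => pairing A (tupleProd U a) M ((show (secA A (tupleProd U a)).obj F from s) ⊗ₜ[A] m))
      fun s t => (congrArg _ (TensorProduct.add_tmul _ _ _)).trans (map_add _ _ _)
  refine Eq.trans ?_ (map_sum L _ _).symm
  refine Finset.sum_congr rfl fun k _ => ?_
  refine Eq.trans ?_ (map_zsmul L _ _).symm
  congr 1
  refine Eq.trans ?_ (pairing_tmul A (tupleProd U a) M _ m).symm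
  refine Eq.trans (congrArg _ (pairing_tmul A (tupleProd U (a ∘ k.succAbove)) M _ m)) ?_
  refine (TMul.res_tm _ _ _).trans ?_
  exact congrArg (fun t => TMul.tm t _) (res_unitSec A _ M m)

/-- The Čech complex commutes with `- ⊗_A M`. -/
def thetaHom (M : ModuleCat.{u} A) :
    CohIII.tensorObj ((CC A U).obj F) M ⟶ (CC A U).obj ((CohIII.tensorAFunctor A F).obj M) where
  f n := ModuleCat.ofHom (X := (CoX A U F n : Type u) ⊗[A] M) (thetaX A U F M n)
  comm' i j hij := by
    obtain rfl : i + 1 = j := hij
    refine ModuleCat.hom_ext ?_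
    change (((CC A U).obj _).d i (i + 1)).hom ∘ₗ thetaX A U F M i =
      thetaX A U F M (i + 1) ∘ₗ (((CC A U).obj F).d i (i + 1)).hom.rTensor M
    rw [CC_d, CC_d]
    exact thetaX_d A U F M i

lemma thetaHom_natural {M N : ModuleCat.{u} A} (g : M ⟶ N) :
    thetaHom A U F M ≫ (CC A U).map ((CohIII.tensorAFunctor A F).map g) =
      CohIII.tensorMap ((CC A U).obj F) g ≫ thetaHom A U F N := by
  refine HomologicalComplex.hom_ext _ _ fun n => ModuleCat.hom_ext ?_
  refine TensorProduct.ext' fun x m => funext fun a => ?_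
  exact (LinearMap.congr_fun (pairing_natural A (tupleProd U a) g) (x a ⊗ₜ[A] m)).symm

variable [Finite ι]

include hU in
lemma isIso_thetaHom (hF : Coh.IsQCoh F) (M : ModuleCat.{u} A) : IsIso (thetaHom A U F M) := by
  classical
  haveI : ∀ n, IsIso ((thetaHom A U F M).f n) := fun n => by
    haveI := Fintype.ofFinite (Fin (n + 1) → ι)
    rw [ConcreteCategory.isIso_iff_bijective]
    change Function.Bijective (thetaX A U F M n)
    let e := TensorProduct.piLeft A (M : Type u)
      (fun a : Fin (n + 1) → ι => ((secA A (tupleProd U a)).obj F : Type u))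
    have h : thetaX A U F M n =
        (LinearMap.pi fun a => pairing A (tupleProd U a) M ∘ₗ LinearMap.proj a) ∘ₗ e.toLinearMap := by
      refine TensorProduct.ext' fun x m => funext fun a => ?_
      exact congrArg (pairing A (tupleProd U a) M) (show x a ⊗ₜ[A] m = e (x ⊗ₜ[A] m) a by simp [e])
    rw [h]
    exact (Function.Bijective.piMap fun a => pairing_bijective A _ (hU n a) hF M).comp e.bijective
  exact HomologicalComplex.Hom.isIso_of_components _

include hU hcov in
/-- The cohomology of `F ⊗_A M` from the Čech complex of `F`, naturally in `M`. -/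
theorem exists_TEquiv (hF : Coh.IsQCoh F) (p : ℕ) :
    ∃ e : ∀ M : ModuleCat.{u} A, ((CohIII.T ((CC A U).obj F) p M : Type u) ≃ₗ[A]
        Coh.HH X ((CohIII.tensorAFunctor A F).obj M) p),
      ∀ (M N : ModuleCat.{u} A) (g : M ⟶ N) (x : (CohIII.T ((CC A U).obj F) p M : Type u)),
        e N (((CohIII.TFun ((CC A U).obj F) p).map g).hom x) =
          Sheaf.H.map ((SheafOfModules.toSheaf _).map ((CohIII.tensorAFunctor A F).map g)) p (e M x) := by
  obtain ⟨e, he⟩ := exists_hhEquiv A U hU hcov p
  haveI := fun M => isIso_thetaHom A U hU F hF M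
  let t : ∀ M, (CohIII.T ((CC A U).obj F) p M : Type u) ≃ₗ[A]
      (((CC A U).obj ((CohIII.tensorAFunctor A F).obj M)).homology p : Type u) := fun M =>
    (HomologicalComplex.homologyMapIso (asIso (thetaHom A U F M)) p).toLinearEquiv
  refine ⟨fun M => (t M).trans (e _ (isQCoh_tensorAFunctor A F hF M)), fun M N g x => ?_⟩
  refine Eq.trans ?_ (he _ _ (isQCoh_tensorAFunctor A F hF M) (isQCoh_tensorAFunctor A F hF N)
    ((CohIII.tensorAFunctor A F).map g) (t M x))
  refine congrArg (e _ (isQCoh_tensorAFunctor A F hF N)) ?_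
  change (HomologicalComplex.homologyMap (thetaHom A U F N) p).hom
      ((HomologicalComplex.homologyMap (CohIII.tensorMap ((CC A U).obj F) g) p).hom x) =
    (HomologicalComplex.homologyMap ((CC A U).map ((CohIII.tensorAFunctor A F).map g)) p).hom
      ((HomologicalComplex.homologyMap (thetaHom A U F M) p).hom x)
  rw [← ModuleCat.comp_apply, ← ModuleCat.comp_apply, ← HomologicalComplex.homologyMap_comp,
    ← HomologicalComplex.homologyMap_comp, thetaHom_natural]

end Tensor

end Groth.Agent.W7Cech
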