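import Groth.Agent.W7Cech.TensorSec
import Groth.Prelude.Def_Formal

/-!
`F ⊗_A A/J` is the quotient `F/JF`, compatibly with the projections.
-/

set_option autoImplicit false
set_option backward.isDefEq.respectTransparency false
set_option backward.isDefEq.respectTransparency.types false
set_option linter.style.haveILetI false

universe u

open CategoryTheory CategoryTheory.Limits AlgebraicGeometry MonoidalCategory
open scoped TensorProduct

noncomputable section

namespace Groth.Agent.W7Cech

variable (A : Type u) [CommRing A] {X : Scheme.{u}} [X.Over (Spec (CommRingCat.of A))] (F : X.Modules)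

lemma secRing_eq_resTop (W : X.Opens) (a : A) :
    secRing A W a = Coh.resTop X (Opposite.op W) (Coh.toGlobal (X ↘ Spec (CommRingCat.of A)) a) := rfl

lemma lTensor_smul_id {P : Type u} [AddCommGroup P] [Module A P] (a : A) (t : P ⊗[A] A) :
    (a • LinearMap.id : A →ₗ[A] A).lTensor P t = a • t := by
  rw [LinearMap.lTensor_smul, LinearMap.lTensor_id, LinearMap.smul_apply, LinearMap.id_apply]

set_option maxHeartbeats 1000000 in
/-- Multiplication by a scalar on `A` induces multiplication on `F ⊗_A A`. -/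
lemma tensorA_map_smul (a : A) :
    (CohIII.tensorAFunctor A F).map (ModuleCat.ofHom (a • LinearMap.id : A →ₗ[A] A)) =
      Formal.smulMod A ((CohIII.tensorAFunctor A F).obj (ModuleCat.of A A)) a := by
  refine Scheme.Modules.hom_ext _ _ fun W => ?_
  ext z
  obtain ⟨t, rfl⟩ := (pairing_bijective_ring A W (F := F)).2 z
  have h := LinearMap.congr_fun
    (pairing_natural A W (F := F) (ModuleCat.ofHom (a • LinearMap.id : A →ₗ[A] A))) t
  refine h.symm.trans ?_
  refine (congrArg (pairing A W (F := F) (ModuleCat.of A A)) (lTensor_smul_id A a t)).trans ?_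
  exact LinearMap.map_smul _ a t

lemma smulMod_natural {M N : X.Modules} (φ : M ⟶ N) (a : A) :
    Formal.smulMod A M a ≫ φ = φ ≫ Formal.smulMod A N a := by
  refine Scheme.Modules.hom_ext _ _ fun W => ?_
  ext z
  exact Scheme.Modules.Hom.app_smul φ _ z

/-- An isomorphism `F ⊗_A A ≅ F`. -/
theorem nonempty_tensorA_self : Nonempty ((CohIII.tensorAFunctor A F).obj (ModuleCat.of A A) ≅ F) := by
  let π := X ↘ Spec (CommRingCat.of A)
  exact ⟨(DCoh.tensorRightMod F).mapIso ((Scheme.Modules.pullback π).mapIso tildeSelf ≪≫ DerPerf.pullUnitIso π) ≪≫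
    TMul.leftUnitIso F⟩

/-- The projection `F → F/JF` is the image of `A → A/J`. -/
theorem exists_iso_cokernel_smulFamily (J : Ideal A) :
    ∃ (i : (CohIII.tensorAFunctor A F).obj (ModuleCat.of A A) ≅ F)
      (θ : cokernel (Formal.smulFamily J F) ≅ (CohIII.tensorAFunctor A F).obj (ModuleCat.of A (A ⧸ J))),
      i.hom ≫ cokernel.π (Formal.smulFamily J F) ≫ θ.hom =
        (CohIII.tensorAFunctor A F).map (ModuleCat.ofHom J.mkQ) := by
  let G := CohIII.tensorAFunctor A F
  haveI := preservesColimits_tensorAFunctor A F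
  haveI : PreservesColimitsOfSize.{0, 0} G := preservesColimitsOfSize_shrink.{0, u, 0, u} G
  haveI : G.PreservesZeroMorphisms := inferInstance
  obtain ⟨i⟩ := nonempty_tensorA_self A F
  let R₁ := ModuleCat.of A A
  let μ : J → (R₁ ⟶ R₁) := fun a => ModuleCat.ofHom ((a : A) • LinearMap.id : A →ₗ[A] A)
  let cS : (∐ fun _ : J => R₁) ⟶ R₁ := Sigma.desc μ
  let mk : R₁ ⟶ ModuleCat.of A (A ⧸ J) := ModuleCat.ofHom J.mkQ
  have hμ : ∀ a, μ a ≫ mk = 0 := fun a => ModuleCat.hom_ext (LinearMap.ext fun x =>
    (Submodule.Quotient.mk_eq_zero J).2 (J.mul_mem_right x a.2))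
  have hw : cS ≫ mk = 0 := Sigma.hom_ext _ _ fun a => by
    rw [Sigma.ι_desc_assoc, hμ, comp_zero]
  have hker : J ≤ LinearMap.ker (cokernel.π cS).hom := fun a ha => by
    have h := congrArg (fun φ => (Sigma.ι (fun _ : J => R₁) ⟨a, ha⟩ ≫ φ).hom (1 : A)) (cokernel.condition cS)
    simp only [comp_zero, Sigma.ι_desc_assoc, cS] at h
    rw [LinearMap.mem_ker]
    exact (congrArg (cokernel.π cS).hom (mul_one a)).symm.trans h
  let q : cokernel cS ≅ ModuleCat.of A (A ⧸ J) :=
    { hom := cokernel.desc cS mk hw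
      inv := ModuleCat.ofHom (Submodule.liftQ J (cokernel.π cS).hom hker)
      hom_inv_id := by
        refine coequalizer.hom_ext (ModuleCat.hom_ext (LinearMap.ext fun x => ?_))
        rw [cokernel.π_desc_assoc, Category.comp_id]
        rfl
      inv_hom_id := by
        refine ModuleCat.hom_ext (Submodule.linearMap_qext _ (LinearMap.ext fun x => ?_))
        exact LinearMap.congr_fun (congrArg ModuleCat.Hom.hom (cokernel.π_desc cS mk hw)) x }
  let hc : IsColimit (CokernelCofork.ofπ mk hw) :=
    IsColimit.ofIsoColimit (cokernelIsCokernel cS) (Cofork.ext q (cokernel.π_desc cS mk hw))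
  let hG := CokernelCofork.mapIsColimit (CokernelCofork.ofπ mk hw) hc G
  let hcofan := isColimitCofanMkObjOfIsColimit G _ _ (coproductIsCoproduct fun _ : J => R₁)
  have hψ0 : G.map cS ≫ i.hom ≫ cokernel.π (Formal.smulFamily J F) = 0 := by
    refine Cofan.IsColimit.hom_ext hcofan _ _ fun a => ?_
    change G.map (Sigma.ι (fun _ : J => R₁) a) ≫ G.map cS ≫ _ = _
    rw [← Category.assoc, ← G.map_comp, Sigma.ι_desc,
      show G.map (μ a) = Formal.smulMod A (G.obj R₁) (a : A) from tensorA_map_smul A F (a : A),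
      ← Category.assoc, smulMod_natural, Category.assoc, comp_zero]
    have h : Formal.smulMod A F (a : A) ≫ cokernel.π (Formal.smulFamily J F) = 0 :=
      (congrArg (· ≫ cokernel.π (Formal.smulFamily J F))
        (Sigma.ι_desc (fun a : J => Formal.smulMod A F (a : A)) a).symm).trans
        ((Category.assoc _ _ _).trans
          ((congrArg (Sigma.ι (fun _ : J => F) a ≫ ·) (cokernel.condition (Formal.smulFamily J F))).trans comp_zero))
    rw [h, comp_zero]
  obtain ⟨ψ, hψ⟩ := CokernelCofork.IsColimit.desc' hG (i.hom ≫ cokernel.π (Formal.smulFamily J F)) hψ0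
  change G.map mk ≫ ψ = _ at hψ
  have hθ0 : Formal.smulFamily J F ≫ i.inv ≫ G.map mk = 0 := by
    refine Sigma.hom_ext _ _ fun a => ?_
    rw [Formal.smulFamily, Sigma.ι_desc_assoc, ← Category.assoc, smulMod_natural, Category.assoc,
      ← tensorA_map_smul, ← G.map_comp, comp_zero]
    rw [show ModuleCat.ofHom ((a : A) • LinearMap.id : A →ₗ[A] A) ≫ mk = 0 from hμ a, G.map_zero, comp_zero]
  haveI : Epi (G.map mk) := by
    haveI : Epi mk := (ModuleCat.epi_iff_surjective _).2 (Submodule.mkQ_surjective J)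
    infer_instance
  refine ⟨i, ⟨cokernel.desc _ (i.inv ≫ G.map mk) hθ0, ψ, ?_, ?_⟩, ?_⟩
  · refine coequalizer.hom_ext ?_
    rw [cokernel.π_desc_assoc, Category.assoc, hψ, Category.comp_id, Iso.inv_hom_id_assoc]
  · rw [← cancel_epi (G.map mk), reassoc_of% hψ, cokernel.π_desc, Category.comp_id, Iso.hom_inv_id_assoc]
  · rw [cokernel.π_desc, Iso.hom_inv_id_assoc]

end Groth.Agent.W7Cech
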