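import Groth.Agent.W7Cech.SnapModel
import Groth.Agent.W7Cech.TwistInv
import Groth.Agent.W7Cech.NNGrauert
import Groth.Agent.KFlat.PullTensor
import Groth.Agent.DerPerf.Local
import Groth.Agent.CohFinite.Serre
import Groth.Agent.DerPush.Basic

/-!
Euler characteristics of twists on the fibres of a proper flat family are locally constant.
-/

set_option autoImplicit false
set_option backward.isDefEq.respectTransparency false
set_option backward.isDefEq.respectTransparency.types false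
set_option linter.style.haveILetI false
set_option maxHeartbeats 1000000

universe u

open CategoryTheory CategoryTheory.Limits AlgebraicGeometry TopologicalSpace Groth.Agent.FlatCx

noncomputable section

namespace Groth.Agent.W7Cech

section Complex

variable {A : Type u} [CommRing A] (L : CochainComplex (ModuleCat.{u} A) ℤ)
  (hL : ∀ i, Module.Finite A (L.X i) ∧ Module.Free A (L.X i))

/-- `Σ_{i < N} (-1)^i d_i`, the Euler characteristic of the fibre of the complex at a prime. -/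
def chi (N : ℕ) (x : PrimeSpectrum A) : ℤ :=
  ∑ i ∈ Finset.range N, (-1 : ℤ) ^ i * CohIII.dRank L (i : ℤ) x

include hL in
lemma dRank_eq_zero_of_isZero {j : ℤ} (h : IsZero (L.X j)) (x : PrimeSpectrum A) :
    CohIII.dRank L j x = 0 := by
  haveI := (hL j).1
  haveI := (hL j).2
  haveI := ModuleCat.subsingleton_of_isZero h
  have := dRank_add L (up_prev j) (up_next j) x
  have h0 : Module.rankAtStalk (R := A) (L.X j) x = 0 := by
    rw [Module.rankAtStalk_eq_finrank_tensorProduct]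
    exact Module.finrank_zero_of_subsingleton
  omega

include hL in
lemma rank_d_add (j : ℤ) (x : PrimeSpectrum A) :
    CohIII.dRank L j x + fibreRk (L.d (j - 1) j).hom x + fibreRk (L.d j (j + 1)).hom x =
      Module.rankAtStalk (L.X j) x := by
  haveI := (hL j).1
  haveI := (hL j).2
  exact dRank_add L (up_prev j) (up_next j) x

include hL in
lemma chi_eq (N : ℕ) (x : PrimeSpectrum A) :
    chi L N x = (∑ i ∈ Finset.range N, (-1 : ℤ) ^ i * Module.rankAtStalk (L.X (i : ℤ)) x) -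
      fibreRk (L.d (-1) 0).hom x + (-1 : ℤ) ^ N * fibreRk (L.d ((N : ℤ) - 1) N).hom x := by
  induction N with
  | zero => simp [chi]
  | succ N ih =>
    have h := congrArg (Nat.cast : ℕ → ℤ) (rank_d_add L hL (N : ℤ) x)
    push_cast at h
    rw [chi, Finset.sum_range_succ, ← chi, ih, Finset.sum_range_succ, ← h,
      show ((N + 1 : ℕ) : ℤ) - 1 = (N : ℤ) by simp, show ((N + 1 : ℕ) : ℤ) = (N : ℤ) + 1 by simp, pow_succ]
    ring

include hL in
theorem isLocallyConstant_chi (b : ℤ) (hb : ∀ i, b < i → IsZero (L.X i))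
    (hneg : ∀ n : ℤ, n < 0 → ∀ M, IsZero (CohIII.T L n M)) (N : ℕ) (hN : b < N) :
    IsLocallyConstant (chi L N) := by
  haveI := fun i => (hL i).1
  haveI := fun i => (hL i).2
  haveI := finitePresentationX L hL
  rw [IsLocallyConstant.iff_eventually_eq]
  intro x
  have h0 : ∀ y, CohIII.dRank L (-1) y = 0 := fun y =>
    (isZero_T_iff_dRank L hL _ y).1 (hneg _ (by omega) _)
  have hr : ∀ y, fibreRk (L.d (-1 - 1) (-1)).hom y + fibreRk (L.d (-1) 0).hom y =
      Module.rankAtStalk (L.X (-1)) y := fun y => by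
    have := rank_d_add L hL (-1) y
    rw [h0, zero_add, show (-1 : ℤ) + 1 = 0 by omega] at this
    exact this
  have htop : ∀ y, fibreRk (L.d ((N : ℤ) - 1) N).hom y = 0 := fun y => by
    have h1 := dRank_eq_zero_of_isZero L hL (hb _ hN) y
    have h2 := rank_d_add L hL (N : ℤ) y
    have h3 : Module.rankAtStalk (R := A) (L.X (N : ℤ)) y = 0 := by
      haveI := ModuleCat.subsingleton_of_isZero (hb _ hN)
      rw [Module.rankAtStalk_eq_finrank_tensorProduct]
      exact Module.finrank_zero_of_subsingleton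
    omega
  have hrank : ∀ᶠ y in nhds x, ∀ i ∈ insert (-1 : ℤ) ((Finset.range N).image Nat.cast),
      Module.rankAtStalk (R := A) (L.X i) y = Module.rankAtStalk (L.X i) x :=
    (Finset.eventually_all _).2 fun i _ => (Module.isLocallyConstant_rankAtStalk (R := A) (M := L.X i)).eventually_eq x
  filter_upwards [hrank,
    (isOpen_le_fibreRk (L.d (-1 - 1) (-1)).hom (fibreRk (L.d (-1 - 1) (-1)).hom x)).mem_nhds (x := x)
      (le_refl (α := ℕ) _),
    (isOpen_le_fibreRk (L.d (-1) 0).hom (fibreRk (L.d (-1) 0).hom x)).mem_nhds (x := x) (le_refl (α := ℕ) _)]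
    with y hy h1 h2
  have e1 := hr x
  have e2 := hr y
  have e3 := hy (-1) (Finset.mem_insert_self _ _)
  change _ ≤ fibreRk (L.d (-1 - 1) (-1)).hom y at h1
  change _ ≤ fibreRk (L.d (-1) 0).hom y at h2
  have e4 : fibreRk (L.d (-1) 0).hom y = fibreRk (L.d (-1) 0).hom x := by omega
  rw [chi_eq L hL, chi_eq L hL, htop, htop, e4]
  simp only [Nat.cast_zero, mul_zero, add_zero]
  exact congrArg (· - _) (Finset.sum_congr rfl fun i hi =>
    congrArg (fun r : ℕ => (-1 : ℤ) ^ i * r)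
      (hy i (Finset.mem_insert_of_mem (Finset.mem_image_of_mem _ hi))))

/-- Complexes with the same functor in degree `p` have the same fibre ranks. -/
lemma dRank_eq_of_T_iso (L' : CochainComplex (ModuleCat.{u} A) ℤ) (p : ℤ) (x : PrimeSpectrum A)
    (e : CohIII.T L p (ModuleCat.of A x.asIdeal.ResidueField) ≅
      CohIII.T L' p (ModuleCat.of A x.asIdeal.ResidueField)) :
    CohIII.dRank L p x = CohIII.dRank L' p x := by
  let κ := x.asIdeal.ResidueField
  obtain ⟨i⟩ := nonempty_bcCx_T A L (B := κ) p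
  obtain ⟨i'⟩ := nonempty_bcCx_T A L' (B := κ) p
  let e₂ := (i ≪≫ e ≪≫ i'.symm).toLinearEquiv
  have hfrac : ∀ c : κ, ∃ a b : A, algebraMap A κ b ≠ 0 ∧ algebraMap A κ b * c = algebraMap A κ a := fun c => by
    obtain ⟨a, b, hb, rfl⟩ := IsFractionRing.div_surjective (A ⧸ x.asIdeal) c
    obtain ⟨a, rfl⟩ := Ideal.Quotient.mk_surjective a
    obtain ⟨b, rfl⟩ := Ideal.Quotient.mk_surjective b
    have hb' := IsFractionRing.to_map_ne_zero_of_mem_nonZeroDivisors (K := κ) hb
    exact ⟨a, b, hb', mul_div_cancel₀ _ hb'⟩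
  exact finrank_eq_of_linear (A := A) κ κ hfrac
    (RingEquiv.refl κ) (fun _ => rfl) _ _ e₂.toAddEquiv fun a v => e₂.map_smul a v

end Complex

lemma tensorPows_iso {X : Scheme.{u}} {F F' : X.Modules} (e : Nonempty (F ≅ F')) :
    ∀ {r : ℕ} {L L' : Fin r → X.Modules} (_ : ∀ i, Nonempty (L i ≅ L' i)) (n : Fin r → ℕ),
      Nonempty (Curv2.tensorPows F r L n ≅ Curv2.tensorPows F' r L' n)
  | 0, _, _, _, _ => e
  | r + 1, L, L', h, n => by
    obtain ⟨a⟩ := tensorPows_iso e (fun i => h i.castSucc) (fun i => n i.castSucc)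
    have hp : ∀ k, Nonempty (CohB1.tensorPow (L (Fin.last r)) k ≅ CohB1.tensorPow (L' (Fin.last r)) k) := by
      intro k
      induction k with
      | zero => exact ⟨Iso.refl _⟩
      | succ k ih => exact ⟨PicGrp.tensorModIso ih.some (h (Fin.last r)).some⟩
    exact ⟨PicGrp.tensorModIso a (hp _).some⟩

lemma nonempty_pullTensor {X Y : Scheme.{u}} (f : X ⟶ Y) (M N : Y.Modules) :
    Nonempty ((Scheme.Modules.pullback f).obj (CohB1.tensorMod M N) ≅
      CohB1.tensorMod ((Scheme.Modules.pullback f).obj M) ((Scheme.Modules.pullback f).obj N)) :=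
  ⟨(KFlat.pullTensorIso f M N).symm⟩

lemma pullback_tensorPows {X Y : Scheme.{u}} (f : X ⟶ Y) (F : Y.Modules) :
    ∀ {r : ℕ} (L : Fin r → Y.Modules) (n : Fin r → ℕ),
      Nonempty ((Scheme.Modules.pullback f).obj (Curv2.tensorPows F r L n) ≅
        Curv2.tensorPows ((Scheme.Modules.pullback f).obj F) r (fun i => (Scheme.Modules.pullback f).obj (L i)) n)
  | 0, _, _ => ⟨Iso.refl _⟩
  | r + 1, L, n => by
    obtain ⟨a⟩ := pullback_tensorPows f F (fun i => L i.castSucc) (fun i => n i.castSucc)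
    have hp : ∀ k, Nonempty ((Scheme.Modules.pullback f).obj (CohB1.tensorPow (L (Fin.last r)) k) ≅
        CohB1.tensorPow ((Scheme.Modules.pullback f).obj (L (Fin.last r))) k) := by
      intro k
      induction k with
      | zero => exact ⟨DerPerf.pullUnitIso f⟩
      | succ k ih =>
        obtain ⟨e⟩ := nonempty_pullTensor f (CohB1.tensorPow (L (Fin.last r)) k) (L (Fin.last r))
        exact ⟨e ≪≫ PicGrp.tensorModIso ih.some (Iso.refl _)⟩
    obtain ⟨e⟩ := nonempty_pullTensor f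
      (Curv2.tensorPows F r (fun i => L i.castSucc) (fun i => n i.castSucc))
      (CohB1.tensorPow (L (Fin.last r)) (n (Fin.last r)))
    exact ⟨e ≪≫ PicGrp.tensorModIso a (hp _).some⟩

/-- In a noetherian space a point has a neighbourhood on which every locally constant function is
constant. -/
lemma exists_nhd_locallyConstant {T : Type u} [TopologicalSpace T] [NoetherianSpace T] (x : T) :
    ∃ O : Set T, IsOpen O ∧ x ∈ O ∧
      ∀ {β : Type} (g : T → β), IsLocallyConstant g → ∀ y ∈ O, g y = g x := by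
  let bad := {C ∈ irreducibleComponents T | x ∉ C}
  have hfin : bad.Finite := (NoetherianSpace.finite_irreducibleComponents (α := T)).subset fun C h => h.1
  refine ⟨(⋃₀ bad)ᶜ, (Set.sUnion_eq_biUnion ▸ hfin.isClosed_biUnion fun C hC =>
    isClosed_of_mem_irreducibleComponents C hC.1).isOpen_compl, fun ⟨C, hC, hx⟩ => hC.2 hx, ?_⟩
  intro β g hg y hy
  obtain ⟨C, hC, hyC⟩ : ∃ C ∈ irreducibleComponents T, y ∈ C :=
    ⟨irreducibleComponent y, irreducibleComponent_mem_irreducibleComponents y, mem_irreducibleComponent⟩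
  have hxC : x ∈ C := by
    by_contra h
    exact hy ⟨C, ⟨hC, h⟩, hyC⟩
  exact hg.apply_eq_of_isPreconnected hC.1.isPreirreducible.isPreconnected hyC hxC

variable {X S : Scheme.{u}} (f : X ⟶ S) [IsProper f] [LocallyOfFinitePresentation f]

/-- The Euler characteristics of the twists on the fibres are locally constant, uniformly in the exponents. -/
theorem exists_nhd_euler_eq (F : X.Modules) (hF : CohB1.IsFP F) (hfl : FlatMod.IsFlatOver f F)
    {t : ℕ} (L : Fin t → X.Modules) (hL : ∀ i, PicF.IsInvertible (L i)) (s : S) :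
    ∃ U : S.Opens, s ∈ U ∧ ∀ s' ∈ U, ∀ n : Fin t → ℕ,
      (∑ᶠ p : ℕ, (-1 : ℤ) ^ p * CohIII.fiberRank f (Curv2.tensorPows F t L n) p s') =
        ∑ᶠ p : ℕ, (-1 : ℤ) ^ p * CohIII.fiberRank f (Curv2.tensorPows F t L n) p s := by
  have hq : Coh.IsQCoh F := haveI := hF; (inferInstance : F.IsQuasicoherent)
  obtain ⟨V, hV, hsV, -⟩ := exists_isAffineOpen_mem_and_subset (X := S) (x := s) (U := ⊤) trivial
  let A : Type u := Γ(S, V)
  let U₀ : X.Opens := f ⁻¹ᵁ V
  letI : U₀.toScheme.Over (Spec (CommRingCat.of A)) := ⟨(f ∣_ V) ≫ hV.isoSpec.hom⟩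
  let g : U₀.toScheme ⟶ Spec (CommRingCat.of A) := (f ∣_ V) ≫ hV.isoSpec.hom
  haveI : LocallyOfFinitePresentation (f ∣_ V) :=
    IsZariskiLocalAtTarget.restrict (P := @LocallyOfFinitePresentation) ‹_› V
  haveI : IsProper (f ∣_ V) := IsZariskiLocalAtTarget.restrict (P := @IsProper) ‹_› V
  haveI : LocallyOfFinitePresentation g := inferInstanceAs (LocallyOfFinitePresentation ((f ∣_ V) ≫ hV.isoSpec.hom))
  haveI : IsProper g := inferInstanceAs (IsProper ((f ∣_ V) ≫ hV.isoSpec.hom))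
  let F' := F.restrict U₀.ι
  haveI : Coh.IsQCoh F' := Groth.Agent.QC.isQCoh_restrict _ hq
  have hfl' : FlatMod.IsFlatOver g F' := fun x => by
    have hsq : IsPullback U₀.ι g f hV.fromSpec := by
      refine ((isPullback_morphismRestrict f V).flip).of_iso (Iso.refl _) (Iso.refl _) hV.isoSpec (Iso.refl _)
        ?_ ?_ ?_ ?_
      · simp [U₀]
      · simp [g, U₀]
      · simp
      · simp
    exact FlatLimMod.isFlatOverAt_of_iso _ ((Scheme.Modules.restrictFunctorIsoPullback U₀.ι).app F).symm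
      (FlatModBC.isFlatOverAt_baseChange hsq F x (hfl _))
  let L' : Fin t → U₀.toScheme.Modules := fun i => (Scheme.Modules.pullback U₀.ι).obj (L i)
  obtain ⟨A₀, hA₀, X₀, f₀, hf₀, q, F₀, L₀, sq, hF₀, hfl₀, ⟨iF⟩, hL₀, iL⟩ :=
    exists_model_invertible g F' (Groth.Agent.QC.isFP_restrict U₀.ι hF) hfl' L'
      fun i => PicLoc.isInvertible_pullback _ (hL i)
  haveI : IsNoetherianRing ↥A₀ := hA₀
  haveI : IsProper f₀ := hf₀
  letI : X₀.Over (Spec (CommRingCat.of ↥A₀)) := ⟨f₀⟩
  haveI : IsProper (X₀ ↘ Spec (CommRingCat.of ↥A₀)) := hf₀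
  let φ : ↥A₀ →+* A := algebraMap ↥A₀ A
  obtain ⟨O, hO, hxO, hconst⟩ := exists_nhd_locallyConstant
    (PrimeSpectrum.comap φ (hV.primeIdealOf ⟨s, hsV⟩))
  refine ⟨⟨hV.fromSpec '' (PrimeSpectrum.comap φ ⁻¹' O),
      hV.fromSpec.isOpenEmbedding.isOpenMap _ (hO.preimage (PrimeSpectrum.continuous_comap φ))⟩,
    ⟨hV.primeIdealOf ⟨s, hsV⟩, hxO, hV.fromSpec_primeIdealOf ⟨s, hsV⟩⟩, ?_⟩
  rintro _ ⟨x, hx, rfl⟩ n
  let G := Curv2.tensorPows F t L n
  obtain ⟨hGq, hGfp, hGfl⟩ : Coh.IsQCoh G ∧ CohB1.IsFP G ∧ FlatMod.IsFlatOver f G :=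
    tensorPows_induction (P := fun M => Coh.IsQCoh M ∧ CohB1.IsFP M ∧ FlatMod.IsFlatOver f M) ⟨hq, hF, hfl⟩
      (fun M N h hN => ⟨TMul.isQCoh_tensor hN (hF := h.1), isFP_tensor_invertible h.2.1 hN,
        isFlatOver_tensor_invertible f h.1 h.2.2 hN⟩) t L hL n
  let G₀ := Curv2.tensorPows F₀ t L₀ n
  obtain ⟨hG₀, hG₀fl⟩ : Coh.IsCoh G₀ ∧ FlatMod.IsFlatOver f₀ G₀ :=
    tensorPows_induction (P := fun M => Coh.IsCoh M ∧ FlatMod.IsFlatOver f₀ M) ⟨hF₀, hfl₀⟩
      (fun M N h hN => ⟨CohFinite.isCoh_tensor h.1 hN, isFlatOver_tensor_invertible f₀ h.1.1 h.2 hN⟩) t L₀ hL₀ n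
  haveI : Coh.IsQCoh (G.restrict U₀.ι) := Groth.Agent.QC.isQCoh_restrict _ hGq
  obtain ⟨e₁⟩ := pullback_tensorPows q F₀ L₀ n
  obtain ⟨e₂⟩ := pullback_tensorPows U₀.ι F L n
  obtain ⟨e₃⟩ := tensorPows_iso (F := (Scheme.Modules.pullback q).obj F₀)
    (F' := (Scheme.Modules.pullback U₀.ι).obj F) ⟨iF ≪≫ (Scheme.Modules.restrictFunctorIsoPullback U₀.ι).app F⟩
    (L := fun i => (Scheme.Modules.pullback q).obj (L₀ i)) (L' := L') iL n
  obtain ⟨C, b, hC, hCb, hCneg, hD, -, -, hp, -, -⟩ := exists_fibre_model_of_pair A (A₀ := ↥A₀) q sq G₀ hG₀ hG₀fl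
    (G.restrict U₀.ι) (e₁ ≪≫ e₃ ≪≫ e₂.symm ≪≫ ((Scheme.Modules.restrictFunctorIsoPullback U₀.ι).app G).symm)
  obtain ⟨m⟩ := nonempty_ModelNN f hGq hGfp hGfl hV
  haveI : CompactSpace U₀.toScheme := QuasiCompact.compactSpace_of_compactSpace g
  haveI : U₀.toScheme.IsSeparated := by
    constructor
    rw [← terminal.comp_from g]
    infer_instance
  obtain ⟨ι, hι, W, hW, hcov⟩ := exists_cover U₀.toScheme
  haveI := hι
  have key : ∀ (p : ℕ) (y : PrimeSpectrum A),
      CohIII.fiberRank f G p (hV.fromSpec y) = CohIII.dRank C (p : ℤ) (PrimeSpectrum.comap φ y) := by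
    intro p y
    rw [m.hrk p y, ← dRank_bcCx C (p : ℤ) y]
    obtain ⟨η⟩ := m.hT ι W hW hcov p
    obtain ⟨e, -⟩ := hp p
    obtain ⟨e', -⟩ := exists_TEquiv A W hW hcov (G.restrict U₀.ι) ‹_› p
    exact dRank_eq_of_T_iso m.L _ (p : ℤ) y
      (η.app _ ≪≫ ((e' _).trans (e _).symm).toModuleIso)
  let N : ℕ := b.toNat + 1
  have hsum : ∀ y : PrimeSpectrum A,
      (∑ᶠ p : ℕ, (-1 : ℤ) ^ p * CohIII.fiberRank f G p (hV.fromSpec y)) = chi C N (PrimeSpectrum.comap φ y) := by
    intro y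
    rw [finsum_eq_finsetSum_of_support_subset _ (s := Finset.range N) ?_]
    · exact Finset.sum_congr rfl fun p _ => by rw [key]
    · intro p hp
      rw [Finset.mem_coe, Finset.mem_range]
      by_contra hN
      refine hp ?_
      simp only
      rw [key, dRank_eq_zero_of_isZero C hC (hCb _ (by omega)), Nat.cast_zero, mul_zero]
  have := hconst _ (isLocallyConstant_chi C hC b hCb hCneg N (by omega)) _ hx
  rw [← hsum, ← hsum, hV.fromSpec_primeIdealOf ⟨s, hsV⟩] at this
  exact this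

end Groth.Agent.W7Cech
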