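import Groth.Prelude.Def_RDer
import Mathlib.Algebra.Homology.ShortComplex.ExactFunctor
import Mathlib.CategoryTheory.Abelian.Refinements

/-!
The comparison `H^q (Ψ K) → Ψ (H^q K)` for a complex with terms and homology acyclic for `Ψ`.
-/

set_option autoImplicit false
set_option backward.isDefEq.respectTransparency false
set_option linter.style.haveILetI false

universe v₂ v₃ u₂ u₃

open CategoryTheory CategoryTheory.Limits

noncomputable section

namespace Groth.Agent.W7Cech

variable {B : Type u₂} [Category.{v₂} B] [Abelian B] {C : Type u₃} [Category.{v₃} C] [Abelian C]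
  (Ψ : B ⥤ C) [Ψ.Additive] [PreservesFiniteLimits Ψ]

/-- A class of objects on which `Ψ` is exact. -/
structure AcycClass (P : B → Prop) : Prop where
  of_iso : ∀ {M N : B} (_ : M ≅ N), P M → P N
  right : ∀ {S : ShortComplex B}, S.ShortExact → P S.X₁ → P S.X₂ → P S.X₃
  middle : ∀ {S : ShortComplex B}, S.ShortExact → P S.X₁ → P S.X₃ → P S.X₂
  epi : ∀ {S : ShortComplex B}, S.ShortExact → P S.X₁ → Epi (Ψ.map S.g)

variable (K : CochainComplex B ℕ)

lemma iCycles_toCycles (n : ℕ) : K.iCycles n ≫ K.toCycles n (n + 1) = 0 := by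
  rw [← cancel_mono (K.iCycles (n + 1)), Category.assoc, HomologicalComplex.toCycles_i,
    HomologicalComplex.iCycles_d, zero_comp]

/-- The sequence of boundaries, cycles and homology. -/
abbrev seqBd (n : ℕ) : ShortComplex B :=
  ShortComplex.mk (cokernel.desc (K.iCycles n) (K.toCycles n (n + 1)) (iCycles_toCycles K n))
    (K.homologyπ (n + 1)) (by
      rw [← cancel_epi (cokernel.π (K.iCycles n)), cokernel.π_desc_assoc,
        HomologicalComplex.toCycles_comp_homologyπ, comp_zero])

lemma seqBd_shortExact (n : ℕ) : (seqBd K n).ShortExact where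
  mono_f := by
    have h := ShortComplex.exact_of_f_is_kernel
      (ShortComplex.mk (K.iCycles n) (K.toCycles n (n + 1)) (iCycles_toCycles K n))
      (KernelFork.IsLimit.ofι' _ _ fun {W} k hk => ⟨K.liftCycles k (n + 1) (by simp) (by
          rw [← HomologicalComplex.toCycles_i, ← Category.assoc]
          exact (congr_arg (· ≫ K.iCycles (n + 1)) hk).trans zero_comp),
        K.liftCycles_i _ _ _ _⟩)
    exact h.mono_cokernelDesc
  exact := by
    refine ShortComplex.exact_of_g_is_cokernel _ (CokernelCofork.IsColimit.ofπ' _ _ fun {W} k hk => ?_)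
    have hk' : K.toCycles n (n + 1) ≫ k = 0 := by
      rw [show K.toCycles n (n + 1) = cokernel.π (K.iCycles n) ≫ (seqBd K n).f from (cokernel.π_desc _ _ _).symm,
        Category.assoc]
      exact (congr_arg (cokernel.π (K.iCycles n) ≫ ·) hk).trans comp_zero
    exact ⟨(K.homologyIsCokernel n (n + 1) (by simp)).desc (CokernelCofork.ofπ k hk'),
      (K.homologyIsCokernel n (n + 1) (by simp)).fac _ WalkingParallelPair.one⟩
  epi_g := inferInstanceAs (Epi (K.homologyπ (n + 1)))

lemma seqCyc_shortExact (n : ℕ) :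
    (ShortComplex.mk (K.iCycles n) (cokernel.π (K.iCycles n)) (cokernel.condition _)).ShortExact :=
  { exact := ShortComplex.exact_of_g_is_cokernel _ (cokernelIsCokernel _) }

variable {Ψ} {P : B → Prop}

lemma AcycClass.cycles (h : AcycClass Ψ P) (hX : ∀ n, P (K.X n)) (hH : ∀ n, P (K.homology n)) :
    ∀ n, P (K.cycles n)
  | 0 =>
    haveI := K.isIso_homologyπ _ 0 rfl (K.shape _ _ (by simp))
    h.of_iso (asIso (K.homologyπ 0)).symm (hH 0)
  | n + 1 => h.middle (seqBd_shortExact K n)
      (h.right (seqCyc_shortExact K n) (AcycClass.cycles h hX hH n) (hX n)) (hH (n + 1))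

lemma isIso_cyclesComparison (i : ℕ) : IsIso (RDer.cyclesComparison Ψ K i) :=
  ⟨(((Ψ.mapHomologicalComplex _).obj K).cyclesIsKernel i ((ComplexShape.up ℕ).next i) rfl).lift
      (KernelFork.ofι (Ψ.map (K.iCycles i)) (by
        change Ψ.map (K.iCycles i) ≫ Ψ.map (K.d i _) = 0
        rw [← Ψ.map_comp, HomologicalComplex.iCycles_d, Ψ.map_zero])),
    by
      rw [← cancel_mono (((Ψ.mapHomologicalComplex _).obj K).iCycles i), Category.assoc, Category.id_comp]
      exact (congr_arg (RDer.cyclesComparison Ψ K i ≫ ·)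
        ((((Ψ.mapHomologicalComplex _).obj K).cyclesIsKernel i _ rfl).fac _ WalkingParallelPair.zero)).trans
          (RDer.cyclesComparison_i Ψ K i),
    by
      haveI : Mono (Ψ.map (K.iCycles i)) := inferInstance
      rw [← cancel_mono (Ψ.map (K.iCycles i)), Category.assoc, Category.id_comp, RDer.cyclesComparison_i]
      exact (((Ψ.mapHomologicalComplex _).obj K).cyclesIsKernel i _ rfl).fac _ WalkingParallelPair.zero⟩

/-- Terms and homology acyclic: `Ψ` commutes with homology. -/
theorem AcycClass.isIso_homologyComparison (h : AcycClass Ψ P) (hX : ∀ n, P (K.X n))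
    (hH : ∀ n, P (K.homology n)) (q : ℕ) : IsIso (RDer.homologyComparison Ψ K q) := by
  haveI := isIso_cyclesComparison (Ψ := Ψ) K q
  let L := (Ψ.mapHomologicalComplex _).obj K
  rcases q with _ | n
  · haveI := K.isIso_homologyπ _ 0 rfl (K.shape _ _ (by simp))
    haveI := L.isIso_homologyπ _ 0 rfl (L.shape _ _ (by simp))
    have : RDer.homologyComparison Ψ K 0 =
        inv (L.homologyπ 0) ≫ RDer.cyclesComparison Ψ K 0 ≫ Ψ.map (K.homologyπ 0) := by
      rw [IsIso.eq_inv_comp, RDer.homologyπ_homologyComparison]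
    rw [this]
    infer_instance
  · let S := seqBd K n
    have hS := seqBd_shortExact K n
    have hbd : P S.X₁ := h.right (seqCyc_shortExact K n) (h.cycles K hX hH n) (hX n)
    haveI : Epi (Ψ.map S.g) := h.epi hS hbd
    haveI : Epi (Ψ.map (cokernel.π (K.iCycles n))) := h.epi (seqCyc_shortExact K n) (h.cycles K hX hH n)
    haveI := hS.mono_f
    have hex : (S.map Ψ).Exact := hS.exact.map_of_mono_of_preservesKernel Ψ ‹_› inferInstance
    haveI : Mono (RDer.homologyComparison Ψ K (n + 1)) := by
      rw [Preadditive.mono_iff_cancel_zero]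
      intro W a ha
      obtain ⟨W', π, hπ, z, hz⟩ := surjective_up_to_refinements_of_epi (L.homologyπ (n + 1)) a
      have h1 : (z ≫ RDer.cyclesComparison Ψ K (n + 1)) ≫ Ψ.map (K.homologyπ (n + 1)) = 0 := by
        rw [Category.assoc, ← RDer.homologyπ_homologyComparison, ← Category.assoc, ← hz, Category.assoc, ha, comp_zero]
      obtain ⟨W₁, π₁, hπ₁, b, hb⟩ := hex.exact_up_to_refinements (z ≫ RDer.cyclesComparison Ψ K (n + 1)) h1
      obtain ⟨W₂, π₂, hπ₂, c, hc⟩ := surjective_up_to_refinements_of_epi (Ψ.map (cokernel.π (K.iCycles n))) b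
      have h2 : (π₂ ≫ π₁ ≫ z) = c ≫ L.toCycles n (n + 1) := by
        rw [← cancel_mono (RDer.cyclesComparison Ψ K (n + 1)), Category.assoc, Category.assoc, Category.assoc, hb,
          reassoc_of% hc]
        have ht := RDer.toCycles_cyclesComparison Ψ K (n + 1)
        rw [show (ComplexShape.up ℕ).prev (n + 1) = n from CochainComplex.prev_nat_succ n] at ht
        rw [ht]
        change c ≫ Ψ.map (cokernel.π (K.iCycles n)) ≫ Ψ.map _ = c ≫ _
        rw [← Ψ.map_comp, cokernel.π_desc]
      haveI := hπ; haveI := hπ₁; haveI := hπ₂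
      rw [← cancel_epi (π₂ ≫ π₁ ≫ π), comp_zero, Category.assoc, Category.assoc, hz, ← Category.assoc π₁,
        ← Category.assoc π₂, h2, Category.assoc, HomologicalComplex.toCycles_comp_homologyπ, comp_zero]
    haveI : Epi (RDer.homologyComparison Ψ K (n + 1)) := by
      haveI : Epi (Ψ.map (K.homologyπ (n + 1))) := ‹Epi (Ψ.map S.g)›
      haveI : Epi (L.homologyπ (n + 1) ≫ RDer.homologyComparison Ψ K (n + 1)) := by
        rw [RDer.homologyπ_homologyComparison]
        infer_instance
      exact epi_of_epi (L.homologyπ (n + 1)) _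
    exact isIso_of_mono_of_epi _

end Groth.Agent.W7Cech
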