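import Groth.Agent.W7Cech.FibreRank
import Groth.Agent.W7Cech.Grauert

/-!
Cohomology of the fibres over an affine base, from the complex computing `H^p(X, F ⊗_A -)`.
-/

set_option autoImplicit false
set_option backward.isDefEq.respectTransparency false
set_option backward.isDefEq.respectTransparency.types false
set_option linter.style.haveILetI false

universe u

open CategoryTheory CategoryTheory.Limits AlgebraicGeometry TopologicalSpace MonoidalCategory
open Groth.Agent.SiteCoh
open scoped TensorProduct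

noncomputable section

namespace Groth.Agent.W7Cech

variable (A : Type u) [CommRing A] {X : Scheme.{u}} [X.Over (Spec (CommRingCat.of A))]

/-- The point of `Spec A` as a map to its residue field. -/
def resMap (y : Spec (CommRingCat.of A)) : CommRingCat.of A ⟶ (Spec (CommRingCat.of A)).residueField y :=
  (Scheme.ΓSpecIso (CommRingCat.of A)).inv ≫ (Spec (CommRingCat.of A)).evaluation ⊤ y trivial

lemma SpecMap_resMap (y : Spec (CommRingCat.of A)) :
    Spec.map (resMap A y) = (Spec (CommRingCat.of A)).fromSpecResidueField y := by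
  refine Eq.trans ?_ (SpecMap_evaluation_fromSpec (isAffineOpen_top (Spec (CommRingCat.of A))) y trivial)
  rw [resMap, Spec.map_comp, IsAffineOpen.fromSpec_top, Scheme.isoSpec_Spec_inv]

lemma resMap_ker (y : Spec (CommRingCat.of A)) : RingHom.ker (resMap A y).hom = (y : PrimeSpectrum A).asIdeal := by
  have h : Spec.map (resMap A y) (IsLocalRing.closedPoint ((Spec (CommRingCat.of A)).residueField y)) = y := by
    rw [SpecMap_resMap]
    exact Scheme.fromSpecResidueField_apply _ _
  conv_rhs => rw [← h]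
  change _ = (IsLocalRing.maximalIdeal ((Spec (CommRingCat.of A)).residueField y)).comap (resMap A y).hom
  rw [IsLocalRing.maximalIdeal_eq_bot]
  rfl

lemma resMap_frac (y : Spec (CommRingCat.of A)) (b : (Spec (CommRingCat.of A)).residueField y) :
    ∃ a s : A, resMap A y s ≠ 0 ∧ resMap A y s * b = resMap A y a := by
  obtain ⟨a, s, hs, hb⟩ := evaluation_frac (isAffineOpen_top (Spec (CommRingCat.of A))) y trivial b
  have hinv : ∀ c, (Scheme.ΓSpecIso (CommRingCat.of A)).inv ((Scheme.ΓSpecIso (CommRingCat.of A)).hom c) = c :=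
    fun c => ConcreteCategory.congr_hom (Scheme.ΓSpecIso (CommRingCat.of A)).hom_inv_id c
  refine ⟨(Scheme.ΓSpecIso (CommRingCat.of A)).hom a, (Scheme.ΓSpecIso (CommRingCat.of A)).hom s, ?_, ?_⟩
  · change (Spec (CommRingCat.of A)).evaluation ⊤ y trivial ((Scheme.ΓSpecIso (CommRingCat.of A)).inv
      ((Scheme.ΓSpecIso (CommRingCat.of A)).hom s)) ≠ 0
    rw [hinv]
    exact hs
  · change (Spec (CommRingCat.of A)).evaluation ⊤ y trivial ((Scheme.ΓSpecIso (CommRingCat.of A)).inv
        ((Scheme.ΓSpecIso (CommRingCat.of A)).hom s)) * b =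
      (Spec (CommRingCat.of A)).evaluation ⊤ y trivial ((Scheme.ΓSpecIso (CommRingCat.of A)).inv
        ((Scheme.ΓSpecIso (CommRingCat.of A)).hom a))
    rw [hinv, hinv]
    exact hb

variable [IsNoetherianRing A] [IsProper (X ↘ Spec (CommRingCat.of A))]

/-- One complex computes `H^p(F ⊗_A -)` and the fibres. -/
theorem exists_fibre_model (F : X.Modules) (hF : Coh.IsCoh F)
    (hfl : FlatMod.IsFlatOver (X ↘ Spec (CommRingCat.of A)) F) :
    ∃ (L : CochainComplex (ModuleCat.{u} A) ℤ) (b : ℤ),
      (∀ i, Module.Finite A (L.X i) ∧ Module.Free A (L.X i)) ∧ (∀ i, b < i → IsZero (L.X i)) ∧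
      (∀ (n : ℤ), n < 0 → ∀ M : ModuleCat.{u} A, IsZero (CohIII.T L n M)) ∧
      (∀ p : ℕ, ∃ e : ∀ M : ModuleCat.{u} A, ((CohIII.T L (p : ℤ) M : Type u) ≃ₗ[A]
          Coh.HH X ((CohIII.tensorAFunctor A F).obj M) p),
        ∀ (M N : ModuleCat.{u} A) (g : M ⟶ N) (x : (CohIII.T L (p : ℤ) M : Type u)),
          e N (((CohIII.TFun L (p : ℤ)).map g).hom x) =
            Sheaf.H.map ((SheafOfModules.toSheaf _).map ((CohIII.tensorAFunctor A F).map g)) p (e M x)) ∧
      (∀ (p : ℕ) (y : Spec (CommRingCat.of A)),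
        CohIII.fiberRank (X ↘ Spec (CommRingCat.of A)) F p y = CohIII.dRank L (p : ℤ) y) ∧
      (∀ (p : ℕ) (y : Spec (CommRingCat.of A)),
        Subsingleton (CohIII.fiberH (X ↘ Spec (CommRingCat.of A)) F y p) ↔ CohIII.dRank L (p : ℤ) y = 0) := by
  let f := X ↘ Spec (CommRingCat.of A)
  haveI : CompactSpace X := QuasiCompact.compactSpace_of_compactSpace f
  haveI : X.IsSeparated := by
    constructor
    rw [← terminal.comp_from (X ↘ Spec (CommRingCat.of A))]
    infer_instance
  obtain ⟨ι, hι, W, hW, hcov⟩ := exists_cover X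
  haveI := hι
  obtain ⟨L, b, hLf, hLb, hneg, hL⟩ := exists_approx A F hF hfl
  refine ⟨L, b, hLf, hLb, hneg, hL, ?_⟩
  have key : ∀ (p : ℕ) (y : Spec (CommRingCat.of A)),
      CohIII.fiberRank f F p y = CohIII.dRank L (p : ℤ) y ∧
        (Subsingleton (CohIII.fiberH f F y p) ↔ CohIII.dRank L (p : ℤ) y = 0) := by
    intro p y
    let k := (Spec (CommRingCat.of A)).residueField y
    letI : Algebra A k := (resMap A y).hom.toAlgebra
    letI : (f.fiber y).Over (Spec (CommRingCat.of ↥k)) := ⟨f.fiberToSpecResidueField y⟩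
    have sq : IsPullback (f.fiberι y) (f.fiberToSpecResidueField y) f (Spec.map (resMap A y)) := by
      rw [SpecMap_resMap]
      exact IsPullback.of_hasPullback f _
    obtain ⟨i₁⟩ := nonempty_hh_bc_lin A k W hW hcov (f.fiberι y) sq F hF.1 p
    obtain ⟨e, -⟩ := hL p
    obtain ⟨e', -⟩ := exists_TEquiv A W hW hcov F hF.1 p
    let ei : (_ ≅ CohIII.T L (p : ℤ) (ModuleCat.of A k)) :=
      i₁ ≪≫ ((e (ModuleCat.of A k)).trans (e' (ModuleCat.of A k)).symm).toModuleIso.symm
    obtain ⟨σ, hσ⟩ := exists_residueField_equiv (k := k) (resMap_frac A y) y (resMap_ker A y)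
    let κ := (y : PrimeSpectrum A).asIdeal.ResidueField
    let σA : (ModuleCat.of A k) ≅ ModuleCat.of A κ :=
      (σ.toAddEquiv.toLinearEquiv fun a b => by
        change σ (a • b) = a • σ b
        rw [Algebra.smul_def, map_mul, hσ, ← Algebra.smul_def]).toModuleIso
    refine ⟨?_, ?_⟩
    · obtain ⟨i⟩ := nonempty_bcCx_T A L (B := κ) (p : ℤ)
      let e₂ := (ei ≪≫ (CohIII.TFun L (p : ℤ)).mapIso σA ≪≫ i.symm).toLinearEquiv
      exact finrank_eq_of_linear (A := A) k κ (resMap_frac A y) σ hσ _ _ e₂.toAddEquiv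
        fun a v => e₂.map_smul a v
    · rw [← isZero_T_iff_dRank L hLf]
      refine (ei.toLinearEquiv.toEquiv.subsingleton_congr).trans ⟨fun h => ?_, fun h => ?_⟩
      · haveI : Subsingleton ((CohIII.TFun L (p : ℤ)).obj (ModuleCat.of A k)) := h
        exact (ModuleCat.isZero_of_subsingleton _).of_iso ((CohIII.TFun L (p : ℤ)).mapIso σA.symm)
      · exact ModuleCat.subsingleton_of_isZero (h.of_iso ((CohIII.TFun L (p : ℤ)).mapIso σA))
  exact ⟨fun p y => (key p y).1, fun p y => (key p y).2⟩

end Groth.Agent.W7Cech
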