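import Groth.Agent.W7Cech.BCSec
import Groth.Agent.CechX.BasicOpens
import Mathlib.RingTheory.TensorProduct.IsBaseChangePi
import Mathlib.LinearAlgebra.TensorProduct.Tower

/-!
The Čech complex of a base changed module is the base change of the Čech complex.
-/

set_option autoImplicit false
set_option backward.isDefEq.respectTransparency false
set_option backward.isDefEq.respectTransparency.types false
set_option linter.style.haveILetI false

universe u

open CategoryTheory CategoryTheory.Limits AlgebraicGeometry TopologicalSpace Opposite MonoidalCategory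
open Groth.Agent.SiteCoh
open Groth.Agent.QC (res resO res_res res_smul res_self app_res)
open scoped TensorProduct

noncomputable section

namespace Groth.Agent.W7Cech

variable (A B : Type u) [CommRing A] [CommRing B] [Algebra A B] {X X' : Scheme.{u}}
  [X.Over (Spec (CommRingCat.of A))] [X'.Over (Spec (CommRingCat.of B))] (g : X' ⟶ X)
  (sq : IsPullback g (X' ↘ Spec (CommRingCat.of B)) (X ↘ Spec (CommRingCat.of A))
    (Spec.map (CommRingCat.ofHom (algebraMap A B))))
  {ι : Type u} (U : ι → X.Opens)

/-- The pulled back family. -/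
abbrev pre : ι → X'.Opens := fun i => g ⁻¹ᵁ U i

lemma tupleProd_pre {n : ℕ} (a : Fin (n + 1) → ι) :
    tupleProd (pre g U) a = g ⁻¹ᵁ tupleProd U a :=
  (CechX.preimage_tupleProd g.base U a).symm

include sq in
lemma isAffineOpen_pre (hU : ∀ (n : ℕ) (a : Fin (n + 1) → ι), IsAffineOpen (tupleProd U a))
    (n : ℕ) (a : Fin (n + 1) → ι) : IsAffineOpen (tupleProd (pre g U) a) := by
  haveI := isAffineHom_bc A B g sq
  rw [tupleProd_pre]
  exact (hU n a).preimage g

lemma iSup_pre (hcov : iSup U = ⊤) : iSup (pre g U) = ⊤ := by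
  change (⨆ i, g ⁻¹ᵁ U i) = ⊤
  rw [← Scheme.Hom.preimage_iSup, hcov]
  rfl

variable (F : X.Modules)

set_option quotPrecheck false in
local notation "F'" => (Scheme.Modules.pullback g).obj F

/-- The restriction of scalars of the cochains of the pullback. -/
abbrev CoXres (n : ℕ) : ModuleCat.{u} A :=
  (ModuleCat.restrictScalars (algebraMap A B)).obj (CoX B (pre g U) F' n)

include sq in
lemma psi_smul {n : ℕ} (a : Fin (n + 1) → ι) (r : A) (s : Γ(F, tupleProd U a)) :
    res F' (tupleProd_pre g U a).le (OmegaSh.pullSect g F (tupleProd U a) (secRing A (tupleProd U a) r • s)) =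
      secRing B (tupleProd (pre g U) a) (algebraMap A B r) •
        res F' (tupleProd_pre g U a).le (OmegaSh.pullSect g F (tupleProd U a) s) := by
  rw [OmegaSh.pullSect_smul, secRing_comm A B g sq, res_smul, resO_secRing]

/-- Pulling back cochains. -/
def psiX (n : ℕ) (sq' : IsPullback g (X' ↘ Spec (CommRingCat.of B)) (X ↘ Spec (CommRingCat.of A))
    (Spec.map (CommRingCat.ofHom (algebraMap A B)))) :
    (CoX A U F n : Type u) →ₗ[A] (CoXres A B g U F n : Type u) where
  toFun x a := (res F' (tupleProd_pre g U a).le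
    (OmegaSh.pullSect g F (tupleProd U a) (show Γ(F, tupleProd U a) from x a)) :)
  map_add' x y := funext fun a => by
    change res F' _ (OmegaSh.pullSect g F (tupleProd U a)
      ((show Γ(F, tupleProd U a) from x a) + (show Γ(F, tupleProd U a) from y a))) = _
    rw [map_add, map_add]
    rfl
  map_smul' r x := funext fun a => psi_smul A B g sq' U F a r (show Γ(F, tupleProd U a) from x a)

include sq in
lemma psiX_d (n : ℕ) (x : (CoX A U F n : Type u)) :
    dL B (pre g U) F' n (psiX A B g U F n sq x) = psiX A B g U F (n + 1) sq (dL A U F n x) := by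
  funext a
  change ∑ k : Fin (n + 2), (-1 : ℤ) ^ (k : ℕ) • res F' (leOfHom (tupleDrop (pre g U) a k))
      (res F' (tupleProd_pre g U (a ∘ k.succAbove)).le (OmegaSh.pullSect g F (tupleProd U (a ∘ k.succAbove))
        (show Γ(F, tupleProd U (a ∘ k.succAbove)) from x (a ∘ k.succAbove)))) =
    res F' (tupleProd_pre g U a).le (OmegaSh.pullSect g F (tupleProd U a)
      (∑ k : Fin (n + 2), (-1 : ℤ) ^ (k : ℕ) • res F (leOfHom (tupleDrop U a k))
        (show Γ(F, tupleProd U (a ∘ k.succAbove)) from x (a ∘ k.succAbove))))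
  rw [map_sum, map_sum]
  refine Finset.sum_congr rfl fun k _ => ?_
  rw [map_zsmul, map_zsmul, res_res, OmegaSh.pullSect_map g F (leOfHom (tupleDrop U a k))]
  refine congrArg _ (Eq.symm ?_)
  exact res_res F' _ _ _

include sq in
/-- The cochains of the pullback are the base change of the cochains. -/
theorem isBaseChange_psiX [Finite ι] (hU : ∀ (n : ℕ) (a : Fin (n + 1) → ι), IsAffineOpen (tupleProd U a))
    (hF : Coh.IsQCoh F) (n : ℕ) :
    letI := Module.compHom (CoX B (pre g U) F' n : Type u) (algebraMap A B)
    haveI : IsScalarTower A B (CoX B (pre g U) F' n : Type u) :=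
      IsScalarTower.of_algebraMap_smul fun _ _ => rfl
    IsBaseChange B (show (CoX A U F n : Type u) →ₗ[A] (CoX B (pre g U) F' n : Type u) from
      psiX A B g U F n sq) := by
  let M₁ : (Fin (n + 1) → ι) → ModuleCat.{u} B := fun a => (secA B (g ⁻¹ᵁ tupleProd U a)).obj F'
  letI : ∀ a, Module A (M₁ a) := fun a => Module.compHom (M₁ a) (algebraMap A B)
  haveI : ∀ a, IsScalarTower A B (M₁ a) := fun a => IsScalarTower.of_algebraMap_smul fun _ _ => rfl
  let N : ModuleCat.{u} B := CoX B (pre g U) F' n
  letI : Module A N := Module.compHom N (algebraMap A B)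
  haveI : IsScalarTower A B N := IsScalarTower.of_algebraMap_smul fun _ _ => rfl
  let f : ∀ a : Fin (n + 1) → ι, ((secA A (tupleProd U a)).obj F : Type u) →ₗ[A] M₁ a := fun a =>
    pullSec A B g (F := F) (tupleProd U a) sq
  have hpi : IsBaseChange B (LinearMap.pi fun a => f a ∘ₗ LinearMap.proj a) :=
    IsBaseChange.pi f fun a => isBaseChange_pullSec A B g sq hF (hU n a)
  let e : (∀ a, M₁ a) ≃ₗ[B] N :=
    { toFun := fun y a => (res F' (tupleProd_pre g U a).le (show Γ(F', g ⁻¹ᵁ tupleProd U a) from y a) :)
      invFun := fun z a => (res F' (tupleProd_pre g U a).ge (show Γ(F', tupleProd (pre g U) a) from z a) :)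
      left_inv := fun y => funext fun a => (res_res F' _ _ _).trans (res_self F' _ _)
      right_inv := fun z => funext fun a => (res_res F' _ _ _).trans (res_self F' _ _)
      map_add' := fun y z => funext fun a => map_add (res F' (tupleProd_pre g U a).le)
        (show Γ(F', g ⁻¹ᵁ tupleProd U a) from y a) (show Γ(F', g ⁻¹ᵁ tupleProd U a) from z a)
      map_smul' := fun b y => funext fun a => by
        refine (res_smul F' (tupleProd_pre g U a).le (secRing B (g ⁻¹ᵁ tupleProd U a) b)
          (show Γ(F', g ⁻¹ᵁ tupleProd U a) from y a)).trans ?_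
        rw [resO_secRing]
        rfl }
  refine IsBaseChange.of_equiv (hpi.equiv.trans e) fun x => ?_
  rw [LinearEquiv.trans_apply, IsBaseChange.equiv_tmul, one_smul]
  rfl

/-- Restriction of scalars on cochain complexes. -/
abbrev rsF : CochainComplex (ModuleCat.{u} B) ℕ ⥤ CochainComplex (ModuleCat.{u} A) ℕ :=
  (ModuleCat.restrictScalars (algebraMap A B)).mapHomologicalComplex _

section Theta

variable (sq' : IsPullback g (X' ↘ Spec (CommRingCat.of B)) (X ↘ Spec (CommRingCat.of A))
  (Spec.map (CommRingCat.ofHom (algebraMap A B))))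

/-- The comparison, in one degree. -/
def bcThetaX (N : ModuleCat.{u} B) (n : ℕ) :
    ((CoX A U F n : Type u) ⊗[A] ((ModuleCat.restrictScalars (algebraMap A B)).obj N : Type u)) →ₗ[A]
      ((ModuleCat.restrictScalars (algebraMap A B)).obj
        (ModuleCat.of B ((CoX B (pre g U) F' n : Type u) ⊗[B] (N : Type u))) : Type u) :=
  TensorProduct.lift (LinearMap.mk₂ A
    (fun x m => ((show (CoX B (pre g U) F' n : Type u) from psiX A B g U F n sq' x) ⊗ₜ[B] (show (N : Type u) from m) :))
    (fun x y m => by
      rw [map_add]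
      exact TensorProduct.add_tmul (R := B) _ _ _)
    (fun r x m => by
      rw [map_smul]
      exact (TensorProduct.smul_tmul' (R := B) (algebraMap A B r) _ _).symm)
    (fun x m m' => TensorProduct.tmul_add (R := B) _ _ _)
    (fun r x m => TensorProduct.tmul_smul (R := B) (algebraMap A B r) _ _))

lemma bcThetaX_tmul (N : ModuleCat.{u} B) (n : ℕ) (x : (CoX A U F n : Type u))
    (m : ((ModuleCat.restrictScalars (algebraMap A B)).obj N : Type u)) :
    bcThetaX A B g U F sq' N n (x ⊗ₜ[A] m) =
      ((show (CoX B (pre g U) F' n : Type u) from psiX A B g U F n sq' x) ⊗ₜ[B] (show (N : Type u) from m) :) :=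
  TensorProduct.lift.tmul _ _

include sq' in
lemma bcThetaX_bijective [Finite ι] (hU : ∀ (n : ℕ) (a : Fin (n + 1) → ι), IsAffineOpen (tupleProd U a))
    (hF : Coh.IsQCoh F) (N : ModuleCat.{u} B) (n : ℕ) :
    Function.Bijective (bcThetaX A B g U F sq' N n) := by
  let C' : ModuleCat.{u} B := CoX B (pre g U) F' n
  letI : Module A C' := Module.compHom C' (algebraMap A B)
  haveI : IsScalarTower A B C' := IsScalarTower.of_algebraMap_smul fun _ _ => rfl
  letI : Module A N := Module.compHom N (algebraMap A B)
  haveI : IsScalarTower A B N := IsScalarTower.of_algebraMap_smul fun _ _ => rfl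
  let C : ModuleCat.{u} A := CoX A U F n
  let ψ : C →ₗ[A] C' := psiX A B g U F n sq'
  have hψ : IsBaseChange B ψ := isBaseChange_psiX A B g sq' U F hU hF n
  let E : (C : Type u) ⊗[A] (N : Type u) ≃+ (C' : Type u) ⊗[B] (N : Type u) :=
    (((TensorProduct.comm A (C : Type u) (N : Type u)).toAddEquiv.trans
      (TensorProduct.AlgebraTensorModule.cancelBaseChange A B B (N : Type u) (C : Type u)).symm.toAddEquiv).trans
        (TensorProduct.congr (LinearEquiv.refl B (N : Type u)) hψ.equiv).toAddEquiv).trans
      (TensorProduct.comm B (N : Type u) (C' : Type u)).toAddEquiv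
  have h : ∀ z, bcThetaX A B g U F sq' N n z = E z := fun z => by
    induction z using TensorProduct.induction_on with
    | zero => rw [map_zero]; exact (map_zero E).symm
    | tmul x m =>
      refine (bcThetaX_tmul A B g U F sq' N n x m).trans ?_
      change _ = TensorProduct.comm B (N : Type u) (C' : Type u)
        (TensorProduct.congr (LinearEquiv.refl B (N : Type u)) hψ.equiv
          ((TensorProduct.AlgebraTensorModule.cancelBaseChange A B B (N : Type u) (C : Type u)).symm
            ((show (N : Type u) from m) ⊗ₜ[A] (show (C : Type u) from x))))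
      rw [TensorProduct.AlgebraTensorModule.cancelBaseChange_symm_tmul, TensorProduct.congr_tmul,
        IsBaseChange.equiv_tmul, one_smul, TensorProduct.comm_tmul]
      rfl
    | add z z' hz hz' => rw [map_add, hz, hz']; exact (map_add E _ _).symm
  rw [funext h]
  exact E.bijective

/-- The comparison of complexes. -/
def bcTheta (N : ModuleCat.{u} B) :
    CohIII.tensorObj ((CC A U).obj F) ((ModuleCat.restrictScalars (algebraMap A B)).obj N) ⟶
      (rsF A B).obj (CohIII.tensorObj ((CC B (pre g U)).obj F') N) where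
  f n := ModuleCat.ofHom
    (X := (CoX A U F n : Type u) ⊗[A] ((ModuleCat.restrictScalars (algebraMap A B)).obj N : Type u))
    (Y := ↥((ModuleCat.restrictScalars (algebraMap A B)).obj
      (ModuleCat.of B ((CoX B (pre g U) F' n : Type u) ⊗[B] (N : Type u)))))
    (bcThetaX A B g U F sq' N n)
  comm' i j hij := by
    obtain rfl : i + 1 = j := hij
    refine ModuleCat.hom_ext (TensorProduct.ext' fun x m => ?_)
    change (((CC B (pre g U)).obj F').d i (i + 1)).hom.rTensor (N : Type u) (bcThetaX A B g U F sq' N i (x ⊗ₜ[A] m)) =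
      bcThetaX A B g U F sq' N (i + 1) ((((CC A U).obj F).d i (i + 1)).hom x ⊗ₜ[A] m)
    rw [CC_d, CC_d, bcThetaX_tmul, bcThetaX_tmul]
    exact congrArg (fun t => t ⊗ₜ[B] (show (N : Type u) from m)) (psiX_d A B g sq' U F i x)

lemma bcTheta_natural {N N' : ModuleCat.{u} B} (h : N ⟶ N') :
    CohIII.tensorMap ((CC A U).obj F) ((ModuleCat.restrictScalars (algebraMap A B)).map h) ≫
        bcTheta A B g U F sq' N' =
      bcTheta A B g U F sq' N ≫ (rsF A B).map (CohIII.tensorMap ((CC B (pre g U)).obj F') h) := by
  refine HomologicalComplex.hom_ext _ _ fun n => ModuleCat.hom_ext (TensorProduct.ext' fun x m => ?_)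
  exact bcThetaX_tmul A B g U F sq' N' n x _

include sq' in
/-- The functors `H^p(C ⊗ -)` commute with base change. -/
theorem nonempty_TFun_bc [Finite ι] (hU : ∀ (n : ℕ) (a : Fin (n + 1) → ι), IsAffineOpen (tupleProd U a))
    (hF : Coh.IsQCoh F) (p : ℕ) :
    Nonempty (ModuleCat.restrictScalars (algebraMap A B) ⋙ CohIII.TFun ((CC A U).obj F) p ≅
      CohIII.TFun ((CC B (pre g U)).obj F') p ⋙ ModuleCat.restrictScalars (algebraMap A B)) := by
  haveI : ∀ N, IsIso (bcTheta A B g U F sq' N) := fun N => by
    haveI : ∀ n, IsIso ((bcTheta A B g U F sq' N).f n) := fun n =>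
      (ConcreteCategory.isIso_iff_bijective _).2 (bcThetaX_bijective A B g U F sq' hU hF N n)
    exact HomologicalComplex.Hom.isIso_of_components _
  refine ⟨NatIso.ofComponents (fun N =>
    HomologicalComplex.homologyMapIso (asIso (bcTheta A B g U F sq' N)) p ≪≫
      ((CohIII.tensorObj ((CC B (pre g U)).obj F') N).sc p).mapHomologyIso
        (ModuleCat.restrictScalars (algebraMap A B))) fun {N N'} h => ?_⟩
  change HomologicalComplex.homologyMap (CohIII.tensorMap _ _) p ≫
      HomologicalComplex.homologyMap (bcTheta A B g U F sq' N') p ≫ _ =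
    (HomologicalComplex.homologyMap (bcTheta A B g U F sq' N) p ≫ _) ≫
      (ModuleCat.restrictScalars (algebraMap A B)).map (HomologicalComplex.homologyMap (CohIII.tensorMap _ h) p)
  rw [← HomologicalComplex.homologyMap_comp_assoc, bcTheta_natural, HomologicalComplex.homologyMap_comp,
    Category.assoc, Category.assoc]
  refine congrArg (_ ≫ ·) ?_
  exact ShortComplex.mapHomologyIso_hom_naturality
    ((HomologicalComplex.shortComplexFunctor (ModuleCat.{u} B) (ComplexShape.up ℕ) p).map
      (CohIII.tensorMap ((CC B (pre g U)).obj F') h))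
    (ModuleCat.restrictScalars (algebraMap A B))

end Theta

end Groth.Agent.W7Cech
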