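import Groth.Agent.QC.Basic
import Groth.Agent.FlatCx.Tensor
import Mathlib.RingTheory.IsTensorProduct

/-!
Kernels with flat cokernels commute with base change; sections as a kernel on a cover.
-/

set_option autoImplicit false
set_option backward.isDefEq.respectTransparency false
set_option linter.style.haveILetI false

universe u

open CategoryTheory AlgebraicGeometry TopologicalSpace Opposite
open Groth.Agent.QC (res res_res abSheaf)
open scoped TensorProduct

noncomputable section

namespace Groth.Agent.W7Cech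

/-- The kernel of a map with flat cokernel commutes with base change. -/
theorem isBaseChange_ker {A B : Type u} [CommRing A] [CommRing B] [Algebra A B]
    {Z C₀ C₁ Z' C₀' C₁' : Type u} [AddCommGroup Z] [Module A Z] [AddCommGroup C₀] [Module A C₀]
    [AddCommGroup C₁] [Module A C₁] [AddCommGroup Z'] [Module A Z'] [Module B Z'] [IsScalarTower A B Z']
    [AddCommGroup C₀'] [Module A C₀'] [Module B C₀'] [IsScalarTower A B C₀']
    [AddCommGroup C₁'] [Module A C₁'] [Module B C₁'] [IsScalarTower A B C₁']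
    {ι : Z →ₗ[A] C₀} {d : C₀ →ₗ[A] C₁} (hι : Function.Injective ι) (hex : Function.Exact ι d)
    [Module.Flat A C₁] [Module.Flat A (C₁ ⧸ LinearMap.range d)]
    {ι' : Z' →ₗ[B] C₀'} {d' : C₀' →ₗ[B] C₁'} (hι' : Function.Injective ι') (hex' : Function.Exact ι' d')
    {ψ₀ : C₀ →ₗ[A] C₀'} (h₀ : IsBaseChange B ψ₀) {ψ₁ : C₁ →ₗ[A] C₁'} (h₁ : IsBaseChange B ψ₁)
    (hd : ∀ x, d' (ψ₀ x) = ψ₁ (d x)) (ζ : Z →ₗ[A] Z') (hζ : ∀ z, ι' (ζ z) = ψ₀ (ι z)) :
    IsBaseChange B ζ := by
  have hexI : Function.Exact (LinearMap.range d).subtype (LinearMap.range d).mkQ :=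
    LinearMap.exact_subtype_mkQ _
  haveI : Module.Flat A (LinearMap.range d) :=
    FlatCx.flat_of_flat_quotient (Submodule.injective_subtype _) hexI (Submodule.mkQ_surjective _)
  have hI : Function.Injective ((LinearMap.range d).subtype.lTensor B) :=
    (LinearMap.lTensor_inj_iff_rTensor_inj _ _).2
      (FlatCx.rTensor_injective_of_flat_quotient (Submodule.injective_subtype _) hexI
        (Submodule.mkQ_surjective _) B)
  have hexZ : Function.Exact ι d.rangeRestrict := fun x => by
    refine Iff.trans ?_ (hex x)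
    exact Subtype.ext_iff
  have hZ : Function.Injective (ι.lTensor B) :=
    (LinearMap.lTensor_inj_iff_rTensor_inj _ _).2
      (FlatCx.rTensor_injective_of_flat_quotient hι hexZ d.surjective_rangeRestrict B)
  let L := ζ.liftBaseChange B
  have hL : ∀ w, ι' (L w) = h₀.equiv (ι.lTensor B w) := fun w => by
    induction w using TensorProduct.induction_on with
    | zero => simp
    | tmul b z =>
      rw [LinearMap.liftBaseChange_tmul, map_smul, hζ, LinearMap.lTensor_tmul, IsBaseChange.equiv_tmul]
    | add a b ha hb => simp only [map_add, ha, hb]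
  have hd' : ∀ w, d' (h₀.equiv w) = h₁.equiv (d.lTensor B w) := fun w => by
    induction w using TensorProduct.induction_on with
    | zero => simp
    | tmul b x => rw [IsBaseChange.equiv_tmul, map_smul, hd, LinearMap.lTensor_tmul, IsBaseChange.equiv_tmul]
    | add a b ha hb => simp only [map_add, ha, hb]
  have hbij : Function.Bijective L := by
    refine ⟨fun a b h => hZ (h₀.equiv.injective ?_), fun z => ?_⟩
    · rw [← hL, ← hL, h]
    · let w := h₀.equiv.symm (ι' z)
      have hw : d.rangeRestrict.lTensor B w = 0 := by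
        apply hI
        rw [map_zero, ← LinearMap.comp_apply, ← LinearMap.lTensor_comp]
        refine h₁.equiv.injective ?_
        rw [map_zero]
        change h₁.equiv (d.lTensor B w) = 0
        rw [← hd', LinearEquiv.apply_symm_apply, hex'.apply_apply_eq_zero]
      obtain ⟨v, hv⟩ := ((lTensor_exact B hexZ d.surjective_rangeRestrict) w).1 hw
      refine ⟨v, hι' ?_⟩
      rw [hL, hv]
      exact h₀.equiv.apply_symm_apply _
  refine IsBaseChange.of_equiv (LinearEquiv.ofBijective L hbij) fun z => ?_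
  change L ((1 : B) ⊗ₜ[A] z) = ζ z
  rw [LinearMap.liftBaseChange_tmul, one_smul]

/-- The base change of the kernel is all of the kernel of the base change exactly when tensoring keeps
exactness in the middle. -/
theorem surjective_liftBaseChange_iff_exact {A B : Type u} [CommRing A] [CommRing B] [Algebra A B]
    {Z C₀ C₁ Z' C₀' C₁' : Type u} [AddCommGroup Z] [Module A Z] [AddCommGroup C₀] [Module A C₀]
    [AddCommGroup C₁] [Module A C₁] [AddCommGroup Z'] [Module A Z'] [Module B Z'] [IsScalarTower A B Z']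
    [AddCommGroup C₀'] [Module A C₀'] [Module B C₀'] [IsScalarTower A B C₀']
    [AddCommGroup C₁'] [Module A C₁'] [Module B C₁'] [IsScalarTower A B C₁']
    {ι : Z →ₗ[A] C₀} {d : C₀ →ₗ[A] C₁} (hex : Function.Exact ι d)
    {ι' : Z' →ₗ[B] C₀'} {d' : C₀' →ₗ[B] C₁'} (hι' : Function.Injective ι') (hex' : Function.Exact ι' d')
    {ψ₀ : C₀ →ₗ[A] C₀'} (h₀ : IsBaseChange B ψ₀) {ψ₁ : C₁ →ₗ[A] C₁'} (h₁ : IsBaseChange B ψ₁)
    (hd : ∀ x, d' (ψ₀ x) = ψ₁ (d x)) (ζ : Z →ₗ[A] Z') (hζ : ∀ z, ι' (ζ z) = ψ₀ (ι z)) :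
    Function.Surjective (ζ.liftBaseChange B) ↔ Function.Exact (ι.lTensor B) (d.lTensor B) := by
  have hL : ∀ w, ι' (ζ.liftBaseChange B w) = h₀.equiv (ι.lTensor B w) := fun w => by
    induction w using TensorProduct.induction_on with
    | zero => simp
    | tmul b z =>
      rw [LinearMap.liftBaseChange_tmul, map_smul, hζ, LinearMap.lTensor_tmul, IsBaseChange.equiv_tmul]
    | add a b ha hb => simp only [map_add, ha, hb]
  have hd' : ∀ w, d' (h₀.equiv w) = h₁.equiv (d.lTensor B w) := fun w => by
    induction w using TensorProduct.induction_on with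
    | zero => simp
    | tmul b x => rw [IsBaseChange.equiv_tmul, map_smul, hd, LinearMap.lTensor_tmul, IsBaseChange.equiv_tmul]
    | add a b ha hb => simp only [map_add, ha, hb]
  constructor
  · refine fun h w => ⟨fun hw => ?_, ?_⟩
    · obtain ⟨z, hz⟩ := (hex' (h₀.equiv w)).1 (by rw [hd', hw, map_zero])
      obtain ⟨v, rfl⟩ := h z
      exact ⟨v, h₀.equiv.injective ((hL v).symm.trans hz)⟩
    · rintro ⟨v, rfl⟩
      rw [← LinearMap.comp_apply, ← LinearMap.lTensor_comp, hex.linearMap_comp_eq_zero, LinearMap.lTensor_zero,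
        LinearMap.zero_apply]
  · intro h z
    obtain ⟨v, hv⟩ := (h (h₀.equiv.symm (ι' z))).1 (h₁.equiv.injective (by
      rw [map_zero, ← hd', LinearEquiv.apply_symm_apply, hex'.apply_apply_eq_zero]))
    exact ⟨v, hι' (by rw [hL, hv, LinearEquiv.apply_symm_apply])⟩

/-- Sections over a covered open are the agreeing families. -/
theorem res_cover_exact {X : Scheme.{u}} (M : X.Modules) {P : X.Opens} {κ : Type u} (O : κ → X.Opens)
    (hO : ∀ i, O i ≤ P) (hcov : P ≤ iSup O) (Q : κ → κ → X.Opens) (hQ : ∀ i j, Q i j = O i ⊓ O j) :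
    (∀ s t : Γ(M, P), (∀ i, res M (hO i) s = res M (hO i) t) → s = t) ∧
      ∀ x : (i : κ) → Γ(M, O i),
        (∀ i j, res M ((hQ i j).le.trans inf_le_left) (x i) = res M ((hQ i j).le.trans inf_le_right) (x j)) ↔
          ∃ s : Γ(M, P), ∀ i, res M (hO i) s = x i := by
  refine ⟨fun s t h => TopCat.Sheaf.eq_of_locally_eq' (abSheaf M) O P (fun i => homOfLE (hO i)) hcov s t h,
    fun x => ⟨fun h => ?_, ?_⟩⟩
  · obtain ⟨a, ha, -⟩ := TopCat.Sheaf.existsUnique_gluing' (abSheaf M) O P (fun i => homOfLE (hO i)) hcov x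
      (fun i j => by
        have h1 := congrArg (res M (hQ i j).ge) (h i j)
        rw [res_res, res_res] at h1
        exact h1)
    exact ⟨a, ha⟩
  · rintro ⟨s, hs⟩ i j
    rw [← hs i, ← hs j, res_res, res_res]

end Groth.Agent.W7Cech
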