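import Groth.Prelude.Def_CohBC2
import Groth.Agent.W7Cech.BCKer
import Groth.Agent.W7Cech.BCLin
import Mathlib.RingTheory.TensorProduct.IsBaseChangePi
import Groth.Agent.W7Cech.NNGrauert
import Groth.Agent.FlatModB.Basic
import Groth.Agent.ModDesc.BaseChange
import Groth.Agent.RelTilde.BaseChange
import Groth.Agent.QC.Localisation

/-!
Base change for the direct image in degree zero.
-/

set_option autoImplicit false
set_option backward.isDefEq.respectTransparency false
set_option backward.isDefEq.respectTransparency.types false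
set_option linter.style.haveILetI false
set_option maxHeartbeats 1000000

universe u

open CategoryTheory CategoryTheory.Limits AlgebraicGeometry TopologicalSpace Opposite
open Groth.Agent.SiteCoh
open Groth.Agent.QC (res resO res_res res_self res_smul)
open scoped TensorProduct

noncomputable section

namespace Groth.Agent.W7Cech

variable {X S : Scheme.{u}} (f : X ⟶ S) {F : X.Modules}

/-- The action of the functions on an affine open on sections over its preimage, after restriction. -/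
lemma secRing_restrict {U : S.Opens} (hU : IsAffineOpen U) (O : (f ⁻¹ᵁ U).toScheme.Opens)
    (h : (f ⁻¹ᵁ U).ι ''ᵁ O ≤ f ⁻¹ᵁ U) (a : Γ(S, U)) (s : Γ(F.restrict (f ⁻¹ᵁ U).ι, O)) :
    letI : (f ⁻¹ᵁ U).toScheme.Over (Spec (CommRingCat.of Γ(S, U))) := ⟨(f ∣_ U) ≫ hU.isoSpec.hom⟩
    (F.restrictAppIso (f ⁻¹ᵁ U).ι O).hom (secRing Γ(S, U) O a • s) =
      (f.appLE U ((f ⁻¹ᵁ U).ι ''ᵁ O) h).hom a • (F.restrictAppIso (f ⁻¹ᵁ U).ι O).hom s := by
  letI : (f ⁻¹ᵁ U).toScheme.Over (Spec (CommRingCat.of Γ(S, U))) := ⟨(f ∣_ U) ≫ hU.isoSpec.hom⟩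
  rw [Scheme.Modules.smul_restrictAppIso_hom_apply]
  refine congrArg (· • (F.restrictAppIso (f ⁻¹ᵁ U).ι O).hom s) ?_
  let c : Γ(U.toScheme, ⊤) := U.topIso.inv a
  have hc : Coh.toGlobal ((f ⁻¹ᵁ U).toScheme ↘ Spec (CommRingCat.of Γ(S, U))) a = (f ∣_ U).appTop c := by
    change ((f ∣_ U) ≫ hU.isoSpec.hom).appTop ((Scheme.ΓSpecIso (CommRingCat.of Γ(S, U))).inv a) = _
    rw [Scheme.Hom.comp_appTop]
    refine congrArg (f ∣_ U).appTop ?_
    rw [IsAffineOpen.isoSpec_hom_appTop]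
    exact congrArg U.topIso.inv (ConcreteCategory.congr_hom (Scheme.ΓSpecIso Γ(S, U)).inv_hom_id a)
  rw [Scheme.Opens.ι_appIso]
  change resO (f ⁻¹ᵁ U).toScheme le_top (show Γ((f ⁻¹ᵁ U).toScheme, ⊤) from
    Coh.toGlobal ((f ⁻¹ᵁ U).toScheme ↘ Spec (CommRingCat.of Γ(S, U))) a) = _
  rw [hc, morphismRestrict_appTop]
  change X.presheaf.map _ (X.presheaf.map _ (f.app _ (S.presheaf.map _ a))) = X.presheaf.map _ (f.app U a)
  refine Eq.trans (congrArg (fun z => X.presheaf.map _ (X.presheaf.map _ z))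
    (ConcreteCategory.congr_hom (f.naturality _) a)) ?_
  exact ((ConcreteCategory.congr_hom (X.presheaf.map_comp _ _) _).symm.trans
    (ConcreteCategory.congr_hom (X.presheaf.map_comp _ _) _).symm)

section Cochains

variable (F) {U : S.Opens} {ι : Type u} (O : ι → X.Opens) (hO : ∀ i, O i ≤ f ⁻¹ᵁ U)

/-- Sections on an open over `U`, as a module over the functions on `U`. -/
abbrev SM (V : X.Opens) (h : V ≤ f ⁻¹ᵁ U) : ModuleCat.{u} Γ(S, U) :=
  (ModuleCat.restrictScalars (f.appLE U V h).hom).obj (ModuleCat.of Γ(X, V) Γ(F, V))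

/-- Sections on the members of a cover. -/
abbrev C0 : ModuleCat.{u} Γ(S, U) :=
  ModuleCat.of Γ(S, U) (∀ i, (SM f F (O i) (hO i) : Type u))

/-- Sections on the pairwise intersections of a cover. -/
abbrev C1 : ModuleCat.{u} Γ(S, U) :=
  ModuleCat.of Γ(S, U) (∀ p : ι × ι, (SM f F (O p.1 ⊓ O p.2) (inf_le_left.trans (hO p.1)) : Type u))

lemma res_appLE_smul {V' V : X.Opens} (hle : V' ≤ V) (h : V ≤ f ⁻¹ᵁ U) (a : Γ(S, U)) (s : Γ(F, V)) :
    res F hle ((f.appLE U V h).hom a • s) = (f.appLE U V' (hle.trans h)).hom a • res F hle s := by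
  rw [res_smul]
  refine congrArg (fun z : Γ(X, V') => z • res F hle s) ?_
  exact ConcreteCategory.congr_hom (f.appLE_map h (homOfLE hle).op) a

/-- The difference of the restrictions. -/
def d01 : (C0 f F O hO : Type u) →ₗ[Γ(S, U)] (C1 f F O hO : Type u) where
  toFun x p := (res F inf_le_left (show Γ(F, O p.1) from x p.1) - res F inf_le_right (show Γ(F, O p.2) from x p.2) :)
  map_add' x y := funext fun p => by
    change res F _ ((show Γ(F, O p.1) from x p.1) + (show Γ(F, O p.1) from y p.1)) -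
      res F _ ((show Γ(F, O p.2) from x p.2) + (show Γ(F, O p.2) from y p.2)) = _
    rw [map_add, map_add, add_sub_add_comm]
    rfl
  map_smul' a x := funext fun p => by
    change res F _ ((f.appLE U (O p.1) (hO p.1)).hom a • (show Γ(F, O p.1) from x p.1)) -
      res F _ ((f.appLE U (O p.2) (hO p.2)).hom a • (show Γ(F, O p.2) from x p.2)) = _
    rw [res_appLE_smul, res_appLE_smul]
    exact (smul_sub (M := Γ(X, O p.1 ⊓ O p.2)) _ _ _).symm

lemma d01_apply (x : (C0 f F O hO : Type u)) (p : ι × ι) :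
    d01 f F O hO x p =
      (res F inf_le_left (show Γ(F, O p.1) from x p.1) - res F inf_le_right (show Γ(F, O p.2) from x p.2) :) := rfl

/-- The augmentation. -/
def aug :
    (SM f F (f ⁻¹ᵁ U) le_rfl : Type u) →ₗ[Γ(S, U)] (C0 f F O hO : Type u) :=
  { toFun := fun s i => (res F (hO i) (show Γ(F, f ⁻¹ᵁ U) from s) :)
    map_add' := fun s t => funext fun i =>
      map_add (res F (hO i)) (show Γ(F, f ⁻¹ᵁ U) from s) (show Γ(F, f ⁻¹ᵁ U) from t)
    map_smul' := fun a s => funext fun i => res_appLE_smul f F (hO i) le_rfl a (show Γ(F, f ⁻¹ᵁ U) from s) }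

lemma aug_injective_exact (hcov : f ⁻¹ᵁ U ≤ iSup O) :
    Function.Injective (aug f F O hO) ∧ Function.Exact (aug f F O hO) (d01 f F O hO) := by
  obtain ⟨h1, h2⟩ := res_cover_exact F O hO hcov (fun i j => O i ⊓ O j) fun _ _ => rfl
  refine ⟨fun s t h => h1 s t fun i => congrFun h i, fun x => ?_⟩
  refine Iff.trans ?_ ((h2 fun i => (show Γ(F, O i) from x i)).trans ⟨fun ⟨s, hs⟩ => ⟨s, funext hs⟩,
    fun ⟨s, hs⟩ => ⟨s, fun i => congrFun hs i⟩⟩)
  exact ⟨fun h i j => sub_eq_zero.1 (congrFun h (i, j)), fun h => funext fun p => sub_eq_zero.2 (h p.1 p.2)⟩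

end Cochains

/-- The cochains on the pieces are the Čech cochains. -/
theorem exists_cech_cmp {U : S.Opens} (hU : IsAffineOpen U) {ι : Type u} (W : ι → (f ⁻¹ᵁ U).toScheme.Opens)
    (O : ι → X.Opens) (hO : ∀ i, O i ≤ f ⁻¹ᵁ U) (hOW : ∀ i, (f ⁻¹ᵁ U).ι ''ᵁ W i = O i) :
    letI : (f ⁻¹ᵁ U).toScheme.Over (Spec (CommRingCat.of Γ(S, U))) := ⟨(f ∣_ U) ≫ hU.isoSpec.hom⟩
    ∃ (e0 : (C0 f F O hO : Type u) ≃ₗ[Γ(S, U)] (CoX Γ(S, U) W (F.restrict (f ⁻¹ᵁ U).ι) 0 : Type u))
      (e1 : (C1 f F O hO : Type u) ≃ₗ[Γ(S, U)] (CoX Γ(S, U) W (F.restrict (f ⁻¹ᵁ U).ι) 1 : Type u)),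
      ∀ x, e1 (d01 f F O hO x) = dL Γ(S, U) W (F.restrict (f ⁻¹ᵁ U).ι) 0 (e0 x) := by
  let A : Type u := Γ(S, U)
  let P := f ⁻¹ᵁ U
  let F₀ := F.restrict P.ι
  letI : P.toScheme.Over (Spec (CommRingCat.of Γ(S, U))) := ⟨(f ∣_ U) ≫ hU.isoSpec.hom⟩
  have him : ∀ V : P.toScheme.Opens, P.ι ''ᵁ V ≤ P := fun V => by
    rintro _ ⟨x, -, rfl⟩
    exact x.2
  have h0 : ∀ a : Fin 1 → ι, P.ι ''ᵁ tupleProd W a = O (a 0) := fun a => by
    rw [tupleProd_eq_iInf, show (⨅ k, W (a k)) = W (a 0) from iInf_unique (fun k => W (a k)), hOW]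
  have h1 : ∀ a : Fin 2 → ι, P.ι ''ᵁ tupleProd W a = O (a 1) ⊓ O (a 0) := fun a => by
    rw [← hOW, ← hOW]
    refine SetLike.coe_injective ?_
    rw [Scheme.Hom.coe_image, tupleProd_eq_iInf, show (⨅ k, W (a k)) = W (a 1) ⊓ W (a 0) from
      le_antisymm (le_inf (iInf_le _ 1) (iInf_le _ 0)) (le_iInf fun k => by fin_cases k <;> simp)]
    exact (Set.image_inter P.ι.isOpenEmbedding.injective)
  let r : ∀ (V : P.toScheme.Opens), Γ(F₀, V) ≃+ Γ(F, P.ι ''ᵁ V) := fun V =>
    (F.restrictAppIso P.ι V).addCommGroupIsoToAddEquiv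
  let tr : ∀ {V V' : X.Opens}, V = V' → (Γ(F, V) ≃+ Γ(F, V')) := fun {V V'} e =>
    { toFun := res F e.ge
      invFun := res F e.le
      left_inv := fun s => (res_res F _ _ s).trans (res_self F _ s)
      right_inv := fun s => (res_res F _ _ s).trans (res_self F _ s)
      map_add' := map_add _ }
  let e0 : (C0 f F O hO : Type u) →ₗ[A] (CoX A W F₀ 0 : Type u) :=
    { toFun := fun x a => ((r (tupleProd W a)).symm ((tr (h0 a)).symm (show Γ(F, O (a 0)) from x (a 0))) :)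
      map_add' := fun x y => funext fun a => by
        change (r (tupleProd W a)).symm ((tr (h0 a)).symm
          ((show Γ(F, O (a 0)) from x (a 0)) + (show Γ(F, O (a 0)) from y (a 0)))) = _
        rw [map_add, map_add]
        rfl
      map_smul' := fun c x => funext fun a => by
        change (r (tupleProd W a)).symm ((tr (h0 a)).symm
          ((f.appLE U (O (a 0)) (hO (a 0))).hom c • (show Γ(F, O (a 0)) from x (a 0)))) =
          secRing A (tupleProd W a) c • (r (tupleProd W a)).symm ((tr (h0 a)).symm (show Γ(F, O (a 0)) from x (a 0)))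
        refine (r (tupleProd W a)).injective ?_
        rw [AddEquiv.apply_symm_apply]
        refine Eq.trans ?_ (secRing_restrict f hU _ (him _) c _).symm
        refine (res_appLE_smul f F (h0 a).le (hO (a 0)) c _).trans ?_
        exact congrArg _ ((r (tupleProd W a)).apply_symm_apply _).symm }
  let e1 : (C1 f F O hO : Type u) ≃ₗ[A] (CoX A W F₀ 1 : Type u) :=
    { toFun := fun y a => ((r (tupleProd W a)).symm ((tr (h1 a)).symm (show Γ(F, O (a 1) ⊓ O (a 0)) from y (a 1, a 0))) :)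
      invFun := fun z p => ((tr (h1 ![p.2, p.1])) (r (tupleProd W ![p.2, p.1])
        (show Γ(F₀, tupleProd W ![p.2, p.1]) from z ![p.2, p.1])) :)
      left_inv := fun y => funext fun p => by
        change (tr (h1 ![p.2, p.1])) (r (tupleProd W ![p.2, p.1]) ((r (tupleProd W ![p.2, p.1])).symm
          ((tr (h1 ![p.2, p.1])).symm (show Γ(F, O p.1 ⊓ O p.2) from y (p.1, p.2))))) = _
        rw [AddEquiv.apply_symm_apply, AddEquiv.apply_symm_apply]
      right_inv := fun z => funext fun a => by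
        have ha : a = ![a 0, a 1] := by
          funext k; fin_cases k <;> rfl
        obtain ⟨b, c, rfl⟩ : ∃ b c, a = ![b, c] := ⟨_, _, ha⟩
        change (r (tupleProd W ![b, c])).symm ((tr (h1 ![b, c])).symm ((tr (h1 ![b, c]))
          (r (tupleProd W ![b, c]) (show Γ(F₀, tupleProd W ![b, c]) from z ![b, c])))) = _
        rw [AddEquiv.symm_apply_apply, AddEquiv.symm_apply_apply]
      map_add' := fun x y => funext fun a => by
        change (r (tupleProd W a)).symm ((tr (h1 a)).symm ((show Γ(F, O (a 1) ⊓ O (a 0)) from x (a 1, a 0)) +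
          (show Γ(F, O (a 1) ⊓ O (a 0)) from y (a 1, a 0)))) = _
        rw [map_add, map_add]
        rfl
      map_smul' := fun c x => funext fun a => by
        change (r (tupleProd W a)).symm ((tr (h1 a)).symm
          ((f.appLE U (O (a 1) ⊓ O (a 0)) (inf_le_left.trans (hO (a 1)))).hom c •
            (show Γ(F, O (a 1) ⊓ O (a 0)) from x (a 1, a 0)))) =
          secRing A (tupleProd W a) c • (r (tupleProd W a)).symm
            ((tr (h1 a)).symm (show Γ(F, O (a 1) ⊓ O (a 0)) from x (a 1, a 0)))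
        refine (r (tupleProd W a)).injective ?_
        rw [AddEquiv.apply_symm_apply]
        refine Eq.trans ?_ (secRing_restrict f hU _ (him _) c _).symm
        refine (res_appLE_smul f F (h1 a).le (inf_le_left.trans (hO (a 1))) c _).trans ?_
        exact congrArg _ ((r (tupleProd W a)).apply_symm_apply _).symm }
  have he0 : Function.Surjective e0 := fun z => by
    refine ⟨fun i => ((tr (h0 fun _ => i)) (r _ (show Γ(F₀, tupleProd W fun _ => i) from z fun _ => i)) :), funext fun a => ?_⟩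
    obtain ⟨i, rfl⟩ : ∃ i, a = fun _ => i := ⟨a 0, funext fun k => by rw [Fin.fin_one_eq_zero k]⟩
    change (r (tupleProd W fun _ => i)).symm ((tr (h0 fun _ => i)).symm ((tr (h0 fun _ => i))
      (r _ (show Γ(F₀, tupleProd W fun _ => i) from z fun _ => i)))) = _
    rw [AddEquiv.symm_apply_apply, AddEquiv.symm_apply_apply]
  have hcomm : ∀ x, e1 (d01 f F O hO x) = dL A W F₀ 0 (e0 x) := fun x => funext fun a => by
    refine (r (tupleProd W a)).injective ?_
    change r (tupleProd W a) ((r (tupleProd W a)).symm ((tr (h1 a)).symm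
        (res F inf_le_left (show Γ(F, O (a 1)) from x (a 1)) - res F inf_le_right (show Γ(F, O (a 0)) from x (a 0))))) =
      r (tupleProd W a) (∑ k : Fin 2, (-1 : ℤ) ^ (k : ℕ) • res F₀ (leOfHom (tupleDrop W a k))
        ((r (tupleProd W (a ∘ k.succAbove))).symm ((tr (h0 (a ∘ k.succAbove))).symm
          (show Γ(F, O ((a ∘ k.succAbove) 0)) from x ((a ∘ k.succAbove) 0)))))
    have hr : ∀ {V' V : P.toScheme.Opens} (hle : V' ≤ V) (s : Γ(F, P.ι ''ᵁ V)),
        r V' (res F₀ hle ((r V).symm s)) = res F (P.ι.image_mono hle) s := fun {V' V} hle s => by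
      conv_rhs => rw [← (r V).apply_symm_apply s]
      rfl
    rw [AddEquiv.apply_symm_apply, Fin.sum_univ_two, map_add, map_zsmul, map_zsmul, hr, hr]
    change res F (h1 a).le _ = (-1 : ℤ) ^ (0 : ℕ) • res F _ (res F (h0 (a ∘ Fin.succAbove 0)).le (show Γ(F, O (a 1)) from x (a 1))) +
      (-1 : ℤ) ^ (1 : ℕ) • res F _ (res F (h0 (a ∘ Fin.succAbove 1)).le (show Γ(F, O (a 0)) from x (a 0)))
    rw [pow_zero, one_zsmul, pow_one, neg_one_zsmul, ← sub_eq_add_neg, map_sub, res_res, res_res, res_res, res_res]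
    rfl
  have he0' : Function.Injective e0 := fun x y hxy => funext fun i => by
    have h := congrFun hxy fun _ => i
    change (r (tupleProd W fun _ => i)).symm ((tr (h0 fun _ => i)).symm (show Γ(F, O i) from x i)) =
      (r (tupleProd W fun _ => i)).symm ((tr (h0 fun _ => i)).symm (show Γ(F, O i) from y i)) at h
    exact ((tr (h0 fun _ => i)).symm.injective ((r (tupleProd W fun _ => i)).symm.injective h) :)
  exact ⟨LinearEquiv.ofBijective e0 ⟨he0', he0⟩, e1, hcomm⟩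

/-- The cokernel of the difference map is that of the Čech complex. -/
theorem flat_coker_d01 {U : S.Opens} (hU : IsAffineOpen U) {ι : Type u} (W : ι → (f ⁻¹ᵁ U).toScheme.Opens)
    (O : ι → X.Opens) (hO : ∀ i, O i ≤ f ⁻¹ᵁ U) (hOW : ∀ i, (f ⁻¹ᵁ U).ι ''ᵁ W i = O i)
    (hflat : letI : (f ⁻¹ᵁ U).toScheme.Over (Spec (CommRingCat.of Γ(S, U))) := ⟨(f ∣_ U) ≫ hU.isoSpec.hom⟩
      Module.Flat Γ(S, U) (FlatCx.Opc ((CC Γ(S, U) W).obj (F.restrict (f ⁻¹ᵁ U).ι)) 0 1)) :
    Module.Flat Γ(S, U) ((C1 f F O hO : Type u) ⧸ LinearMap.range (d01 f F O hO)) := by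
  let A : Type u := Γ(S, U)
  let F₀ := F.restrict (f ⁻¹ᵁ U).ι
  letI : (f ⁻¹ᵁ U).toScheme.Over (Spec (CommRingCat.of Γ(S, U))) := ⟨(f ∣_ U) ≫ hU.isoSpec.hom⟩
  obtain ⟨e0, e1, hcomm⟩ := exists_cech_cmp f hU W O hO hOW (F := F)
  have hd : (((CC A W).obj F₀).d 0 1).hom = dL A W F₀ 0 := by
    rw [CC_d]
    rfl
  have hrange : (LinearMap.range (d01 f F O hO)).map (e1 : (C1 f F O hO : Type u) →ₗ[A] (CoX A W F₀ 1 : Type u)) =
      LinearMap.range (dL A W F₀ 0) := by
    rw [← LinearMap.range_comp, show (e1 : (C1 f F O hO : Type u) →ₗ[A] (CoX A W F₀ 1 : Type u)) ∘ₗ d01 f F O hO =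
      dL A W F₀ 0 ∘ₗ (e0 : (C0 f F O hO : Type u) →ₗ[A] (CoX A W F₀ 0 : Type u)) from LinearMap.ext hcomm,
      LinearMap.range_comp, LinearEquiv.range, Submodule.map_top]
  haveI : Module.Flat A ((CoX A W F₀ 1 : Type u) ⧸ LinearMap.range (dL A W F₀ 0)) := by
    haveI : Module.Flat A ((((CC A W).obj F₀).X 1 : Type u) ⧸ LinearMap.range (((CC A W).obj F₀).d 0 1).hom) := hflat
    exact Module.Flat.of_linearEquiv (Submodule.quotEquivOfEq _ _ (congrArg LinearMap.range hd)).symm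
  exact Module.Flat.of_linearEquiv (Submodule.Quotient.equiv _ _ e1 hrange)

section Piece

variable {f} {T X' : Scheme.{u}} {g : T ⟶ S} {f' : X' ⟶ T} {g' : X' ⟶ X} (F)
  {U : S.Opens} {V : T.Opens} (hVU : V ≤ g ⁻¹ᵁ U)

/-- Pulling sections back into an open over `V`, linearly over the functions on `U`. -/
def pullPiece (hsq : g' ≫ f = f' ≫ g) {O : X.Opens} (hO : O ≤ f ⁻¹ᵁ U) {O' : X'.Opens}
    (hO' : O' ≤ g' ⁻¹ᵁ O) (hO'V : O' ≤ f' ⁻¹ᵁ V) :
    letI := Module.compHom (SM f' ((Scheme.Modules.pullback g').obj F) O' hO'V : Type u) (g.appLE U V hVU).hom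
    (SM f F O hO : Type u) →ₗ[Γ(S, U)] (SM f' ((Scheme.Modules.pullback g').obj F) O' hO'V : Type u) :=
  letI := Module.compHom (SM f' ((Scheme.Modules.pullback g').obj F) O' hO'V : Type u) (g.appLE U V hVU).hom
  { toFun := fun s => (ModDesc.pullSectLE g' F O O' hO' (show Γ(F, O) from s) :)
    map_add' := fun s t => map_add (ModDesc.pullSectLE g' F O O' hO')
      (show Γ(F, O) from s) (show Γ(F, O) from t)
    map_smul' := fun a s => by
      refine (ModDesc.pullSectLE_smul g' F O O' hO' ((f.appLE U O hO).hom a) (show Γ(F, O) from s)).trans ?_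
      refine congrArg (fun z : Γ(X', O') => z • ModDesc.pullSectLE g' F O O' hO' (show Γ(F, O) from s)) ?_
      change ((f.appLE U O hO) ≫ g'.appLE O O' hO').hom a = ((g.appLE U V hVU) ≫ f'.appLE V O' hO'V).hom a
      rw [Scheme.Hom.appLE_comp_appLE, Scheme.Hom.appLE_comp_appLE]
      congr 3 }

/-- On affine pieces, pulling back sections is base change. -/
theorem isBaseChange_pullPiece (hsq : IsPullback g' f' f g) (hF : Coh.IsQCoh F) (hU : IsAffineOpen U)
    (hV : IsAffineOpen V) {O : X.Opens} (hO : O ≤ f ⁻¹ᵁ U) (hOa : IsAffineOpen O) {O' : X'.Opens}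
    (hW : O' = g' ⁻¹ᵁ O ⊓ f' ⁻¹ᵁ V) :
    letI : Algebra Γ(S, U) Γ(T, V) := (g.appLE U V hVU).hom.toAlgebra
    letI := Module.compHom (SM f' ((Scheme.Modules.pullback g').obj F) O' (hW.le.trans inf_le_right) : Type u)
      (g.appLE U V hVU).hom
    haveI : IsScalarTower Γ(S, U) Γ(T, V) (SM f' ((Scheme.Modules.pullback g').obj F) O' (hW.le.trans inf_le_right) : Type u) :=
      IsScalarTower.of_algebraMap_smul fun _ _ => rfl
    IsBaseChange Γ(T, V) (pullPiece F hVU hsq.w hO (hW.le.trans inf_le_left) (hW.le.trans inf_le_right)) := by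
  have hO'a : IsAffineOpen O' := by
    haveI : IsAffine _ := hU
    haveI : IsAffine _ := hV
    haveI : IsAffine _ := hOa
    exact .of_isIso (Scheme.Hom.isPullback_resLE hsq hVU hO hW).isoPullback.hom
  have hP := (isIso_pushoutSection_iff hsq hVU hO hW).1
    (isIso_pushoutSection_of_isAffineOpen hsq hVU hO hW hU hV hOa)
  let A := Γ(S, U)
  let R := Γ(X, O)
  let B := Γ(T, V)
  let R' := Γ(X', O')
  letI : Algebra A B := (g.appLE U V hVU).hom.toAlgebra
  letI : Algebra A R := (f.appLE U O hO).hom.toAlgebra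
  letI : Algebra R R' := (g'.appLE O O' (hW.le.trans inf_le_left)).hom.toAlgebra
  letI : Algebra B R' := (f'.appLE V O' (hW.le.trans inf_le_right)).hom.toAlgebra
  letI : Algebra A R' := ((algebraMap R R').comp (algebraMap A R)).toAlgebra
  haveI : IsScalarTower A R R' := IsScalarTower.of_algebraMap_eq fun _ => rfl
  haveI : IsScalarTower A B R' := IsScalarTower.of_algebraMap_eq fun r => congr($(hP.w).hom r)
  haveI : Algebra.IsPushout A R B R' := CommRingCat.isPushout_iff_isPushout.1 hP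
  haveI : Algebra.IsPushout A B R R' := Algebra.IsPushout.symm inferInstance
  letI := FlatModB.secModule f F O U hO
  haveI : IsScalarTower A R Γ(F, O) := IsScalarTower.of_algebraMap_smul fun _ _ => rfl
  let P := (Scheme.Modules.pullback g').obj F
  letI := FlatModB.secModule f' P O' V (hW.le.trans inf_le_right)
  haveI : IsScalarTower B R' Γ(P, O') := IsScalarTower.of_algebraMap_smul fun _ _ => rfl
  haveI : Coh.IsQCoh F := hF
  obtain ⟨Φ, hΦ⟩ := ModDesc.exists_bijective_liftBaseChange g' F hOa hO'a (hW.le.trans inf_le_left)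
  let e : (B ⊗[A] Γ(F, O)) ≃ₗ[B] Γ(P, O') :=
    (Algebra.IsPushout.cancelBaseChange A B R R' Γ(F, O)).symm.trans (Φ.restrictScalars B)
  letI := Module.compHom (SM f' P O' (hW.le.trans inf_le_right) : Type u) (g.appLE U V hVU).hom
  haveI : IsScalarTower A B (SM f' P O' (hW.le.trans inf_le_right) : Type u) :=
    IsScalarTower.of_algebraMap_smul fun _ _ => rfl
  refine IsBaseChange.of_equiv (show (B ⊗[A] (SM f F O hO : Type u)) ≃ₗ[B]
    (SM f' P O' (hW.le.trans inf_le_right) : Type u) from e) fun s => ?_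
  change Φ ((Algebra.IsPushout.cancelBaseChange A B R R' Γ(F, O)).symm
    ((1 : B) ⊗ₜ[A] (show Γ(F, O) from s))) = ModDesc.pullSectLE g' F O O' _ (show Γ(F, O) from s)
  rw [Algebra.IsPushout.cancelBaseChange_symm_tmul, map_one]
  exact hΦ _

end Piece

variable [IsProper f] [LocallyOfFinitePresentation f] [HasInjectiveResolutions X.Modules]

/-- Sections over the preimages of affine opens, and the Čech complex: when they commute with base change. -/
theorem exists_bc_setup (hq : Coh.IsQCoh F) {U : S.Opens} (hU : IsAffineOpen U)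
    {T X' : Scheme.{u}} {g : T ⟶ S} {f' : X' ⟶ T} {g' : X' ⟶ X} (hsq : IsPullback g' f' f g)
    {V : T.Opens} (hV : IsAffineOpen V) (hVU : V ≤ g ⁻¹ᵁ U) (hle : f' ⁻¹ᵁ V ≤ g' ⁻¹ᵁ (f ⁻¹ᵁ U)) :
    letI : (f ⁻¹ᵁ U).toScheme.Over (Spec (CommRingCat.of Γ(S, U))) := ⟨(f ∣_ U) ≫ hU.isoSpec.hom⟩
    letI : Algebra Γ(S, U) Γ(T, V) := (g.appLE U V hVU).hom.toAlgebra
    letI := Module.compHom (SM f' ((Scheme.Modules.pullback g').obj F) (f' ⁻¹ᵁ V) le_rfl : Type u)
      (g.appLE U V hVU).hom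
    haveI : IsScalarTower Γ(S, U) Γ(T, V) (SM f' ((Scheme.Modules.pullback g').obj F) (f' ⁻¹ᵁ V) le_rfl : Type u) :=
      IsScalarTower.of_algebraMap_smul fun _ _ => rfl
    ∃ (ι : Type u) (_ : Finite ι) (W : ι → (f ⁻¹ᵁ U).toScheme.Opens),
      (∀ (n : ℕ) (a : Fin (n + 1) → ι), IsAffineOpen (tupleProd W a)) ∧ iSup W = ⊤ ∧
      (FlatMod.IsFlatOver f F →
        Module.Flat Γ(S, U) (FlatCx.Opc ((CC Γ(S, U) W).obj (F.restrict (f ⁻¹ᵁ U).ι)) 0 1) →
        IsBaseChange Γ(T, V) (pullPiece F hVU hsq.w le_rfl hle le_rfl)) ∧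
      (Function.Surjective ((pullPiece F hVU hsq.w le_rfl hle le_rfl).liftBaseChange Γ(T, V)) ↔
        Function.Exact
          ((LinearMap.ker (dL Γ(S, U) W (F.restrict (f ⁻¹ᵁ U).ι) 0)).subtype.rTensor Γ(T, V))
          ((dL Γ(S, U) W (F.restrict (f ⁻¹ᵁ U).ι) 0).rTensor Γ(T, V))) ∧
      Nonempty ((SM f' ((Scheme.Modules.pullback g').obj F) (f' ⁻¹ᵁ V) le_rfl : Type u) ≃ₗ[Γ(S, U)]
        LinearMap.ker ((dL Γ(S, U) W (F.restrict (f ⁻¹ᵁ U).ι) 0).rTensor Γ(T, V))) := by
  let A : Type u := Γ(S, U)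
  let B : Type u := Γ(T, V)
  let P := f ⁻¹ᵁ U
  letI : P.toScheme.Over (Spec (CommRingCat.of Γ(S, U))) := ⟨(f ∣_ U) ≫ hU.isoSpec.hom⟩
  haveI : IsProper (f ∣_ U) := IsZariskiLocalAtTarget.restrict (P := @IsProper) ‹_› U
  haveI : IsProper (P.toScheme ↘ Spec (CommRingCat.of A)) :=
    inferInstanceAs (IsProper ((f ∣_ U) ≫ hU.isoSpec.hom))
  haveI : CompactSpace P.toScheme := QuasiCompact.compactSpace_of_compactSpace (P.toScheme ↘ Spec (CommRingCat.of A))
  haveI : P.toScheme.IsSeparated := by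
    constructor
    rw [← terminal.comp_from (P.toScheme ↘ Spec (CommRingCat.of A))]
    infer_instance
  obtain ⟨ι, hι, W, hW, hcov⟩ := exists_cover P.toScheme
  haveI := hι
  let O : ι → X.Opens := fun i => P.ι ''ᵁ W i
  have hO : ∀ i, O i ≤ f ⁻¹ᵁ U := fun i => by
    rintro _ ⟨x, -, rfl⟩
    exact x.2
  have hOa : ∀ i, IsAffineOpen (O i) := fun i => by
    have := hW 0 fun _ => i
    rw [tupleProd_eq_iInf, iInf_const] at this
    exact this.image_of_isOpenImmersion P.ι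
  have hOa₂ : ∀ i j, IsAffineOpen (O i ⊓ O j) := fun i j => by
    have := (hW 1 ![i, j]).image_of_isOpenImmersion P.ι
    rwa [show P.ι ''ᵁ tupleProd W ![i, j] = O i ⊓ O j from SetLike.coe_injective (by
      rw [tupleProd_eq_iInf, show (⨅ k, W (![i, j] k)) = W i ⊓ W j from
        le_antisymm (le_inf (iInf_le _ 0) (iInf_le _ 1)) (le_iInf fun k => by fin_cases k <;> simp)]
      exact Set.image_inter P.ι.isOpenEmbedding.injective)] at this
  have hcovO : f ⁻¹ᵁ U ≤ iSup O := fun x hx => by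
    have : (⟨x, hx⟩ : P.toScheme) ∈ iSup W := hcov ▸ trivial
    obtain ⟨i, hi⟩ := Opens.mem_iSup.1 this
    exact Opens.mem_iSup.2 ⟨i, ⟨⟨x, hx⟩, hi, rfl⟩⟩
  let P' := f' ⁻¹ᵁ V
  let O' : ι → X'.Opens := fun i => g' ⁻¹ᵁ O i ⊓ f' ⁻¹ᵁ V
  have hO' : ∀ i, O' i ≤ f' ⁻¹ᵁ V := fun i => inf_le_right
  have hO'₂ : ∀ i j, O' i ⊓ O' j = g' ⁻¹ᵁ (O i ⊓ O j) ⊓ f' ⁻¹ᵁ V := fun i j => by
    change (g' ⁻¹ᵁ O i ⊓ f' ⁻¹ᵁ V) ⊓ (g' ⁻¹ᵁ O j ⊓ f' ⁻¹ᵁ V) = g' ⁻¹ᵁ (O i ⊓ O j) ⊓ f' ⁻¹ᵁ V
    rw [Scheme.Hom.preimage_inf, inf_inf_inf_comm, inf_idem]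
  have hcov' : f' ⁻¹ᵁ V ≤ iSup O' := fun x hx => by
    obtain ⟨i, hi⟩ := Opens.mem_iSup.1 (hcovO (hle hx))
    exact Opens.mem_iSup.2 ⟨i, hi, hx⟩
  let G := (Scheme.Modules.pullback g').obj F
  letI : Algebra A B := (g.appLE U V hVU).hom.toAlgebra
  letI : ∀ i, Module A (SM f' G (O' i) (hO' i) : Type u) := fun i => Module.compHom _ (g.appLE U V hVU).hom
  haveI : ∀ i, IsScalarTower A B (SM f' G (O' i) (hO' i) : Type u) := fun i =>
    IsScalarTower.of_algebraMap_smul fun _ _ => rfl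
  letI : ∀ p : ι × ι, Module A (SM f' G (O' p.1 ⊓ O' p.2) (inf_le_left.trans (hO' p.1)) : Type u) :=
    fun p => Module.compHom _ (g.appLE U V hVU).hom
  haveI : ∀ p : ι × ι, IsScalarTower A B (SM f' G (O' p.1 ⊓ O' p.2) (inf_le_left.trans (hO' p.1)) : Type u) :=
    fun p => IsScalarTower.of_algebraMap_smul fun _ _ => rfl
  letI : Module A (SM f' G (f' ⁻¹ᵁ V) le_rfl : Type u) := Module.compHom _ (g.appLE U V hVU).hom
  haveI : IsScalarTower A B (SM f' G (f' ⁻¹ᵁ V) le_rfl : Type u) :=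
    IsScalarTower.of_algebraMap_smul fun _ _ => rfl
  let ψ₀ : (C0 f F O hO : Type u) →ₗ[A] (∀ i, (SM f' G (O' i) (hO' i) : Type u)) :=
    LinearMap.pi fun i => pullPiece F hVU hsq.w (hO i) (O' := O' i) inf_le_left inf_le_right ∘ₗ LinearMap.proj i
  let ψ₁ : (C1 f F O hO : Type u) →ₗ[A] (∀ p : ι × ι, (SM f' G (O' p.1 ⊓ O' p.2) (inf_le_left.trans (hO' p.1)) : Type u)) :=
    LinearMap.pi fun p => pullPiece F hVU hsq.w (inf_le_left.trans (hO p.1)) (O' := O' p.1 ⊓ O' p.2)
      ((hO'₂ p.1 p.2).le.trans inf_le_left) (inf_le_left.trans (hO' p.1)) ∘ₗ LinearMap.proj p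
  have h₀ : IsBaseChange B ψ₀ := IsBaseChange.pi _ fun i =>
    isBaseChange_pullPiece F hVU hsq hq hU hV (hO i) (hOa i) rfl
  have h₁ : IsBaseChange B ψ₁ := IsBaseChange.pi _ fun p =>
    isBaseChange_pullPiece F hVU hsq hq hU hV (inf_le_left.trans (hO p.1)) (hOa₂ p.1 p.2) (hO'₂ p.1 p.2)
  obtain ⟨hinj, hex⟩ := aug_injective_exact f F O hO hcovO
  obtain ⟨hinj', hex'⟩ := aug_injective_exact f' G O' hO' hcov'
  let ζ : (SM f F (f ⁻¹ᵁ U) le_rfl : Type u) →ₗ[A] (SM f' G (f' ⁻¹ᵁ V) le_rfl : Type u) :=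
    pullPiece F hVU hsq.w le_rfl hle le_rfl
  have hd : ∀ x, d01 f' G O' hO' (ψ₀ x) = ψ₁ (d01 f F O hO x) := fun x => funext fun p => by
      change res G inf_le_left (ModDesc.pullSectLE g' F (O p.1) (O' p.1) inf_le_left (show Γ(F, O p.1) from x p.1)) -
          res G inf_le_right (ModDesc.pullSectLE g' F (O p.2) (O' p.2) inf_le_left (show Γ(F, O p.2) from x p.2)) =
        ModDesc.pullSectLE g' F (O p.1 ⊓ O p.2) (O' p.1 ⊓ O' p.2) _
          (res F inf_le_left (show Γ(F, O p.1) from x p.1) - res F inf_le_right (show Γ(F, O p.2) from x p.2))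
      rw [map_sub, ModDesc.res_pullSectLE g' F (inf_le_left : O p.1 ⊓ O p.2 ≤ O p.1) inf_le_left inf_le_left
          ((hO'₂ p.1 p.2).le.trans inf_le_left),
        ModDesc.res_pullSectLE g' F (inf_le_right : O p.1 ⊓ O p.2 ≤ O p.2) inf_le_right inf_le_left
          ((hO'₂ p.1 p.2).le.trans inf_le_left)]
  have hz : ∀ z, aug f' G O' hO' (ζ z) = ψ₀ (aug f F O hO z) := fun z => funext fun i => ModDesc.res_pullSectLE g' F (hO i) (hO' i) hle inf_le_left (show Γ(F, f ⁻¹ᵁ U) from z)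
  refine ⟨ι, hι, W, hW, hcov, fun hfl hflat => ?_, ?_, ?_⟩
  rotate_left 2
  · obtain ⟨e0, e1, hcomm⟩ := exists_cech_cmp f hU W O hO (fun i => rfl) (F := F)
    let dC := dL A W (F.restrict P.ι) 0
    let α := h₀.equiv.restrictScalars A
    let β := h₁.equiv.restrictScalars A
    have hsq' : ∀ x, d01 f' G O' hO' (α x) = β ((d01 f F O hO).lTensor B x) := fun x => by
      induction x using TensorProduct.induction_on with
      | zero => simp only [map_zero]
      | tmul b m =>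
        change d01 f' G O' hO' (h₀.equiv (b ⊗ₜ m)) = h₁.equiv (b ⊗ₜ d01 f F O hO m)
        rw [IsBaseChange.equiv_tmul, IsBaseChange.equiv_tmul, map_smul, hd]
      | add x y hx hy => simp only [map_add, hx, hy]
    let t0 : B ⊗[A] (C0 f F O hO : Type u) ≃ₗ[A] (CoX A W (F.restrict P.ι) 0 : Type u) ⊗[A] B :=
      (TensorProduct.congr (LinearEquiv.refl A B) e0).trans (TensorProduct.comm A B _)
    let t1 : B ⊗[A] (C1 f F O hO : Type u) ≃ₗ[A] (CoX A W (F.restrict P.ι) 1 : Type u) ⊗[A] B :=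
      (TensorProduct.congr (LinearEquiv.refl A B) e1).trans (TensorProduct.comm A B _)
    have ht : ∀ x, t1 ((d01 f F O hO).lTensor B x) = dC.rTensor B (t0 x) := fun x => by
      induction x using TensorProduct.induction_on with
      | zero => simp only [map_zero]
      | tmul b m => exact congrArg (fun z => z ⊗ₜ[A] b) (hcomm m)
      | add x y hx hy => simp only [map_add, hx, hy]
    let Φ : (SM f' G (f' ⁻¹ᵁ V) le_rfl : Type u) →ₗ[A] (CoX A W (F.restrict P.ι) 0 : Type u) ⊗[A] B :=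
      (α.symm.trans t0).toLinearMap ∘ₗ (aug f' G O' hO').restrictScalars A
    have hΦ : ∀ z, dC.rTensor B (Φ z) = 0 := fun z => by
      refine (ht (α.symm (aug f' G O' hO' z))).symm.trans ?_
      rw [show (d01 f F O hO).lTensor B (α.symm (aug f' G O' hO' z)) = 0 from β.injective (by
        rw [← hsq', α.apply_symm_apply, hex'.apply_apply_eq_zero, map_zero]), map_zero]
    exact ⟨LinearEquiv.ofBijective (Φ.codRestrict (LinearMap.ker (dC.rTensor B)) hΦ)
      ⟨fun x y h => hinj' ((α.symm.trans t0).injective (congrArg Subtype.val h)), fun w => by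
        obtain ⟨v, hx⟩ := (α.symm.trans t0).surjective w.1
        have h1 : (d01 f F O hO).lTensor B (α.symm v) = 0 := t1.injective (by
          rw [ht, map_zero, ← w.2]
          exact congrArg (dC.rTensor B) hx)
        have h2 : d01 f' G O' hO' v = 0 := by
          rw [← α.apply_symm_apply v, hsq', h1, map_zero]
        obtain ⟨z, rfl⟩ := (hex' v).1 h2
        exact ⟨z, Subtype.ext hx⟩⟩⟩
  · haveI : ∀ p : ι × ι, Module.Flat A (SM f F (O p.1 ⊓ O p.2) (inf_le_left.trans (hO p.1)) : Type u) := fun p =>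
      (FlatModB.flat_sections_iff f F hq (hOa₂ p.1 p.2) hU _).2 fun x _ => hfl x
    haveI : Module.Flat A (C1 f F O hO : Type u) := flat_pi A _
    haveI : Module.Flat A ((C1 f F O hO : Type u) ⧸ LinearMap.range (d01 f F O hO)) :=
      flat_coker_d01 f hU W O hO (fun i => rfl) hflat
    exact isBaseChange_ker hinj hex (ι' := aug f' G O' hO') (d' := d01 f' G O' hO') hinj' hex' h₀ h₁ hd ζ hz
  · refine (surjective_liftBaseChange_iff_exact hex (ι' := aug f' G O' hO') (d' := d01 f' G O' hO') hinj' hex'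
      h₀ h₁ hd ζ hz).trans ?_
    obtain ⟨e0, e1, hcomm⟩ := exists_cech_cmp f hU W O hO (fun i => rfl) (F := F)
    let dC := dL A W (F.restrict P.ι) 0
    have haug : ∀ z, dC (e0 (aug f F O hO z)) = 0 := fun z => by
      rw [← hcomm, hex.apply_apply_eq_zero, map_zero]
    let eZ : (SM f F (f ⁻¹ᵁ U) le_rfl : Type u) ≃ₗ[A] LinearMap.ker dC :=
      LinearEquiv.ofBijective ((e0.toLinearMap ∘ₗ aug f F O hO).codRestrict (LinearMap.ker dC) haug)
        ⟨fun x y h => hinj (e0.injective (congrArg Subtype.val h)), fun w => by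
          obtain ⟨x, hx⟩ := e0.surjective w.1
          have : d01 f F O hO x = 0 := e1.injective (by rw [hcomm, hx, map_zero]; exact w.2)
          obtain ⟨z, rfl⟩ := (hex x).1 this
          exact ⟨z, Subtype.ext hx⟩⟩
    let fl : ∀ {M N : Type u} [AddCommGroup M] [Module A M] [AddCommGroup N] [Module A N],
        (M ≃ₗ[A] N) → (B ⊗[A] M ≃ₗ[A] N ⊗[A] B) := fun e =>
      (TensorProduct.congr (LinearEquiv.refl A B) e).trans (TensorProduct.comm A B _)
    exact (Function.Exact.iff_of_ladder_linearEquiv (e₁ := fl eZ) (e₂ := fl e0) (e₃ := fl e1)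
      (TensorProduct.ext' fun b z => rfl)
      (TensorProduct.ext' fun b x => congrArg (fun t => t ⊗ₜ[A] b) (hcomm x).symm)).symm

include f in
/-- Base change of the sections over the preimage of an affine open. -/
theorem isBC_bc0Adj (hq : Coh.IsQCoh F) (hfl : FlatMod.IsFlatOver f F) {U : S.Opens} (hU : IsAffineOpen U)
    (m : ModelNN f F hU) (he : (CohIII.TFun m.L 0).PreservesEpimorphisms)
    {T X' : Scheme.{u}} {g : T ⟶ S} {f' : X' ⟶ T} {g' : X' ⟶ X} (hsq : IsPullback g' f' f g)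
    {V : T.Opens} (hV : IsAffineOpen V) (hVU : V ≤ g ⁻¹ᵁ U) :
    RelTilde.IsBC g (CohBC.bc0Adj f g f' g' hsq.w F) hVU := by
  let A : Type u := Γ(S, U)
  let B : Type u := Γ(T, V)
  let P := f ⁻¹ᵁ U
  let G := (Scheme.Modules.pullback g').obj F
  letI : P.toScheme.Over (Spec (CommRingCat.of Γ(S, U))) := ⟨(f ∣_ U) ≫ hU.isoSpec.hom⟩
  letI : Algebra A B := (g.appLE U V hVU).hom.toAlgebra
  letI : Module A (SM f' G (f' ⁻¹ᵁ V) le_rfl : Type u) := Module.compHom _ (g.appLE U V hVU).hom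
  haveI : IsScalarTower A B (SM f' G (f' ⁻¹ᵁ V) le_rfl : Type u) :=
    IsScalarTower.of_algebraMap_smul fun _ _ => rfl
  have hle : f' ⁻¹ᵁ V ≤ g' ⁻¹ᵁ (f ⁻¹ᵁ U) := by
    rw [← Scheme.Hom.comp_preimage, hsq.w, Scheme.Hom.comp_preimage]
    exact f'.preimage_mono hVU
  obtain ⟨ι, hι, W, hW, hcov, hbc, -⟩ := exists_bc_setup f hq hU hsq hV hVU hle
  haveI := hι
  let ζ : (SM f F (f ⁻¹ᵁ U) le_rfl : Type u) →ₗ[A] (SM f' G (f' ⁻¹ᵁ V) le_rfl : Type u) :=
    pullPiece F hVU hsq.w le_rfl hle le_rfl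
  have hflatC : Module.Flat A (FlatCx.Opc ((CC Γ(S, U) W).obj (F.restrict P.ι)) 0 1) := by
    obtain ⟨η⟩ := m.hT ι W hW hcov 0
    let C := (CC Γ(S, U) W).obj (F.restrict P.ι)
    haveI : (CohIII.TFun m.L ((0 : ℕ) : ℤ)).PreservesEpimorphisms := he
    have he' : (CohIII.TFun C 0).PreservesEpimorphisms := Functor.PreservesEpimorphisms.of_iso η
    have hC : ∀ n, Module.Flat A (C.X n) := fun n => by
      refine flat_CC A W hW (Groth.Agent.QC.isQCoh_restrict _ hq) (fun x => ?_) n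
      exact FlatLimMod.isFlatOverAt_of_iso _ ((Scheme.Modules.restrictFunctorIsoPullback P.ι).app F).symm
        (FlatModBC.isFlatOverAt_baseChange (((isPullback_morphismRestrict f U).flip).of_iso (Iso.refl _)
          (Iso.refl _) hU.isoSpec (Iso.refl _) (g' := hU.fromSpec) (by first | rfl | simp [P]) (by first | rfl | simp [P]) (by first | rfl | simp) (by first | rfl | simp))
          F x (hfl _))
    have h := (FlatCx.preservesEpi_iff_flat_opc C 0 hC
      (by rw [CochainComplex.next ℕ 0]; exact CochainComplex.prev_nat_succ 0)).1 he'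
    rwa [CochainComplex.next ℕ 0] at h
  have hζ : IsBaseChange B ζ := hbc hfl hflatC
  intro Q _ _ w
  letI : Module A Q := Module.compHom Q (g.appLE U V hVU).hom
  haveI : IsScalarTower A B Q := IsScalarTower.of_algebraMap_smul fun _ _ => rfl
  let w' : (SM f F (f ⁻¹ᵁ U) le_rfl : Type u) →ₗ[A] Q :=
    { toFun := fun s => w (show Γ((Scheme.Modules.pushforward f).obj F, U) from s)
      map_add' := fun s t => map_add w _ _
      map_smul' := fun a s => by
        refine (congrArg w ?_).trans (map_smulₛₗ w a (show Γ((Scheme.Modules.pushforward f).obj F, U) from s))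
        change (f.appLE U (f ⁻¹ᵁ U) le_rfl).hom a • (show Γ(F, f ⁻¹ᵁ U) from s) =
          (f.app U).hom a • (show Γ(F, f ⁻¹ᵁ U) from s)
        rw [← f.app_eq_appLE] }
  have hN : ∀ (b : B) (x : Γ(G, f' ⁻¹ᵁ V)),
      (f'.appLE V (f' ⁻¹ᵁ V) le_rfl).hom b • x = (f'.app V).hom b • x := fun b x => by
    rw [← f'.app_eq_appLE]
  let eN : (SM f' G (f' ⁻¹ᵁ V) le_rfl : Type u) ≃ₗ[B]
      Γ((Scheme.Modules.pushforward f').obj G, V) :=
    { toFun := fun x => (show Γ(G, f' ⁻¹ᵁ V) from x)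
      invFun := fun x => (show Γ(G, f' ⁻¹ᵁ V) from x)
      left_inv := fun _ => rfl
      right_inv := fun _ => rfl
      map_add' := fun _ _ => rfl
      map_smul' := fun b x => hN b (show Γ(G, f' ⁻¹ᵁ V) from x) }
  have key : ∀ s : Γ((Scheme.Modules.pushforward f).obj F, U),
      RelTilde.resθ g (CohBC.bc0Adj f g f' g' hsq.w F) hVU s =
        eN (ζ (show (SM f F (f ⁻¹ᵁ U) le_rfl : Type u) from s)) := fun s =>
    res_res G _ _ _
  refine ⟨(hζ.lift w') ∘ₗ eN.symm.toLinearMap, fun s => ?_, fun k hk => LinearMap.ext fun x => ?_⟩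
  · rw [key, LinearMap.comp_apply, LinearEquiv.coe_toLinearMap, LinearEquiv.symm_apply_apply, hζ.lift_eq]
    rfl
  · have h2 : k ∘ₗ eN.toLinearMap = hζ.lift w' := hζ.algHom_ext _ _ fun s => by
      rw [hζ.lift_eq]
      exact (congrArg k (key s).symm).trans (hk s)
    rw [← h2]
    rfl

include f in
/-- Base change of the direct image where `T⁰` is right exact. -/
theorem isIso_bc0_of_epi (hq : Coh.IsQCoh F) (hF : CohB1.IsFP F) (hfl : FlatMod.IsFlatOver f F) (W : S.Opens)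
    (he : ∀ (U : S.Opens) (hU : IsAffineOpen U), U ≤ W → ∀ m : ModelNN f F hU,
      (CohIII.TFun m.L 0).PreservesEpimorphisms)
    {T X' : Scheme.{u}} (g : T ⟶ S) (f' : X' ⟶ T) (g' : X' ⟶ X) (hsq : IsPullback g' f' f g)
    (hg : ∀ t, g t ∈ W) : IsIso (CohBC.bc0 f g f' g' hsq.w F) := by
  haveI : F.IsQuasicoherent := hq
  haveI : IsProper f' := MorphismProperty.of_isPullback (P := @IsProper) hsq ‹_›
  haveI : ((Scheme.Modules.pullback g').obj F).IsQuasicoherent := QC.isQCoh_pullback g' hq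
  refine RelTilde.isIso_adjunct g (CohBC.bc0Adj f g f' g' hsq.w F)
    (QC.isQCoh_pushforward f) (QC.isQCoh_pushforward f') fun x => ?_
  obtain ⟨U, hU, hxU, hUW⟩ := exists_isAffineOpen_mem_and_subset (x := g x) (U := W) (hg x)
  obtain ⟨V, hV, hxV, hVU⟩ := exists_isAffineOpen_mem_and_subset (x := x) (U := g ⁻¹ᵁ U) hxU
  obtain ⟨m⟩ := nonempty_ModelNN f hq hF hfl hU
  exact ⟨U, hU, V, hV, hVU, hxV, isBC_bc0Adj f hq hfl hU m (he U hU hUW m) hsq hV hVU⟩

end Groth.Agent.W7Cech
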