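import Groth.Agent.W7Cech.Preserve
import Groth.Agent.FlatCx.FlatBC

/-!
Cohomology of base changes from the Čech complex; the case of flat cohomology.
-/

set_option autoImplicit false
set_option backward.isDefEq.respectTransparency false
set_option backward.isDefEq.respectTransparency.types false
set_option linter.style.haveILetI false

universe u

open CategoryTheory CategoryTheory.Limits AlgebraicGeometry TopologicalSpace MonoidalCategory
open Groth.Agent.SiteCoh
open scoped TensorProduct

noncomputable section

namespace Groth.Agent.W7Cech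

/-- A quasi-coherent module has no cohomology in degrees at least the size of an affine cover. -/
lemma hh_vanish_cover {X : Scheme.{u}} [X.IsSeparated] {ι : Type u} [Finite ι] (U : ι → X.Opens)
    (hU : ∀ i, IsAffineOpen (U i)) (hcov : iSup U = ⊤) (M : X.Modules) (hM : Coh.IsQCoh M) (n : ℕ)
    (hn : Nat.card ι ≤ n) : Subsingleton (Coh.HH X M n) := by
  haveI : M.IsQuasicoherent := hM
  let σ := Finite.equivFin ι
  have hs : (⨆ i, U (σ.symm i)) = (⊤ : X.Opens) := by rw [← hcov]; exact σ.symm.iSup_comp (g := U)
  have := CohQC.hu_affine_cover_vanish M (Nat.card ι) (fun i => U (σ.symm i)) (fun i => hU _)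
    (fun V W hV hW => hV.inf hW) n hn
  exact (huTerminalEquiv (Opens.grothendieckTopology X) (hs.symm ▸ isTerminalTop) (Coh.toAb M) n).injective.subsingleton

variable (A B : Type u) [CommRing A] [CommRing B] [Algebra A B] {X X' : Scheme.{u}}
  [X.Over (Spec (CommRingCat.of A))] [X'.Over (Spec (CommRingCat.of B))]
  {ι : Type u} [Finite ι] (U : ι → X.Opens)
  (hU : ∀ (n : ℕ) (a : Fin (n + 1) → ι), IsAffineOpen (tupleProd U a)) (hcov : iSup U = ⊤)

omit [Algebra A B] in
/-- `K ⊗ B ≅ K` for a complex over `B`. -/
def ridIso {κ : Type} {c : ComplexShape κ} (K : HomologicalComplex (ModuleCat.{u} B) c) :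
    CohIII.tensorObj K (ModuleCat.of B B) ≅ K :=
  HomologicalComplex.Hom.isoOfComponents
    (fun n => (TensorProduct.rid B (K.X n : Type u)).toModuleIso) fun i j hij => by
      refine ModuleCat.hom_ext (TensorProduct.ext' fun x b => ?_)
      exact ((K.d i j).hom.map_smul b x).trans rfl

include hU hcov in
/-- The cohomology of the base change is `H^p(C ⊗_A B)`. -/
theorem nonempty_hh_bc (g : X' ⟶ X)
    (sq : IsPullback g (X' ↘ Spec (CommRingCat.of B)) (X ↘ Spec (CommRingCat.of A))
      (Spec.map (CommRingCat.ofHom (algebraMap A B))))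
    (F : X.Modules) (hF : Coh.IsQCoh F) (p : ℕ) :
    Nonempty (Coh.HH X' ((Scheme.Modules.pullback g).obj F) p ≃+
      CohIII.T ((CC A U).obj F) p (ModuleCat.of A B)) := by
  obtain ⟨eH, -⟩ := exists_hhEquiv B (pre g U) (isAffineOpen_pre A B g sq U hU) (iSup_pre g U hcov) p
  obtain ⟨η⟩ := nonempty_TFun_bc A B g U F sq hU hF p
  let N₀ : ModuleCat.{u} A := (ModuleCat.restrictScalars (algebraMap A B)).obj (ModuleCat.of B B)
  let r : N₀ ≅ ModuleCat.of A B :=
    { hom := ConcreteCategory.ofHom (C := ModuleCat.{u} A)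
        { toFun := fun x => x
          map_add' := fun _ _ => rfl
          map_smul' := fun a b => (Algebra.smul_def (A := B) a b).symm }
      inv := ConcreteCategory.ofHom (C := ModuleCat.{u} A)
        { toFun := fun x => x
          map_add' := fun _ _ => rfl
          map_smul' := fun a b => Algebra.smul_def (A := B) a b }
      hom_inv_id := rfl
      inv_hom_id := rfl }
  let C' := (CC B (pre g U)).obj ((Scheme.Modules.pullback g).obj F)
  exact ⟨(((eH _ (QC.isQCoh_pullback g hF)).symm.toAddEquiv.trans
    (HomologicalComplex.homologyMapIso (ridIso B C') p).symm.toLinearEquiv.toAddEquiv).trans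
      ((η.app (ModuleCat.of B B)).symm ≪≫ (CohIII.TFun ((CC A U).obj F) p).mapIso r).toLinearEquiv.toAddEquiv)⟩

include hU hcov in
/-- If all the cohomology is flat, it commutes with tensoring. -/
theorem nonempty_T_of_flat [X.IsSeparated] (F : X.Modules) (hF : Coh.IsQCoh F)
    (hfl : FlatMod.IsFlatOver (X ↘ Spec (CommRingCat.of A)) F)
    (hH : ∀ p : ℕ, Module.Flat A (Coh.HH X F p)) (p : ℕ) (M : ModuleCat.{u} A) :
    Nonempty ((CohIII.T ((CC A U).obj F) p M : Type u) ≃ₗ[A] Coh.HH X F p ⊗[A] M) := by
  let C := (CC A U).obj F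
  have hC : ∀ n, Module.Flat A (C.X n) := fun n => flat_CC A U hU hF hfl n
  have hU1 : ∀ i, IsAffineOpen (U i) := fun i => by
    have := hU 0 fun _ => i
    rwa [tupleProd_eq_iInf, iInf_const] at this
  choose e _ using exists_TEquiv A U hU hcov F hF
  choose eH _ using exists_hhEquiv A U hU hcov
  have hHm : ∀ n, Module.Flat A (FlatCx.Hm C n) := fun n => by
    haveI := hH n
    haveI : Module.Flat A (C.homology n : Type u) := Module.Flat.of_linearEquiv (eH n F hF)
    exact Module.Flat.of_linearEquiv (FlatCx.homologyHmEquiv C n).symm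
  have hc : ∀ j : ℕ, (ComplexShape.up ℕ).prev ((ComplexShape.up ℕ).next j) = j := fun j => by simp
  have hopc : ∀ j : ℕ, Module.Flat A (FlatCx.Opc C j ((ComplexShape.up ℕ).next j)) := by
    suffices h : ∀ k j : ℕ, Nat.card ι ≤ j + k → Module.Flat A (FlatCx.Opc C j ((ComplexShape.up ℕ).next j)) from
      fun j => h (Nat.card ι) j (Nat.le_add_left _ _)
    intro k
    induction k with
    | zero =>
      intro j hj
      refine (FlatCx.preservesEpi_iff_flat_opc C j hC (hc j)).1 ⟨fun {M N} f _ => ?_⟩
      haveI := hh_vanish_cover U hU1 hcov _ (isQCoh_tensorAFunctor A F hF N) j (by omega)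
      haveI : Subsingleton ((CohIII.TFun C j).obj N) := (e j N).injective.subsingleton
      exact (ModuleCat.epi_iff_surjective _).2 fun y => ⟨0, Subsingleton.elim _ _⟩
    | succ k ih =>
      intro j hj
      haveI := ih (j + 1) (by omega)
      have h1 := (FlatCx.preservesMono_iff_flat_Hm C (j + 1) hC (ih (j + 1) (by omega))).2 (hHm (j + 1))
      have h2 := (FlatCx.preservesMono_iff_flat_opc hC rfl rfl).1 h1
      rwa [CochainComplex.prev_nat_succ, show j + 1 = (ComplexShape.up ℕ).next j by simp] at h2
  let i := (FlatCx.tensorIso C p hC (hopc p)).app M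
  exact ⟨(i.symm.toLinearEquiv).trans
    (TensorProduct.congr ((FlatCx.homologyHmEquiv C p).symm.trans (eH p F hF)) (LinearEquiv.refl A (M : Type u)))⟩

end Groth.Agent.W7Cech
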