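import Groth.Agent.SiteCoh.RestrOpen
import Groth.Prelude.Def_CohTop
import Mathlib.CategoryTheory.Abelian.RightDerived

/-!
Higher direct images of abelian sheaves commute with restriction to an open of the base.
-/

set_option autoImplicit false
set_option backward.isDefEq.respectTransparency false
set_option backward.isDefEq.respectTransparency.types false
set_option linter.style.haveILetI false

universe u

open CategoryTheory CategoryTheory.Limits Opposite TopologicalSpace

noncomputable section

namespace Groth.Agent.W7Cech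

variable {X Y : TopCat.{u}} (f : X ⟶ Y) (V : Opens Y)

/-- The restriction of `f` over `V`. -/
abbrev overMap : TopCat.of ((Opens.map f).obj V) ⟶ TopCat.of V :=
  TopCat.ofHom ⟨(V : Set Y).restrictPreimage f, f.hom.continuous.restrictPreimage⟩

lemma preimage_image (W : Opens V) :
    ((Opens.map f).obj (V.overEquivalence.inverse.obj W).left) =
      (((Opens.map f).obj V).overEquivalence.inverse.obj ((Opens.map (overMap f V)).obj W)).left := by
  ext x
  refine ⟨fun ⟨w, hw, hwx⟩ => ⟨⟨x, show f x ∈ V from hwx ▸ w.2⟩, ?_, rfl⟩, fun ⟨y, hy, hyx⟩ => ?_⟩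
  · change (overMap f V) ⟨x, show f x ∈ V from hwx ▸ w.2⟩ ∈ W
    exact Set.mem_of_eq_of_mem (Subtype.ext hwx.symm) hw
  · subst hyx
    exact ⟨_, hy, rfl⟩

/-- Direct image commutes with restriction over an open of the base. -/
def pushRestrIso : CohTop.push f ⋙ CohTop.restrFunctor V ≅
    CohTop.restrFunctor ((Opens.map f).obj V) ⋙ CohTop.push (overMap f V) :=
  NatIso.ofComponents (fun G => (fullyFaithfulSheafToPresheaf _ _).preimageIso
    (NatIso.ofComponents (fun W => G.obj.mapIso (eqToIso (congrArg op (preimage_image f V W.unop))))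
      fun {W W'} h => (G.obj.map_comp _ _).symm.trans ((congrArg G.obj.map (Subsingleton.elim _ _)).trans
        (G.obj.map_comp _ _))))
    fun {G G'} φ => (sheafToPresheaf _ _).map_injective (NatTrans.ext (funext fun W =>
      (φ.hom.naturality (eqToHom (congrArg op (preimage_image f V W.unop)))).symm))

instance : (CohTop.push (overMap f V)).Additive := ⟨fun {_ _ _ _} => rfl⟩

/-- `(R^p f_* F)|_V ≅ R^p (f|V)_* (F|_{f⁻¹V})`. -/
theorem nonempty_rpush_restr (F : CohTop.Ab X) (p : ℕ) :
    Nonempty (CohTop.restr ((CohTop.Rpush f p).obj F) V ≅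
      (CohTop.Rpush (overMap f V) p).obj (CohTop.restr F ((Opens.map f).obj V))) := by
  let U := (Opens.map f).obj V
  let R := injectiveResolution F
  let r := CohTop.restrFunctor U
  let rV := CohTop.restrFunctor V
  haveI : r.PreservesHomology :=
    (Functor.exact_tfae r).out 0 2 |>.1 fun S hS => SiteCoh.restrFunctor_shortExact U hS
  haveI : rV.PreservesHomology :=
    (Functor.exact_tfae rV).out 0 2 |>.1 fun S hS => SiteCoh.restrFunctor_shortExact V hS
  let ι : (CochainComplex.single₀ _).obj (r.obj F) ⟶ (r.mapHomologicalComplex _).obj R.cocomplex :=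
    (HomologicalComplex.singleMapHomologicalComplex r (ComplexShape.up ℕ) 0).inv.app F ≫
      (r.mapHomologicalComplex _).map R.ι
  haveI : ∀ i, Injective (((r.mapHomologicalComplex (ComplexShape.up ℕ)).obj R.cocomplex).X i) := fun i =>
    SiteCoh.restrFunctor_injective U (R.cocomplex.X i)
  haveI : QuasiIso ι := inferInstanceAs (QuasiIso (_ ≫ _))
  let R' : InjectiveResolution (r.obj F) :=
    { cocomplex := (r.mapHomologicalComplex _).obj R.cocomplex
      ι := ι }
  let P := ((CohTop.push f).mapHomologicalComplex (ComplexShape.up ℕ)).obj R.cocomplex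
  exact ⟨rV.mapIso (R.isoRightDerivedObj (CohTop.push f) p) ≪≫ ((P.sc p).mapHomologyIso rV).symm ≪≫
    (HomologicalComplex.homologyFunctor _ _ p).mapIso
      ((NatIso.mapHomologicalComplex (pushRestrIso f V) (ComplexShape.up ℕ)).app R.cocomplex) ≪≫
    (R'.isoRightDerivedObj (CohTop.push (overMap f V)) p).symm⟩

end Groth.Agent.W7Cech
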