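import Groth.Agent.W7Cech.Approx

/-!
`M ↦ H^p(X, F ⊗_A M)` is `H^p(L ⊗_A M)` as a functor to abelian groups.
-/

set_option autoImplicit false
set_option backward.isDefEq.respectTransparency false
set_option backward.isDefEq.respectTransparency.types false

universe u

open CategoryTheory CategoryTheory.Limits AlgebraicGeometry

noncomputable section

namespace Groth.Agent.W7Cech

variable (A : Type u) [CommRing A] [IsNoetherianRing A] {X : Scheme.{u}}
  [X.Over (Spec (CommRingCat.of A))] [IsProper (X ↘ Spec (CommRingCat.of A))]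

/-- The functors `H^p(X, F ⊗_A -)` from one complex of finite free modules. -/
theorem exists_natIso (F : X.Modules) (hF : Coh.IsCoh F)
    (hfl : FlatMod.IsFlatOver (X ↘ Spec (CommRingCat.of A)) F) :
    ∃ (L : CochainComplex (ModuleCat.{u} A) ℤ) (b : ℤ),
      (∀ i, Module.Finite A (L.X i) ∧ Module.Free A (L.X i)) ∧ (∀ i, b < i → IsZero (L.X i)) ∧
      (∀ (n : ℤ), n < 0 → ∀ M : ModuleCat.{u} A, IsZero (CohIII.T L n M)) ∧
      ∀ p : ℕ, Nonempty (CohIII.tensorAFunctor A F ⋙ CohIII.HAb X p ≅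
        CohIII.TFun L (p : ℤ) ⋙ forget₂ (ModuleCat.{u} A) AddCommGrpCat.{u}) := by
  obtain ⟨L, b, hLf, hLb, hneg, he⟩ := exists_approx A F hF hfl
  refine ⟨L, b, hLf, hLb, hneg, fun p => ?_⟩
  obtain ⟨e, hn⟩ := he p
  refine ⟨NatIso.ofComponents (fun M => (e M).symm.toAddEquiv.toAddCommGrpIso) fun {M N} g => ?_⟩
  refine ConcreteCategory.hom_ext _ _ fun x => ?_
  obtain ⟨y, rfl⟩ := (e M).surjective x
  change (e N).symm (Sheaf.H.map ((SheafOfModules.toSheaf _).map ((CohIII.tensorAFunctor A F).map g)) p (e M y)) =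
    ((CohIII.TFun L (p : ℤ)).map g).hom ((e M).symm (e M y))
  rw [← hn, LinearEquiv.symm_apply_apply, LinearEquiv.symm_apply_apply]

omit [IsNoetherianRing A] in
lemma flat_of_free {L : CochainComplex (ModuleCat.{u} A) ℤ}
    (h : ∀ i, Module.Finite A (L.X i) ∧ Module.Free A (L.X i)) (i : ℤ) :
    Module.Finite A (L.X i) ∧ Module.Flat A (L.X i) :=
  haveI := (h i).2
  ⟨(h i).1, inferInstance⟩

omit [IsNoetherianRing A] in
lemma preservesEpi_comp_forget_iff (T : ModuleCat.{u} A ⥤ ModuleCat.{u} A) :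
    (T ⋙ forget₂ (ModuleCat.{u} A) AddCommGrpCat.{u}).PreservesEpimorphisms ↔ T.PreservesEpimorphisms :=
  ⟨fun h => ⟨fun {M N} g hg => (ModuleCat.epi_iff_surjective _).2
      ((AddCommGrpCat.epi_iff_surjective _).1 (h.preserves g))⟩,
    fun h => ⟨fun {M N} g hg => (AddCommGrpCat.epi_iff_surjective _).2
      ((ModuleCat.epi_iff_surjective _).1 (h.preserves g))⟩⟩

omit [IsNoetherianRing A] in
lemma preservesMono_comp_forget_iff (T : ModuleCat.{u} A ⥤ ModuleCat.{u} A) :
    (T ⋙ forget₂ (ModuleCat.{u} A) AddCommGrpCat.{u}).PreservesMonomorphisms ↔ T.PreservesMonomorphisms :=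
  ⟨fun h => ⟨fun {M N} g hg => (ModuleCat.mono_iff_injective _).2
      ((AddCommGrpCat.mono_iff_injective _).1 (h.preserves g))⟩,
    fun h => ⟨fun {M N} g hg => (AddCommGrpCat.mono_iff_injective _).2
      ((ModuleCat.mono_iff_injective _).1 (h.preserves g))⟩⟩

end Groth.Agent.W7Cech
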