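import Groth.Agent.W7Cech.BCComplex
import Groth.Agent.W7Cech.Functor

/-!
The functors `H^p(X, F ⊗_A -)` through the Čech complex, and exactness properties under base change.
-/

set_option autoImplicit false
set_option backward.isDefEq.respectTransparency false
set_option backward.isDefEq.respectTransparency.types false

universe u

open CategoryTheory CategoryTheory.Limits AlgebraicGeometry
open Groth.Agent.SiteCoh

noncomputable section

namespace Groth.Agent.W7Cech

variable (A : Type u) [CommRing A] {X : Scheme.{u}} [X.Over (Spec (CommRingCat.of A))]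
  {ι : Type u} [Finite ι] (U : ι → X.Opens)
  (hU : ∀ (n : ℕ) (a : Fin (n + 1) → ι), IsAffineOpen (tupleProd U a)) (hcov : iSup U = ⊤)

include hU hcov in
/-- `H^p(X, F ⊗_A -)` as a functor, from the Čech complex. -/
theorem nonempty_natIso (F : X.Modules) (hF : Coh.IsQCoh F) (p : ℕ) :
    Nonempty (CohIII.tensorAFunctor A F ⋙ CohIII.HAb X p ≅
      CohIII.TFun ((CC A U).obj F) p ⋙ forget₂ (ModuleCat.{u} A) AddCommGrpCat.{u}) := by
  obtain ⟨e, hn⟩ := exists_TEquiv A U hU hcov F hF p
  refine ⟨NatIso.ofComponents (fun M => (e M).symm.toAddEquiv.toAddCommGrpIso) fun {M N} g => ?_⟩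
  refine ConcreteCategory.hom_ext _ _ fun x => ?_
  obtain ⟨y, rfl⟩ := (e M).surjective x
  change (e N).symm (Sheaf.H.map ((SheafOfModules.toSheaf _).map ((CohIII.tensorAFunctor A F).map g)) p (e M y)) =
    ((CohIII.TFun ((CC A U).obj F) p).map g).hom ((e M).symm (e M y))
  rw [← hn, LinearEquiv.symm_apply_apply, LinearEquiv.symm_apply_apply]

variable (B : Type u) [CommRing B] [Algebra A B] {X' : Scheme.{u}} [X'.Over (Spec (CommRingCat.of B))]
  (g : X' ⟶ X) (sq : IsPullback g (X' ↘ Spec (CommRingCat.of B)) (X ↘ Spec (CommRingCat.of A))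
    (Spec.map (CommRingCat.ofHom (algebraMap A B))))

include hU hcov sq in
/-- Right and left exactness of `H^p(X, F ⊗_A -)` pass to base changes. -/
theorem preserves_bc (F : X.Modules) (hF : Coh.IsQCoh F) (p : ℕ) :
    ((CohIII.tensorAFunctor A F ⋙ CohIII.HAb X p).PreservesEpimorphisms →
      (CohIII.tensorAFunctor B ((Scheme.Modules.pullback g).obj F) ⋙ CohIII.HAb X' p).PreservesEpimorphisms) ∧
    ((CohIII.tensorAFunctor A F ⋙ CohIII.HAb X p).PreservesMonomorphisms →
      (CohIII.tensorAFunctor B ((Scheme.Modules.pullback g).obj F) ⋙ CohIII.HAb X' p).PreservesMonomorphisms) := by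
  obtain ⟨eA⟩ := nonempty_natIso A U hU hcov F hF p
  obtain ⟨eB⟩ := nonempty_natIso B (pre g U) (isAffineOpen_pre A B g sq U hU) (iSup_pre g U hcov) _
    (QC.isQCoh_pullback g hF) p
  obtain ⟨η⟩ := nonempty_TFun_bc A B g U F sq hU hF p
  rw [Functor.PreservesEpimorphisms.iso_iff eA, preservesEpi_comp_forget_iff,
    Functor.PreservesEpimorphisms.iso_iff eB, preservesEpi_comp_forget_iff,
    Functor.PreservesMonomorphisms.iso_iff eA, preservesMono_comp_forget_iff,
    Functor.PreservesMonomorphisms.iso_iff eB, preservesMono_comp_forget_iff]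
  refine ⟨fun h => ⟨fun {M N} f hf => (ModuleCat.epi_iff_surjective _).2 ?_⟩,
    fun h => ⟨fun {M N} f hf => (ModuleCat.mono_iff_injective _).2 ?_⟩⟩
  · haveI : Epi ((ModuleCat.restrictScalars (algebraMap A B)).map f) :=
      (ModuleCat.epi_iff_surjective _).2 ((ModuleCat.epi_iff_surjective f).1 hf : _)
    haveI := h.preserves ((ModuleCat.restrictScalars (algebraMap A B)).map f)
    have h1 := ((MorphismProperty.epimorphisms (ModuleCat.{u} A)).arrow_mk_iso_iff
      (Arrow.isoMk (η.app M) (η.app N) (η.hom.naturality f).symm)).1 this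
    exact (ModuleCat.epi_iff_surjective ((ModuleCat.restrictScalars (algebraMap A B)).map _)).1 h1
  · haveI : Mono ((ModuleCat.restrictScalars (algebraMap A B)).map f) :=
      (ModuleCat.mono_iff_injective _).2 ((ModuleCat.mono_iff_injective f).1 hf : _)
    haveI := h.preserves ((ModuleCat.restrictScalars (algebraMap A B)).map f)
    have h1 := ((MorphismProperty.monomorphisms (ModuleCat.{u} A)).arrow_mk_iso_iff
      (Arrow.isoMk (η.app M) (η.app N) (η.hom.naturality f).symm)).1 this
    exact (ModuleCat.mono_iff_injective ((ModuleCat.restrictScalars (algebraMap A B)).map _)).1 h1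

end Groth.Agent.W7Cech
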