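import Groth.Agent.W7Cech.Functor
import Groth.Agent.W7Cech.Corep
import Groth.Agent.KInj.Countable
import Mathlib.Algebra.Category.ModuleCat.AB
import Mathlib.CategoryTheory.Limits.Preserves.Shapes.Products
import Mathlib.CategoryTheory.Limits.Yoneda

/-!
`M ↦ H_j(P ⊗ M)` commutes with products when `P` is degreewise finite projective.
-/

set_option autoImplicit false
set_option linter.style.haveILetI false
set_option backward.isDefEq.respectTransparency false

universe u

open CategoryTheory CategoryTheory.Limits Opposite
open scoped TensorProduct

noncomputable section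

namespace Groth.Agent.W7Cech

variable {A : Type u} [CommRing A]

/-- Tensoring with a finite projective module is corepresentable. -/
theorem nonempty_tensorLeft_iso (C : ModuleCat.{u} A) [Module.Finite A C] [Module.Projective A C] :
    Nonempty (MonoidalCategory.tensorLeft C ≅
      (linearCoyoneda A (ModuleCat.{u} A)).obj (op (ModuleCat.of A (Module.Dual A C)))) := by
  refine ⟨NatIso.ofComponents (fun M =>
    ((LinearEquiv.ofBijective (Corep.eps (A := A) C M) (Corep.eps_bijective (A := A) C M)).trans
      (ModuleCat.homLinearEquiv (M := ModuleCat.of A (Module.Dual A C)) (N := M) (S := A)).symm).toModuleIso)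
    fun {M N} g => ?_⟩
  refine ModuleCat.hom_ext (LinearMap.ext fun x => ?_)
  exact ModuleCat.hom_ext (Corep.eps_natural (A := A) C g.hom x)

/-- The tensor functor into complexes. -/
def tensorCx {ι : Type} {c : ComplexShape ι} (P : HomologicalComplex (ModuleCat.{u} A) c) :
    ModuleCat.{u} A ⥤ HomologicalComplex (ModuleCat.{u} A) c where
  obj M := CohIII.tensorObj P M
  map g := CohIII.tensorMap P g
  map_id M := by
    refine HomologicalComplex.hom_ext _ _ fun i => ?_
    exact MonoidalCategory.whiskerLeft_id (P.X i) M
  map_comp g h := by
    refine HomologicalComplex.hom_ext _ _ fun i => ?_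
    exact MonoidalCategory.whiskerLeft_comp (P.X i) g h

/-- Homology of a finite projective complex tensored with a module commutes with products. -/
theorem preservesProducts_TFun {ι : Type} {c : ComplexShape ι} (P : HomologicalComplex (ModuleCat.{u} A) c)
    (h : ∀ i, Module.Finite A (P.X i) ∧ Module.Projective A (P.X i)) (p : ι) (J : Type u) :
    PreservesLimitsOfShape (Discrete J) (CohIII.TFun P p) := by
  haveI : ∀ i, PreservesLimitsOfShape (Discrete J) (tensorCx P ⋙ HomologicalComplex.eval (ModuleCat.{u} A) c i) :=
    fun i => by
      haveI := (h i).1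
      haveI := (h i).2
      obtain ⟨e⟩ := nonempty_tensorLeft_iso (P.X i)
      haveI : PreservesLimitsOfShape (Discrete J)
          ((linearCoyoneda A (ModuleCat.{u} A)).obj (op (ModuleCat.of A (Module.Dual A (P.X i))))) := by
        haveI : PreservesLimitsOfShape (Discrete J)
            ((linearCoyoneda A (ModuleCat.{u} A)).obj (op (ModuleCat.of A (Module.Dual A (P.X i)))) ⋙
              forget (ModuleCat.{u} A)) :=
          (inferInstance : PreservesLimitsOfShape (Discrete J)
            (coyoneda.obj (op (ModuleCat.of A (Module.Dual A (P.X i))))))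
        exact preservesLimitsOfShape_of_reflects_of_preserves _ (forget (ModuleCat.{u} A))
      exact preservesLimitsOfShape_of_natIso e.symm
  haveI : PreservesLimitsOfShape (Discrete J) (tensorCx P) :=
    ⟨fun {D} => ⟨fun {s} hs => ⟨HomologicalComplex.isLimitOfEval _ _ fun i =>
      isLimitOfPreserves (tensorCx P ⋙ HomologicalComplex.eval _ _ i) hs⟩⟩⟩
  haveI := Groth.Agent.KInjProd.preservesLimitsOfShape_homology (A := ModuleCat.{u} A) (J := Discrete J) c p
  exact (inferInstance :
    PreservesLimitsOfShape (Discrete J) (tensorCx P ⋙ HomologicalComplex.homologyFunctor (ModuleCat.{u} A) c p))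

end Groth.Agent.W7Cech
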