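import Groth.Agent.ModSiteTensor.Basic
import Mathlib.Algebra.Category.ModuleCat.Abelian
import Mathlib.Algebra.Category.ModuleCat.ChangeOfRings
import Mathlib.CategoryTheory.Abelian.Basic

/-!
A natural transformation between colimit-preserving functors on modules is an isomorphism as soon
as it is one at the ring.
-/

set_option autoImplicit false

universe u v w

open CategoryTheory CategoryTheory.Limits

namespace Groth.Agent.W7Cech

variable {A : Type u} [CommRing A] {D : Type w} [Category.{v} D]
  {F G : ModuleCat.{u} A ⥤ D} [PreservesColimitsOfSize.{u, u} F] [PreservesColimitsOfSize.{u, u} G]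

/-- Testing a natural transformation at the ring suffices. -/
theorem isIso_app_of_ring (τ : F ⟶ G) (h : IsIso (τ.app (ModuleCat.of A A))) (M : ModuleCat.{u} A) :
    IsIso (τ.app M) := by
  haveI : PreservesColimitsOfSize.{0, 0} F := preservesSmallestColimits_of_preservesColimits _
  haveI : PreservesColimitsOfSize.{0, 0} G := preservesSmallestColimits_of_preservesColimits _
  let P : Type u → ModuleCat.{u} A := fun I => ∐ fun _ : I => ModuleCat.of A A
  have hP : ∀ I : Type u, IsIso (τ.app (P I)) := fun I => by
    haveI : ∀ j, IsIso (τ.app ((Discrete.functor fun _ : I => ModuleCat.of A A).obj j)) := fun _ => h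
    exact ModSiteTensor.isIso_app_of_isColimit τ (Discrete.functor fun _ : I => ModuleCat.of A A)
      (c := colimit.cocone _) (colimit.isColimit _)
  have hepi : ∀ N : ModuleCat.{u} A,
      ∃ q : P N ⟶ N, Epi q := fun N => by
    refine ⟨Sigma.desc fun n : N => ModuleCat.ofHom (LinearMap.toSpanSingleton A N n), ?_⟩
    rw [ModuleCat.epi_iff_surjective]
    intro n
    refine ⟨(Sigma.ι (fun _ : N => ModuleCat.of A A) n).hom 1, ?_⟩
    refine (congr($(Sigma.ι_desc (fun n : N => ModuleCat.ofHom (LinearMap.toSpanSingleton A N n)) n).hom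
      (1 : A))).trans ?_
    exact LinearMap.toSpanSingleton_apply_one A N n
  obtain ⟨q, hq⟩ := hepi M
  obtain ⟨r, hr⟩ := hepi (kernel q)
  let hc : IsColimit (CokernelCofork.ofπ (f := kernel.ι q) q (kernel.condition q)) :=
    Abelian.epiIsCokernelOfKernel (KernelFork.ofι (kernel.ι q) (kernel.condition q)) (kernelIsKernel q)
  let hc' := isCokernelEpiComp hc r (h := r ≫ kernel.ι q) rfl
  haveI : ∀ j, IsIso (τ.app ((parallelPair (r ≫ kernel.ι q) 0).obj j)) := by
    rintro (_ | _) <;> exact hP _
  exact ModSiteTensor.isIso_app_of_isColimit τ (parallelPair (r ≫ kernel.ι q) 0)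
    (c := CokernelCofork.ofπ (f := r ≫ kernel.ι q) q (by simp)) hc'

end Groth.Agent.W7Cech
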