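import Groth.Agent.FlatLimMod.Stage
import Groth.Agent.ConsMod.Model
import Groth.Agent.ProperModel.Basic
import Groth.Agent.LimMore.Compact
import Groth.Agent.LimMore.OverBase

/-!
Noetherian approximation of a proper morphism of finite presentation over an affine scheme together
with a flat module of finite presentation.
-/

set_option autoImplicit false
set_option backward.isDefEq.respectTransparency false
set_option linter.style.haveILetI false

universe u

open CategoryTheory CategoryTheory.Limits AlgebraicGeometry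

noncomputable section

namespace Groth.Agent.W7Cech

/-- A proper finitely presented scheme over `Spec A` with a flat finitely presented module comes from
a finitely generated subring. -/
theorem exists_proper_flat_pair {A : Type u} [CommRing A] {X : Scheme.{u}}
    (f : X ⟶ Spec (CommRingCat.of A)) [IsProper f] [LocallyOfFinitePresentation f] (F : X.Modules)
    [Coh.IsQCoh F] (hF : CohB1.IsFP F) (hfl : FlatMod.IsFlatOver f F) :
    ∃ (A₀ : Subalgebra ℤ A) (_ : A₀.FG) (_ : IsNoetherianRing ↥A₀) (X₀ : Scheme.{u})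
      (f₀ : X₀ ⟶ Spec (CommRingCat.of ↥A₀)) (_ : IsProper f₀) (q : X ⟶ X₀) (F₀ : X₀.Modules),
      IsPullback q f f₀ (Spec.map (CommRingCat.ofHom A₀.val.toRingHom)) ∧ Coh.IsCoh F₀ ∧
        FlatMod.IsFlatOver f₀ F₀ ∧ Nonempty ((Scheme.Modules.pullback q).obj F₀ ≅ F) := by
  let f' : X ⟶ (LimModel.fgCone A).pt := f
  haveI : IsCofiltered (LimModel.FgSub A)ᵒᵖ := isCofiltered_op_of_isFiltered _
  let D := LimModel.fgDiagram A
  let c := LimModel.fgCone A
  let hc := LimModel.fgIsLimit A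
  haveI : ∀ {i j : (LimModel.FgSub A)ᵒᵖ} (f : i ⟶ j), IsAffineHom (D.map f) := fun f =>
    inferInstanceAs (IsAffineHom ((LimModel.fgDiagram A).map f))
  haveI : ∀ i, CompactSpace (D.obj i) := fun i => inferInstanceAs (CompactSpace ((LimModel.fgDiagram A).obj i))
  haveI : ∀ i, QuasiSeparatedSpace (D.obj i) := fun i =>
    inferInstanceAs (QuasiSeparatedSpace ((LimModel.fgDiagram A).obj i))
  haveI : ∀ i : (LimModel.FgSub A)ᵒᵖ, IsLocallyNoetherian (D.obj i) := fun i => by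
    have := Algebra.FiniteType.isNoetherianRing ℤ i.unop.1
      (h := i.unop.1.fg_iff_finiteType.mp i.unop.2)
    exact inferInstanceAs (IsLocallyNoetherian (Spec (CommRingCat.of i.unop.1)))
  haveI : IsProper f' := ‹IsProper f›
  haveI : LocallyOfFinitePresentation f' := ‹LocallyOfFinitePresentation f›
  obtain ⟨j, X₀, f₀, qX, F₀, h1, h2, h3, hq, hqc, hfp, ⟨eF⟩⟩ :=
    ConsMod.exists_model_pair_cone D c hc f' F hF
  haveI := h1; haveI := h2; haveI := h3
  haveI : LocallyOfFinitePresentation (f₀ ≫ 𝟙 (D.obj j)) := by rw [Category.comp_id]; exact h1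
  haveI : QuasiCompact (f₀ ≫ 𝟙 (D.obj j)) := by rw [Category.comp_id]; exact h2
  haveI : CompactSpace X₀ := QuasiCompact.compactSpace_of_compactSpace f₀
  have hY : IsPullback (c.π.app j) (𝟙 c.pt) (𝟙 (D.obj j)) (c.π.app j) := IsPullback.id_vert _
  let hc' := LimDesc.isPullback_comp D (𝟙 (D.obj j)) c hY f₀ hq
  haveI : ∀ k, IsIso (LimDesc.toStage D (𝟙 (D.obj j)) k) := fun k =>
    (LimDesc.isPullback_stage D (𝟙 (D.obj j)) k).isIso_snd_of_isIso
  obtain ⟨j₁, hj₁⟩ := LimMore.exists_isSeparated_of_compactSpace D c hc f₀ (𝟙 (D.obj j)) hY hq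
  obtain ⟨j₂, hj₂⟩ := FlatLimMod.exists_isFlatOver_stage D c hc f₀ (𝟙 (D.obj j)) hY hq F₀
    hqc hfp fun y => FlatLimMod.isFlatOverAt_of_iso f eF.symm (hfl y)
  obtain ⟨l, e₁, e₂, -⟩ := IsCofilteredOrEmpty.cone_objs j₁ j₂
  let X₁ := LimDesc.stage D (f₀ ≫ 𝟙 (D.obj j)) l
  let f₁ : X₁ ⟶ D.obj l.left := LimDesc.toStage D (f₀ ≫ 𝟙 (D.obj j)) l
  let q₁ := LimDesc.proj D (f₀ ≫ 𝟙 (D.obj j)) c hc' l
  let F₁ := (Scheme.Modules.pullback (LimDesc.toBase D (f₀ ≫ 𝟙 (D.obj j)) l)).obj F₀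
  haveI : IsSeparated f₁ := by
    haveI : IsSeparated (LimDesc.stageMap D (𝟙 (D.obj j)) f₀ l) :=
      MorphismProperty.of_isPullback (P := @IsSeparated)
        (LimDesc.isPullback_trans_stageMap D (𝟙 (D.obj j)) f₀ e₁) hj₁
    rw [show f₁ = LimDesc.stageMap D (𝟙 (D.obj j)) f₀ l ≫ LimDesc.toStage D (𝟙 (D.obj j)) l from
      (LimDesc.stageMap_toStage D _ f₀ l).symm]
    infer_instance
  have hflat₁ : FlatMod.IsFlatOver f₁ F₁ := fun y =>
    FlatLimMod.isFlatOverAt_comp_iso _ (LimDesc.toStage D (𝟙 (D.obj j)) l)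
      (LimDesc.stageMap_toStage D _ f₀ l) _
      (FlatLimMod.isFlatOverAt_trans D f₀ (𝟙 (D.obj j)) F₀ e₂ y (hj₂ _))
  haveI : LocallyOfFinitePresentation f₁ :=
    MorphismProperty.of_isPullback (P := @LocallyOfFinitePresentation) (LimDesc.isPullback_stage D _ l) ‹_›
  haveI : QuasiCompact f₁ :=
    MorphismProperty.of_isPullback (P := @QuasiCompact) (LimDesc.isPullback_stage D _ l) ‹_›
  have hp₁ : IsPullback q₁ f' f₁ (c.π.app l.left) := by
    have hp : IsPullback q₁ (f' ≫ 𝟙 c.pt) f₁ (c.π.app l.left) := LimDesc.isPullback_proj _ _ _ _ _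
    rw [Category.comp_id f'] at hp
    exact hp
  obtain ⟨k, φ, hk⟩ := ProperModel.exists_isProper_stage D hc (i₀ := l.left) f₁ hp₁
  have hsq : IsPullback (pullback.fst f₁ (D.map φ)) (pullback.snd f₁ (D.map φ)) f₁ (D.map φ) :=
    IsPullback.of_hasPullback _ _
  let q₂ : X ⟶ pullback f₁ (D.map φ) := pullback.lift q₁ (f' ≫ c.π.app k) (by
    rw [hp₁.w, Category.assoc, c.w φ])
  have hp₂ : IsPullback q₂ f' (pullback.snd f₁ (D.map φ)) (c.π.app k) :=
    IsPullback.of_right (by rw [pullback.lift_fst, c.w φ]; exact hp₁) (pullback.lift_snd _ _ _) hsq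
  haveI : IsNoetherianRing ↥(k.unop.1 : Subalgebra ℤ A) :=
    Algebra.FiniteType.isNoetherianRing ℤ k.unop.1 (h := k.unop.1.fg_iff_finiteType.mp k.unop.2)
  refine ⟨k.unop.1, k.unop.2, inferInstance, pullback f₁ (D.map φ), pullback.snd f₁ (D.map φ), hk, q₂,
    (Scheme.Modules.pullback (pullback.fst f₁ (D.map φ))).obj F₁, hp₂,
    QC.isCoh_pullback _ (QC.isCoh_pullback _ (⟨hqc, ModDesc.isFT_of_isFP hfp⟩ : Coh.IsCoh F₀)),
    fun z => FlatModBC.isFlatOverAt_baseChange hsq F₁ z (hflat₁ _), ⟨?_⟩⟩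
  exact (ModDesc.trIso q₂ _ (pullback.lift_fst _ _ _)).app F₁ ≪≫
    (ModDesc.trIso q₁ _ (LimDesc.proj_toBase D _ c hc' l)).app F₀ ≪≫ eF

end Groth.Agent.W7Cech
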