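import Groth.Agent.W7Cech.NNBC
import Groth.Agent.W7Cech.NNModel
import Groth.Agent.W7Cech.FibreAffine

/-!
One complex of finite free modules computing cohomology and fibres, over an arbitrary affine base.
-/

set_option autoImplicit false
set_option backward.isDefEq.respectTransparency false
set_option backward.isDefEq.respectTransparency.types false
set_option linter.style.haveILetI false

universe u

open CategoryTheory CategoryTheory.Limits AlgebraicGeometry TopologicalSpace MonoidalCategory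
open Groth.Agent.SiteCoh
open scoped TensorProduct

noncomputable section

namespace Groth.Agent.W7Cech

variable (A : Type u) [CommRing A] {X : Scheme.{u}} [X.Over (Spec (CommRingCat.of A))]

/-- A complex computing `H^p(F ⊗_A -)` naturally computes the fibres. -/
theorem fibre_of_equiv {ι : Type u} [Finite ι] (W : ι → X.Opens)
    (hW : ∀ (n : ℕ) (a : Fin (n + 1) → ι), IsAffineOpen (tupleProd W a)) (hcov : iSup W = ⊤)
    (F : X.Modules) (hF : Coh.IsQCoh F) (L : CochainComplex (ModuleCat.{u} A) ℤ)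
    (hLf : ∀ i, Module.Finite A (L.X i) ∧ Module.Free A (L.X i)) (p : ℕ)
    (e : ∀ M : ModuleCat.{u} A, ((CohIII.T L (p : ℤ) M : Type u) ≃ₗ[A]
      Coh.HH X ((CohIII.tensorAFunctor A F).obj M) p)) (y : Spec (CommRingCat.of A)) :
    CohIII.fiberRank (X ↘ Spec (CommRingCat.of A)) F p y = CohIII.dRank L (p : ℤ) y ∧
      (Subsingleton (CohIII.fiberH (X ↘ Spec (CommRingCat.of A)) F y p) ↔ CohIII.dRank L (p : ℤ) y = 0) := by
  let f := X ↘ Spec (CommRingCat.of A)
  let k := (Spec (CommRingCat.of A)).residueField y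
  letI : Algebra A k := (resMap A y).hom.toAlgebra
  letI : (f.fiber y).Over (Spec (CommRingCat.of ↥k)) := ⟨f.fiberToSpecResidueField y⟩
  have sq : IsPullback (f.fiberι y) (f.fiberToSpecResidueField y) f (Spec.map (resMap A y)) := by
    rw [SpecMap_resMap]
    exact IsPullback.of_hasPullback f _
  obtain ⟨i₁⟩ := nonempty_hh_bc_lin A k W hW hcov (f.fiberι y) sq F hF p
  obtain ⟨e', -⟩ := exists_TEquiv A W hW hcov F hF p
  let ei : (_ ≅ CohIII.T L (p : ℤ) (ModuleCat.of A k)) :=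
    i₁ ≪≫ ((e (ModuleCat.of A k)).trans (e' (ModuleCat.of A k)).symm).toModuleIso.symm
  obtain ⟨σ, hσ⟩ := exists_residueField_equiv (k := k) (resMap_frac A y) y (resMap_ker A y)
  let κ := (y : PrimeSpectrum A).asIdeal.ResidueField
  let σA : (ModuleCat.of A k) ≅ ModuleCat.of A κ :=
    (σ.toAddEquiv.toLinearEquiv fun a b => by
      change σ (a • b) = a • σ b
      rw [Algebra.smul_def, map_mul, hσ, ← Algebra.smul_def]).toModuleIso
  refine ⟨?_, ?_⟩
  · obtain ⟨i⟩ := nonempty_bcCx_T A L (B := κ) (p : ℤ)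
    let e₂ := (ei ≪≫ (CohIII.TFun L (p : ℤ)).mapIso σA ≪≫ i.symm).toLinearEquiv
    exact finrank_eq_of_linear (A := A) k κ (resMap_frac A y) σ hσ _ _ e₂.toAddEquiv
      fun a v => e₂.map_smul a v
  · rw [← isZero_T_iff_dRank L hLf]
    refine (ei.toLinearEquiv.toEquiv.subsingleton_congr).trans ⟨fun h => ?_, fun h => ?_⟩
    · haveI : Subsingleton ((CohIII.TFun L (p : ℤ)).obj (ModuleCat.of A k)) := h
      exact (ModuleCat.isZero_of_subsingleton _).of_iso ((CohIII.TFun L (p : ℤ)).mapIso σA.symm)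
    · exact ModuleCat.subsingleton_of_isZero (h.of_iso ((CohIII.TFun L (p : ℤ)).mapIso σA))

omit [X.Over (Spec (CommRingCat.of A))] in
/-- Extension of scalars keeps freeness, termwise. -/
lemma free_X_bc {A₀ : Type u} [CommRing A₀] [Algebra A₀ A] {κ : Type} {c : ComplexShape κ}
    (P : HomologicalComplex (ModuleCat.{u} A₀) c) (m : κ) [Module.Free A₀ (P.X m)] :
    Module.Free A ((CohIII.bcCx (algebraMap A₀ A) P).X m) := by
  obtain ⟨φ, rfl⟩ : ∃ φ : A₀ →+* A, ‹Algebra A₀ A› = φ.toAlgebra :=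
    ⟨algebraMap A₀ A, Algebra.algebra_ext _ _ fun _ => rfl⟩
  letI := φ.toAlgebra
  exact inferInstanceAs (Module.Free A (A ⊗[A₀] (P.X m : Type u)))

/-- A noetherian model gives the complex by base change. -/
theorem exists_fibre_model_of_pair {A₀ : Type u} [CommRing A₀] [IsNoetherianRing A₀] [Algebra A₀ A]
    {X₀ : Scheme.{u}} [X₀.Over (Spec (CommRingCat.of A₀))] [IsProper (X₀ ↘ Spec (CommRingCat.of A₀))]
    (q : X ⟶ X₀) (sq : IsPullback q (X ↘ Spec (CommRingCat.of A)) (X₀ ↘ Spec (CommRingCat.of A₀))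
      (Spec.map (CommRingCat.ofHom (algebraMap A₀ A))))
    (F₀ : X₀.Modules) (hF₀ : Coh.IsCoh F₀) (hfl₀ : FlatMod.IsFlatOver (X₀ ↘ Spec (CommRingCat.of A₀)) F₀)
    (F : X.Modules) [Coh.IsQCoh F] (iF : (Scheme.Modules.pullback q).obj F₀ ≅ F) :
    ∃ (L₀ : CochainComplex (ModuleCat.{u} A₀) ℤ) (b : ℤ),
      (∀ i, Module.Finite A₀ (L₀.X i) ∧ Module.Free A₀ (L₀.X i)) ∧ (∀ i, b < i → IsZero (L₀.X i)) ∧
      (∀ (n : ℤ), n < 0 → ∀ M : ModuleCat.{u} A₀, IsZero (CohIII.T L₀ n M)) ∧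
      let L := CohIII.bcCx (algebraMap A₀ A) L₀
      (∀ i, Module.Finite A (L.X i) ∧ Module.Free A (L.X i)) ∧ (∀ i, b < i → IsZero (L.X i)) ∧
      (∀ (n : ℤ), n < 0 → ∀ M : ModuleCat.{u} A, IsZero (CohIII.T L n M)) ∧
      (∀ p : ℕ, ∃ e : ∀ M : ModuleCat.{u} A, ((CohIII.T L (p : ℤ) M : Type u) ≃ₗ[A]
          Coh.HH X ((CohIII.tensorAFunctor A F).obj M) p),
        ∀ (M N : ModuleCat.{u} A) (g : M ⟶ N) (x : (CohIII.T L (p : ℤ) M : Type u)),
          e N (((CohIII.TFun L (p : ℤ)).map g).hom x) =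
            Sheaf.H.map ((SheafOfModules.toSheaf _).map ((CohIII.tensorAFunctor A F).map g)) p (e M x)) ∧
      (∀ (p : ℕ) (y : Spec (CommRingCat.of A)),
        CohIII.fiberRank (X ↘ Spec (CommRingCat.of A)) F p y = CohIII.dRank L (p : ℤ) y) ∧
      (∀ (p : ℕ) (y : Spec (CommRingCat.of A)),
        Subsingleton (CohIII.fiberH (X ↘ Spec (CommRingCat.of A)) F y p) ↔ CohIII.dRank L (p : ℤ) y = 0) := by
  haveI : CompactSpace X₀ := QuasiCompact.compactSpace_of_compactSpace (X₀ ↘ Spec (CommRingCat.of A₀))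
  haveI : X₀.IsSeparated := by
    constructor
    rw [← terminal.comp_from (X₀ ↘ Spec (CommRingCat.of A₀))]
    infer_instance
  obtain ⟨ι, hι, W, hW, hcov⟩ := exists_cover X₀
  haveI := hι
  let sq' := sq
  let φ : A₀ →+* A := algebraMap A₀ A
  let W' := pre q W
  have hW' := isAffineOpen_pre A₀ A q sq' W hW
  have hcov' : iSup W' = ⊤ := iSup_pre q W hcov
  obtain ⟨L₀, b, hLf, hLb, hneg, hL⟩ := exists_approx A₀ F₀ hF₀ hfl₀
  let L : CochainComplex (ModuleCat.{u} A) ℤ := CohIII.bcCx φ L₀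
  have hLf' : ∀ i, Module.Finite A (L.X i) ∧ Module.Free A (L.X i) := fun i => by
    haveI := (hLf i).1
    haveI := (hLf i).2
    exact ⟨finite_X_bc L₀ i, free_X_bc A L₀ i⟩
  refine ⟨L₀, b, hLf, hLb, hneg, hLf', fun i hi => (ModuleCat.extendScalars φ).map_isZero (hLb i hi), fun n hn M => ?_, ?_⟩
  · obtain ⟨i⟩ := nonempty_TFun_bcCx A φ L₀ n
    haveI : Subsingleton ((ModuleCat.restrictScalars φ).obj (CohIII.T L n M) : Type u) :=
      ModuleCat.subsingleton_of_isZero
        ((hneg n hn ((ModuleCat.restrictScalars φ).obj M)).of_iso (i.app M).symm)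
    exact @ModuleCat.isZero_of_subsingleton _ _ (CohIII.T L n M)
      (inferInstanceAs (Subsingleton ((ModuleCat.restrictScalars φ).obj (CohIII.T L n M) : Type u)))
  have hp : ∀ p : ℕ, ∃ e : ∀ M : ModuleCat.{u} A, ((CohIII.T L (p : ℤ) M : Type u) ≃ₗ[A]
      Coh.HH X ((CohIII.tensorAFunctor A F).obj M) p),
      ∀ (M N : ModuleCat.{u} A) (g : M ⟶ N) (x : (CohIII.T L (p : ℤ) M : Type u)),
        e N (((CohIII.TFun L (p : ℤ)).map g).hom x) =
          Sheaf.H.map ((SheafOfModules.toSheaf _).map ((CohIII.tensorAFunctor A F).map g)) p (e M x) := by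
    intro p
    obtain ⟨i⟩ := nonempty_TFun_bcCx A φ L₀ (p : ℤ)
    obtain ⟨e₀, he₀⟩ := hL p
    obtain ⟨e₀', he₀'⟩ := exists_TEquiv A₀ W hW hcov F₀ hF₀.1 p
    let η₀ : CohIII.TFun L₀ (p : ℤ) ≅ CohIII.TFun ((CC A₀ W).obj F₀) p :=
      NatIso.ofComponents (fun M => ((e₀ M).trans (e₀' M).symm).toModuleIso) fun {M N} g => by
        refine ModuleCat.hom_ext (LinearMap.ext fun x => (e₀' N).injective ?_)
        change e₀' N ((e₀' N).symm (e₀ N (((CohIII.TFun L₀ (p : ℤ)).map g).hom x))) =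
          e₀' N (((CohIII.TFun ((CC A₀ W).obj F₀) p).map g).hom ((e₀' M).symm (e₀ M x)))
        rw [LinearEquiv.apply_symm_apply, he₀, he₀', LinearEquiv.apply_symm_apply]
    obtain ⟨j⟩ := nonempty_TFun_bc A₀ A q W F₀ sq' hW hF₀.1 p
    obtain ⟨η⟩ := exists_linear_natIso φ (CohIII.TFun L (p : ℤ))
      (CohIII.TFun ((CC A W').obj ((Scheme.Modules.pullback q).obj F₀)) p)
      (TFun_map_smul L (p : ℤ)) (TFun_map_smul _ p)
      (i.symm ≪≫ Functor.isoWhiskerLeft (ModuleCat.restrictScalars φ) η₀ ≪≫ j)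
    let c := (CC A W').mapIso iF
    let ηF : CohIII.TFun ((CC A W').obj ((Scheme.Modules.pullback q).obj F₀)) p ≅
        CohIII.TFun ((CC A W').obj F) p :=
      NatIso.ofComponents (fun M => HomologicalComplex.homologyMapIso
        (((tensorRight M).mapHomologicalComplex (ComplexShape.up ℕ)).mapIso c) p) fun {M N} g => by
        change HomologicalComplex.homologyMap (CohIII.tensorMap _ g) p ≫
            HomologicalComplex.homologyMap (((tensorRight N).mapHomologicalComplex _).map c.hom) p =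
          HomologicalComplex.homologyMap (((tensorRight M).mapHomologicalComplex _).map c.hom) p ≫
            HomologicalComplex.homologyMap (CohIII.tensorMap _ g) p
        rw [← HomologicalComplex.homologyMap_comp, ← HomologicalComplex.homologyMap_comp]
        congr 1
        exact ((NatTrans.mapHomologicalComplex ((tensoringRight (ModuleCat.{u} A)).map g)
          (ComplexShape.up ℕ)).naturality c.hom).symm
    obtain ⟨e', he'⟩ := exists_TEquiv A W' hW' hcov' F ‹Coh.IsQCoh F› p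
    refine ⟨fun M => ((η ≪≫ ηF).app M).toLinearEquiv.trans (e' M), fun M N g x => ?_⟩
    refine Eq.trans ?_ (he' M N g (((η ≪≫ ηF).app M).toLinearEquiv x))
    exact congrArg (e' N)
      (LinearMap.congr_fun (congrArg ModuleCat.Hom.hom ((η ≪≫ ηF).hom.naturality g)) x)
  refine ⟨hp, fun p y => ?_, fun p y => ?_⟩
  · obtain ⟨e, -⟩ := hp p
    exact (fibre_of_equiv A W' hW' hcov' F ‹_› L hLf' p e y).1
  · obtain ⟨e, -⟩ := hp p
    exact (fibre_of_equiv A W' hW' hcov' F ‹_› L hLf' p e y).2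

variable [IsProper (X ↘ Spec (CommRingCat.of A))] [LocallyOfFinitePresentation (X ↘ Spec (CommRingCat.of A))]

/-- One complex computes `H^p(F ⊗_A -)` and the fibres, without noetherian hypotheses. -/
theorem exists_fibre_model_nn (F : X.Modules) [Coh.IsQCoh F] (hF : CohB1.IsFP F)
    (hfl : FlatMod.IsFlatOver (X ↘ Spec (CommRingCat.of A)) F) :
    ∃ (L : CochainComplex (ModuleCat.{u} A) ℤ) (b : ℤ),
      (∀ i, Module.Finite A (L.X i) ∧ Module.Free A (L.X i)) ∧ (∀ i, b < i → IsZero (L.X i)) ∧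
      (∀ (n : ℤ), n < 0 → ∀ M : ModuleCat.{u} A, IsZero (CohIII.T L n M)) ∧
      (∀ p : ℕ, ∃ e : ∀ M : ModuleCat.{u} A, ((CohIII.T L (p : ℤ) M : Type u) ≃ₗ[A]
          Coh.HH X ((CohIII.tensorAFunctor A F).obj M) p),
        ∀ (M N : ModuleCat.{u} A) (g : M ⟶ N) (x : (CohIII.T L (p : ℤ) M : Type u)),
          e N (((CohIII.TFun L (p : ℤ)).map g).hom x) =
            Sheaf.H.map ((SheafOfModules.toSheaf _).map ((CohIII.tensorAFunctor A F).map g)) p (e M x)) ∧
      (∀ (p : ℕ) (y : Spec (CommRingCat.of A)),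
        CohIII.fiberRank (X ↘ Spec (CommRingCat.of A)) F p y = CohIII.dRank L (p : ℤ) y) ∧
      (∀ (p : ℕ) (y : Spec (CommRingCat.of A)),
        Subsingleton (CohIII.fiberH (X ↘ Spec (CommRingCat.of A)) F y p) ↔ CohIII.dRank L (p : ℤ) y = 0) := by
  obtain ⟨A₀, -, hN, X₀, f₀, hf₀, q, F₀, sq, hF₀, hfl₀, ⟨iF⟩⟩ :=
    exists_proper_flat_pair (X ↘ Spec (CommRingCat.of A)) F hF hfl
  letI : X₀.Over (Spec (CommRingCat.of ↥A₀)) := ⟨f₀⟩
  haveI : IsNoetherianRing ↥A₀ := hN
  haveI : IsProper (X₀ ↘ Spec (CommRingCat.of ↥A₀)) := hf₀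
  obtain ⟨L₀, b, -, -, -, h⟩ := exists_fibre_model_of_pair A (A₀ := ↥A₀) q sq F₀ hF₀ hfl₀ F iF
  exact ⟨_, b, h⟩

end Groth.Agent.W7Cech
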