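import Groth.Agent.W7Cech.NNModel
import Groth.Agent.ModDesc.LocFreeDesc
import Groth.Agent.ZeroSch.Basic
import Groth.Agent.FlatModBC.Basic

/-!
Noetherian approximation of a proper morphism with a flat module and invertible modules.
-/

set_option autoImplicit false
set_option backward.isDefEq.respectTransparency false
set_option linter.style.haveILetI false

universe u

open CategoryTheory CategoryTheory.Limits AlgebraicGeometry

noncomputable section

namespace Groth.Agent.W7Cech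

lemma rankOne_of_isInvertible {X : Scheme.{u}} {L : X.Modules} (h : PicF.IsInvertible L) :
    FlatMod.IsFinLocFreeOfRank 1 L := fun x => by
  obtain ⟨U, hx, ⟨φ⟩⟩ := h x
  exact ⟨U, hx, ⟨φ ≪≫ (coproductUniqueIso (fun _ : Fin 1 => Coh.structureModule U.toScheme)).symm⟩⟩

/-- A noetherian model of a proper flat pair, with models of finitely many invertible modules. -/
theorem exists_model_invertible {A : Type u} [CommRing A] {X : Scheme.{u}}
    (f : X ⟶ Spec (CommRingCat.of A)) [IsProper f] [LocallyOfFinitePresentation f] (F : X.Modules)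
    [Coh.IsQCoh F] (hF : CohB1.IsFP F) (hfl : FlatMod.IsFlatOver f F) {t : ℕ} (L : Fin t → X.Modules)
    (hL : ∀ i, PicF.IsInvertible (L i)) :
    ∃ (A₀ : Subalgebra ℤ A) (_ : IsNoetherianRing ↥A₀) (X₀ : Scheme.{u})
      (f₀ : X₀ ⟶ Spec (CommRingCat.of ↥A₀)) (_ : IsProper f₀) (q : X ⟶ X₀) (F₀ : X₀.Modules)
      (L₀ : Fin t → X₀.Modules),
      IsPullback q f f₀ (Spec.map (CommRingCat.ofHom A₀.val.toRingHom)) ∧ Coh.IsCoh F₀ ∧
        FlatMod.IsFlatOver f₀ F₀ ∧ Nonempty ((Scheme.Modules.pullback q).obj F₀ ≅ F) ∧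
        (∀ i, PicF.IsInvertible (L₀ i)) ∧ ∀ i, Nonempty ((Scheme.Modules.pullback q).obj (L₀ i) ≅ L i) := by
  obtain ⟨A₁, hA₁, hN₁, X₁, f₁, hf₁, q₁, F₁, sq₁, hF₁, hfl₁, ⟨i₁⟩⟩ := exists_proper_flat_pair f F hF hfl
  haveI := hf₁
  haveI : IsCofiltered (LimModel.FgSub A)ᵒᵖ := isCofiltered_op_of_isFiltered _
  let D := LimModel.fgDiagram A
  let c := LimModel.fgCone A
  let hc := LimModel.fgIsLimit A
  haveI : ∀ {i j : (LimModel.FgSub A)ᵒᵖ} (f : i ⟶ j), IsAffineHom (D.map f) := fun f =>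
    inferInstanceAs (IsAffineHom ((LimModel.fgDiagram A).map f))
  let k : (LimModel.FgSub A)ᵒᵖ := Opposite.op ⟨A₁, hA₁⟩
  let f₁' : X₁ ⟶ D.obj k := f₁
  haveI : IsProper f₁' := hf₁
  have hsq : IsPullback q₁ f f₁' (c.π.app k) := sq₁
  haveI : IsNoetherianRing ↥A₁ := hN₁
  haveI : CompactSpace X₁ := QuasiCompact.compactSpace_of_compactSpace f₁
  haveI : QuasiSeparatedSpace X₁ := quasiSeparatedSpace_of_quasiSeparated f₁
  let T := LimDesc.tower D f₁'
  let cT := LimDesc.towerCone D f₁' c (g := (f : X ⟶ c.pt)) hsq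
  let hcT := LimDesc.isLimitTowerCone D f₁' c (g := (f : X ⟶ c.pt)) hsq hc
  haveI : ∀ {i j : Over k} (a : i ⟶ j), IsAffineHom (T.map a) := fun a => LimDesc.isAffineHom_tower_map D f₁' a
  let o : Over k := Over.mk (𝟙 k)
  haveI : ∀ j : Over k, CompactSpace (T.obj j) := fun j => LimDesc.compactSpace_stage D f₁' j
  haveI : ∀ j : Over k, QuasiSeparatedSpace (T.obj j) := fun j => LimDesc.quasiSeparatedSpace_stage D f₁' j
  have hstep : ∀ i, ∃ (j : Over k) (G : (T.obj j).Modules), Coh.IsQCoh G ∧ FlatMod.IsFinLocFreeOfRank 1 G ∧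
      Nonempty ((Scheme.Modules.pullback (cT.π.app j)).obj G ≅ L i) := by
    intro i
    haveI : Coh.IsQCoh (X := cT.pt) (L i) := TMul.isQCoh_of_isInvertible (hL i)
    have hfp : CohB1.IsFP (L i) := LocFree.isFP_of_isFinLocFree fun x =>
      let ⟨U, hx, e⟩ := rankOne_of_isInvertible (hL i) x; ⟨U, 1, hx, e⟩
    obtain ⟨j, -, G, hG, hGfp, ⟨e⟩⟩ := ModDesc.exists_descend (D := T) (c := cT) (F := L i) hcT hfp (i₀ := o)
    haveI := hG
    have hr : FlatMod.IsFinLocFreeOfRank 1 ((Scheme.Modules.pullback (cT.π.app j)).obj G) := fun x => by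
      obtain ⟨U, hx, ⟨φ⟩⟩ := rankOne_of_isInvertible (hL i) x
      exact ⟨U, hx, ⟨(Scheme.Modules.restrictFunctor U.ι).mapIso e ≪≫ φ⟩⟩
    obtain ⟨j', φ, hj'⟩ := ModDesc.exists_isFinLocFreeOfRank_stage T cT hcT hGfp hr
    exact ⟨j', (Scheme.Modules.pullback (T.map φ)).obj G, QC.isQCoh_pullback _ hG, hj',
      ⟨(ModDesc.trIso (cT.π.app j') (T.map φ) (cT.w φ)).app G ≪≫ e⟩⟩
  choose j G hGq hG hGi using hstep
  classical
  obtain ⟨l₀, hl₀⟩ := IsCofiltered.inf_objs_exists (insert o (Finset.univ.image j))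
  have a : ∀ i, l₀ ⟶ j i := fun i =>
    (hl₀ (Finset.mem_insert_of_mem (Finset.mem_image_of_mem j (Finset.mem_univ i)))).some
  haveI : IsNoetherianRing ↥(l₀.left.unop.1 : Subalgebra ℤ A) :=
    Algebra.FiniteType.isNoetherianRing ℤ l₀.left.unop.1 (h := l₀.left.unop.1.fg_iff_finiteType.mp l₀.left.unop.2)
  have hst : IsPullback (LimDesc.toBase D f₁' l₀) (LimDesc.toStage D f₁' l₀) f₁' (D.map l₀.hom) :=
    LimDesc.isPullback_stage D f₁' l₀
  refine ⟨l₀.left.unop.1, inferInstance, T.obj l₀, LimDesc.toStage D f₁' l₀,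
    MorphismProperty.of_isPullback (P := @IsProper) hst ‹_›, cT.π.app l₀,
    (Scheme.Modules.pullback (LimDesc.toBase D f₁' l₀)).obj F₁,
    fun i => (Scheme.Modules.pullback (T.map (a i))).obj (G i),
    LimDesc.isPullback_proj D f₁' c (g := (f : X ⟶ c.pt)) hsq l₀, QC.isCoh_pullback _ hF₁,
    fun z => FlatModBC.isFlatOverAt_baseChange hst F₁ z (hfl₁ _),
    ⟨(ModDesc.trIso (cT.π.app l₀) _ (LimDesc.proj_toBase D f₁' c hsq l₀)).app F₁ ≪≫ i₁⟩,
    fun i => ZeroSch.isInvertible_of_rankOne fun x => ?_,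
    fun i => ⟨(ModDesc.trIso (cT.π.app l₀) (T.map (a i)) (cT.w (a i))).app (G i) ≪≫ (hGi i).some⟩⟩
  obtain ⟨U, hx, ⟨φ⟩⟩ := hG i ((T.map (a i)).base x)
  exact ⟨T.map (a i) ⁻¹ᵁ U, hx, ⟨(DerPerf.pullRestrictIso (T.map (a i)) U).app (G i) ≪≫
    (Scheme.Modules.pullback (T.map (a i) ∣_ U)).mapIso φ ≪≫ DerPerf.pullFreeIso (T.map (a i) ∣_ U) 1⟩⟩

end Groth.Agent.W7Cech
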